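import Cfsg.Agent.Omega.NO3S.CaseLW.LThm.Flat3

/-!
# THEOREM L(q) (#26406) : the two structures  (helper202)

* `Sit V L Q T Y K ZJ R Nn Zz q` : everything which does not depend on `F`; `R = ⟨Z_J^Y⟩`, the lines are
  `conj y • Zz l` with the modules `conj y • Nn l`;
* `At V L Q ZJ q F` : one `F = F₃` with `A₃ = W ⊓ C(L)`.
-/

set_option autoImplicit false

namespace Cfsg.Agent.Omega.NO3S.CaseLW.LThm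

open Subgroup Cfsg
open Cfsg.Agent.Omega.NOne.Flat (Hyp EE WW NN)
open scoped Pointwise

universe u

variable {G : Type u} [Group G]

/-- **The situation**, without `F`. -/
structure Sit {ι : Type*} (V L Q T Y K ZJ R : Subgroup G) (Nn Zz : ι → Subgroup G) (q : ℕ) : Prop where
  four : 4 ≤ q
  Vc : ∀ x ∈ V, ∀ y ∈ V, x * y = y * x
  Vs : ∀ x ∈ V, x * x = 1
  LV : L ≤ V
  QL : Q ≤ centralizer (L : Set G)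
  /-- `C_V(Q) ≤ L` -/
  cVQ : V ⊓ centralizer (Q : Set G) ≤ L
  QT : Q ≤ T
  TY : T ≤ Y
  T2 : IsPGroup 2 T
  VT : V ≤ T
  YV : Y ≤ normalizer (V : Set G)
  /-- `T` normalises `Z_J` -/
  TZ : T ≤ normalizer (ZJ : Set G)
  NL : ∀ l, Nn l ≤ L
  ZN : ∀ l, Zz l ≤ Nn l
  ZJL : ZJ ≤ L
  Zle : ∀ l, Zz l ≤ ZJ
  cardZ : ∀ l, Nat.card (Zz l) = q
  cardN : ∀ l, Nat.card (Nn l) = q * q
  /-- `R ≤ M` as soon as all lines are in `M` -/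
  Rle : ∀ M : Subgroup G, (∀ y ∈ Y, ∀ l, MulAut.conj y • Zz l ≤ M) → R ≤ M
  ZR : ∀ y ∈ Y, MulAut.conj y • ZJ ≤ R
  YR : Y ≤ normalizer (R : Set G)
  /-- `R ∩ L = Z_J` -/
  RL : R ⊓ L ≤ ZJ
  /-- `C_T(R) ≤ O₂(Y) ≤ T^y` -/
  oY : ∀ y ∈ Y, T ⊓ centralizer (R : Set G) ≤ MulAut.conj y • T
  /-- `[L, K] ≤ Z_J` -/
  KL : ∀ a ∈ K, ∀ l ∈ L, a * l * a⁻¹ * l⁻¹ ∈ ZJ
  /-- **(IND)** -/
  ind : ∀ y ∈ Y, ∀ l, ∀ w ∈ MulAut.conj y • Nn l, w ∉ MulAut.conj y • Zz l → ∀ x ∈ MulAut.conj y • Zz l,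
    ∃ a ∈ K, a * w * a⁻¹ = w * x ∧ ∀ y' ∈ Y, ∀ l', MulAut.conj y' • Zz l' ≠ MulAut.conj y • Zz l →
      ∀ u ∈ MulAut.conj y' • Nn l', a * u = u * a
  /-- **(FT)**, root elements -/
  ft : ∀ l, ∀ t ∈ T, (∀ v ∈ Zz l, t * v = v * t) →
    (∀ w ∈ Nn l, t * w * t⁻¹ * w⁻¹ ∈ Zz l) ∧
      ((∀ w ∈ Nn l, t * w = w * t) ∨ ∀ z ∈ Zz l, ∃ w ∈ Nn l, z = t * w * t⁻¹ * w⁻¹)
  /-- `T` acts on `Z_l` as a cyclic group -/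
  cyc : ∀ l, ∃ g : G, (∀ v ∈ Zz l, g * v * g⁻¹ ∈ Zz l) ∧ ∀ t ∈ T, (∀ v ∈ Zz l, t * v * t⁻¹ ∈ Zz l) →
    ∃ n : ℤ, ∀ v ∈ Zz l, t * v * t⁻¹ = g ^ n * v * (g ^ n)⁻¹
  /-- `T` is Sylow in `N_Y(Z_l)` -/
  syl : ∀ y ∈ Y, ∀ l, ∀ X ≤ Y, IsPGroup 2 X → X ≤ normalizer ((MulAut.conj y • Zz l : Subgroup G) : Set G) →
    ∃ y' ∈ Y, MulAut.conj y' • Zz l = MulAut.conj y • Zz l ∧ X ≤ MulAut.conj y' • T
  /-- a quadratic offender `A ≤ T` on `N_l` centralises `Z_l` -/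
  off : ∀ l, ∀ A ≤ T, (∀ w ∈ Nn l, ∀ a ∈ A, ∀ b ∈ A, b * (a * w * a⁻¹ * w⁻¹) = a * w * a⁻¹ * w⁻¹ * b) →
    (centralizer (A : Set G)).relIndex (Nn l) ≤ (centralizer (Nn l : Set G)).relIndex A →
      ∀ a ∈ A, ∀ v ∈ Zz l, a * v = v * a

/-- **One `F = F₃`**, `A₃ = W ⊓ C(L)`. -/
structure At (V L Q ZJ : Subgroup G) (q : ℕ) (F : Subgroup G) : Prop where
  hyp : Hyp V F
  LE : L ≤ EE V F
  /-- `|L F : F| ≥ q` -/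
  qF : q ≤ F.relIndex L
  LLc : ∀ x ∈ LL L F, ∀ y ∈ LL L F, x * y = y * x
  LLs : ∀ x ∈ LL L F, x * x = 1
  /-- `A₃ ≤ Q` -/
  AQ : WW V F ⊓ centralizer (L : Set G) ≤ Q
  WQ : WW V F ≤ normalizer (Q : Set G)
  WL : WW V F ≤ normalizer (L : Set G)
  /-- `[L, W₃] ∩ Z_J = 1` -/
  LWZ : LW L V F ⊓ ZJ = ⊥
  /-- `C_E(A₃) ≤ L F` -/
  cE : EE V F ⊓ centralizer ((WW V F ⊓ centralizer (L : Set G) : Subgroup G) : Set G) ≤ L ⊔ F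
  /-- `A₃` is best on `E₃` -/
  best : ∀ N ≤ EE V F, (centralizer ((WW V F ⊓ centralizer (L : Set G) : Subgroup G) : Set G)).relIndex N ≤
    (centralizer (N : Set G)).relIndex (WW V F ⊓ centralizer (L : Set G))

end Cfsg.Agent.Omega.NO3S.CaseLW.LThm
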