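import Cfsg.Agent.Omega.NO3S.CaseLW.LThm.GEnd
import Cfsg.Agent.Omega.NO3S.CaseLW.LThm.Struct

/-!
# THEOREM L(q) (#26406): the structure `At` over `WQ`, `Bg`

* `qF` : `W_F` moves some `W i` : `q ≤ |V_P : V_P ∩ F^g|`;
* `LL_comm`, `LL_sq` : `⟨V_P^{C_G(F^g)}⟩` is elementary abelian;
* `A_le` : `C_{W_(F^g)}(V_P) ≤ O₂(P)`;
* `best` : `C_{W_(F^g)}(V_P)` is best on the subgroups of `E_(F^g)`;
* **`at_of`** : `At V V_P O₂(P) Z_J q (F^g)`; `exists_at` : for `1 ≠ z ∈ Z_J` some `F^g` does not contain `z`.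
-/

set_option autoImplicit false
set_option linter.unusedSectionVars false
set_option linter.dupNamespace false

namespace Cfsg.Agent.Omega.NO3S.CaseLW.LThm.AtG

open Subgroup Cfsg Cfsg.Agent.ZN Cfsg.Agent.ZN.ChoiceBase Cfsg.Agent.Omega.MinPar Cfsg.Agent.Omega.Frame
open Cfsg.Agent.Omega.NOne.NearFF (c)
open Cfsg.Agent.Omega.NO3S.EThree.Frame (Bg Fg)
open Cfsg.Agent.Omega.NO3S.Level
open Cfsg.Agent.Omega.NO3S.RedC
open Cfsg.Agent.Omega.NO3S.WY
open Cfsg.Agent.Omega.NO3S.CaseLW.QWc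
open Cfsg.Agent.Omega.NO3S.CaseLW.LThm
open Cfsg.Agent.Omega.NO3b.EZero (cl cl_le le_cl cj_le_cl le_normalizer_cl)
open scoped Pointwise commutatorElement

universe u

variable {G : Type u} [Group G] [Finite G]

/-- `A` best on `E` : `|N : C_N(A)| ≤ |A : C_A(N)|` for `N ≤ E` -/
theorem rel_of_max {E A N : Subgroup G} (hEc : E ≤ centralizer (E : Set G))
    (hmax : ∀ A' ≤ A, Nat.card A' * Nat.card ↥(E ⊓ centralizer (A' : Set G)) ≤
      Nat.card A * Nat.card ↥(E ⊓ centralizer (A : Set G))) (hN : N ≤ E) :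
    (centralizer (A : Set G)).relIndex N ≤ (centralizer (N : Set G)).relIndex A := by
  set A' : Subgroup G := A ⊓ centralizer (N : Set G) with hA'
  set K : Subgroup G := E ⊓ centralizer (A : Set G) with hK
  have h1 := hmax A' inf_le_left
  have h2 : N ⊔ K ≤ E ⊓ centralizer (A' : Set G) :=
    sup_le (le_inf hN (le_centralizer_iff.1 inf_le_right)) (inf_le_inf_left _ (centralizer_le inf_le_left))
  have hn : N ≤ normalizer (K : Set G) :=
    ((hN.trans hEc).trans (centralizer_le (inf_le_left : K ≤ E))).trans (centralizer_le_normalizer _)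
  have h3 := NOne.Flat.Off.card_sup_mul_inf hn
  have h4 : N ⊓ K = N ⊓ centralizer (A : Set G) := by
    rw [hK, ← inf_assoc, inf_eq_left.2 hN]
  rw [h4] at h3
  have h5 := card_le_of_le h2
  have e1 := NOne.Flat.card_mul_relIndex' (inf_le_left : N ⊓ centralizer (A : Set G) ≤ N)
  rw [inf_relIndex_left] at e1
  have e2 := NOne.Flat.card_mul_relIndex' (inf_le_left : A ⊓ centralizer (N : Set G) ≤ A)
  rw [inf_relIndex_left] at e2
  have p1 : 0 < Nat.card ↥(N ⊓ centralizer (A : Set G)) := Nat.card_pos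
  have p2 : 0 < Nat.card K := Nat.card_pos
  have p3 : 0 < Nat.card A' := Nat.card_pos
  refine Nat.le_of_mul_le_mul_left (c := 1) ?_ Nat.one_pos |> fun h => by simpa using h
  refine Nat.le_of_mul_le_mul_left ?_ (Nat.mul_pos p3 (Nat.mul_pos p2 p1))
  calc Nat.card A' * (Nat.card K * Nat.card ↥(N ⊓ centralizer (A : Set G))) *
        (1 * (centralizer (A : Set G)).relIndex N)
      = Nat.card A' * (Nat.card ↥(N ⊓ centralizer (A : Set G)) * (centralizer (A : Set G)).relIndex N *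
          Nat.card K) := by ring
    _ = Nat.card A' * (Nat.card N * Nat.card K) := by rw [e1]
    _ = Nat.card A' * (Nat.card ↥(N ⊔ K) * Nat.card ↥(N ⊓ centralizer (A : Set G))) := by rw [h3]
    _ ≤ Nat.card A' * (Nat.card ↥(E ⊓ centralizer (A' : Set G)) *
          Nat.card ↥(N ⊓ centralizer (A : Set G))) := Nat.mul_le_mul_left _ (Nat.mul_le_mul_right _ h5)
    _ = Nat.card A' * Nat.card ↥(E ⊓ centralizer (A' : Set G)) *
          Nat.card ↥(N ⊓ centralizer (A : Set G)) := by ring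
    _ ≤ Nat.card A * Nat.card K * Nat.card ↥(N ⊓ centralizer (A : Set G)) := Nat.mul_le_mul_right _ h1
    _ = Nat.card A' * (centralizer (N : Set G)).relIndex A * Nat.card K *
          Nat.card ↥(N ⊓ centralizer (A : Set G)) := by rw [e2]
    _ = _ := by ring

/-- exact lines: `|C_W(L)| |C_E(C_W(L))| = |W| |C_E(W)|` is maximal -/
theorem max_AF {V F L : Subgroup G} (hF : NOne.Flat.Hyp V F) (hL : L ≤ NOne.Flat.EE V F)
    (hex : (centralizer (L : Set G)).relIndex (NOne.Flat.WW V F) ≤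
      (centralizer (NOne.Flat.WW V F : Set G)).relIndex L) :
    ∀ A' ≤ NOne.Flat.WW V F ⊓ centralizer (L : Set G),
      Nat.card A' * Nat.card ↥(NOne.Flat.EE V F ⊓ centralizer (A' : Set G)) ≤
      Nat.card ↥(NOne.Flat.WW V F ⊓ centralizer (L : Set G)) *
        Nat.card ↥(NOne.Flat.EE V F ⊓ centralizer
          ((NOne.Flat.WW V F ⊓ centralizer (L : Set G) : Subgroup G) : Set G)) := by
  intro A' hA'
  set W := NOne.Flat.WW V F with hW
  set E := NOne.Flat.EE V F with hE
  set A : Subgroup G := W ⊓ centralizer (L : Set G) with hA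
  have h1 := her hF (U := E) le_rfl (W' := A') (hA'.trans inf_le_left)
  rw [← hW, hF.cent_EW] at h1
  rw [WY.cent_AF hF hL hex]
  have hLF : L ≤ normalizer (F : Set G) :=
    ((hL.trans inf_le_left).trans (hF.comm.trans (centralizer_le hF.F_le_V))).trans (centralizer_le_normalizer _)
  have e2 := NOne.Flat.Off.card_sup_mul_inf hLF
  have e3 : L ⊓ F = L ⊓ centralizer (W : Set G) := by
    apply le_antisymm
    · refine inf_le_inf_left _ ?_
      rw [le_centralizer_iff]
      exact NOne.Flat.Hyp.W_le_X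
    · refine le_inf inf_le_left ?_
      rw [← hF.cent_EW]
      exact inf_le_inf_right _ hL
  rw [e3] at e2
  have e4 := NOne.Flat.card_mul_relIndex' (inf_le_left : L ⊓ centralizer (W : Set G) ≤ L)
  rw [inf_relIndex_left] at e4
  have e1 : Nat.card A * (centralizer (L : Set G)).relIndex W = Nat.card W := by
    have e0 := NOne.Flat.card_mul_relIndex' (inf_le_left : W ⊓ centralizer (L : Set G) ≤ W)
    rwa [inf_relIndex_left] at e0
  have hp2 : 0 < Nat.card ↥(L ⊓ centralizer (W : Set G)) := Nat.card_pos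
  refine h1.trans (Nat.le_of_mul_le_mul_right ?_ hp2)
  calc Nat.card W * Nat.card F * Nat.card ↥(L ⊓ centralizer (W : Set G))
      = Nat.card A * (centralizer (L : Set G)).relIndex W * Nat.card F *
          Nat.card ↥(L ⊓ centralizer (W : Set G)) := by rw [e1]
    _ ≤ Nat.card A * (centralizer (W : Set G)).relIndex L * Nat.card F *
          Nat.card ↥(L ⊓ centralizer (W : Set G)) :=
        Nat.mul_le_mul_right _ (Nat.mul_le_mul_right _ (Nat.mul_le_mul_left _ hex))
    _ = Nat.card A * ((Nat.card ↥(L ⊓ centralizer (W : Set G)) * (centralizer (W : Set G)).relIndex L) *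
          Nat.card F) := by ring
    _ = Nat.card A * (Nat.card L * Nat.card F) := by rw [e4]
    _ = Nat.card A * (Nat.card ↥(L ⊔ F) * Nat.card ↥(L ⊓ centralizer (W : Set G))) := by rw [e2]
    _ = _ := by ring

section wq

variable {S : Sylow 2 G} {P T Y V B : Subgroup G} {ι : Type} {L W Z C : ι → Subgroup G} {q : ℕ}
  (h : WQ S P T Y) (hB : Bg S P B (WY.ZJ (S : Subgroup G) P) L W Z C q) (hV : Md S P Y V)
  {g : G} (hg : g ∈ P) (hgen : Gen W Z C g) {F : Subgroup G} (hF : NOne.Flat.Hyp V F)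
  (hW : NOne.Flat.WW V F ≤ (S : Subgroup G))
include h hB hV hg hgen hF hW

/-- `q ≤ |V_P : V_P ∩ F^g|` -/
theorem qF {i : ι} (hi : ¬ NOne.Flat.WW V F ≤ centralizer (W i : Set G)) :
    q ≤ (MulAut.conj g • F).relIndex (zl (S : Subgroup G) P) := by
  have hBB : WY.BB (S : Subgroup G) P = B := hB.eqB.symm
  have hWB : NOne.Flat.WW V F ≤ B := hBB ▸ h.W_B hV hF hW
  have hgL : MulAut.conj g • zl (S : Subgroup G) P = zl (S : Subgroup G) P := cj_L h hV hg
  have e1 : (MulAut.conj g • F).relIndex (zl (S : Subgroup G) P) = F.relIndex (zl (S : Subgroup G) P) := by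
    conv_lhs => rw [← hgL]
    exact relIndex_pointwise_smul _ _ _
  rw [e1]
  have h1 : F.relIndex (W i) ≤ F.relIndex (zl (S : Subgroup G) P) :=
    relIndex_le_of_le_right (hB.fr.WV i) index_ne_zero_of_finite
  refine le_trans ?_ h1
  have h2 : F ⊓ W i ≤ Z i := by
    rintro w ⟨hwF, hw⟩
    by_contra hwZ
    apply hi
    intro b hb
    exact mem_centralizer_iff.2 fun u hu => ((hB.fr.blk i).free b (hWB hb) w hw hwZ
      (NOne.Flat.Hyp.F_comm hwF (NOne.Flat.Hyp.W_le_X hb)).symm u hu).symm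
  have h3 : (Z i).relIndex (W i) ≤ F.relIndex (W i) := by
    rw [← inf_relIndex_right F (W i)]
    exact relIndex_le_of_le_left h2 index_ne_zero_of_finite
  refine le_trans (le_of_eq ?_) h3
  have h4 := NOne.Flat.card_mul_relIndex' (hB.fr.blk i).ZV
  rw [(hB.fr.blk i).card, hB.fr.cardZ i] at h4
  have h5 : 0 < q := by have := (hB.fr.blk i).one; omega
  exact (Nat.eq_of_mul_eq_mul_left h5 h4).symm

/-- conjugates of `V_P` under `C_G(F^g)` commute -/
theorem L_comm [Finite ι] (i : ι) {x y : G} (hx : x ∈ centralizer ((MulAut.conj g • F : Subgroup G) : Set G))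
    (hy : y ∈ centralizer ((MulAut.conj g • F : Subgroup G) : Set G)) :
    cj x (zl (S : Subgroup G) P) ≤ centralizer ((cj y (zl (S : Subgroup G) P) : Subgroup G) : Set G) := by
  have hZF : cj g (Z i) ≤ MulAut.conj g • F := cj_mono g ((hB.fr.Z_le i).trans (h.ZJ_le_F hV hF hW))
  have key : ∀ x ∈ centralizer ((MulAut.conj g • F : Subgroup G) : Set G),
      g⁻¹ * x * g ∈ normalizer (Z i : Set G) := by
    intro x hx
    have h1 : x ∈ centralizer (cj g (Z i) : Set G) := centralizer_le hZF hx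
    rw [← cj_centralizer, mem_cj] at h1
    exact centralizer_le_normalizer _ h1
  have hgL := cj_L h hV hg
  have key2 : ∀ x : G, cj x (zl (S : Subgroup G) P) = cj g (cj (g⁻¹ * x * g) (zl (S : Subgroup G) P)) := by
    intro x
    conv_lhs => rw [← hgL]
    rw [cj_cj, cj_cj]
    congr 1
    group
  rw [key2 x, key2 y, ← cj_centralizer]
  exact cj_mono g (hB.comm i (key x hx) (key y hy))

theorem LL_comm [Finite ι] [Nonempty ι] : ∀ x ∈ LL (zl (S : Subgroup G) P) (MulAut.conj g • F),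
    ∀ y ∈ LL (zl (S : Subgroup G) P) (MulAut.conj g • F), x * y = y * x := by
  obtain ⟨i⟩ := ‹Nonempty ι›
  have h1 : LL (zl (S : Subgroup G) P) (MulAut.conj g • F) ≤
      centralizer (LL (zl (S : Subgroup G) P) (MulAut.conj g • F) : Set G) := by
    refine NoFF.Basic.V_le fun x hx => le_centralizer_iff.1 (NoFF.Basic.V_le fun y hy => ?_)
    exact L_comm h hB hV hg hgen hF hW i hy hx
  exact fun x hx y hy => (mem_centralizer_iff.1 (h1 hx) y hy).symm

theorem LL_sq [Finite ι] [Nonempty ι] : ∀ x ∈ LL (zl (S : Subgroup G) P) (MulAut.conj g • F), x * x = 1 := by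
  have hc := LL_comm h hB hV hg hgen hF hW
  let K : Subgroup G :=
    { carrier := {x | x ∈ LL (zl (S : Subgroup G) P) (MulAut.conj g • F) ∧ x * x = 1}
      one_mem' := ⟨one_mem _, one_mul _⟩
      mul_mem' := by
        rintro a b ⟨ha, ha2⟩ ⟨hb, hb2⟩
        refine ⟨mul_mem ha hb, ?_⟩
        calc a * b * (a * b) = a * (b * a) * b := by group
          _ = a * (a * b) * b := by rw [hc b hb a ha]
          _ = (a * a) * (b * b) := by group
          _ = 1 := by rw [ha2, hb2, one_mul]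
      inv_mem' := by
        rintro a ⟨ha, ha2⟩
        refine ⟨inv_mem ha, ?_⟩
        rw [← mul_inv_rev, ha2, inv_one] }
  have h1 : LL (zl (S : Subgroup G) P) (MulAut.conj g • F) ≤ K := by
    refine NoFF.Basic.V_le fun x hx => ?_
    rintro _ ⟨v, hv, rfl⟩
    refine ⟨NoFF.Basic.Z_le_V hx ⟨v, hv, rfl⟩, ?_⟩
    have h2 := hB.fr.Vsq hv
    rw [sq] at h2
    change x * v * x⁻¹ * (x * v * x⁻¹) = 1
    calc x * v * x⁻¹ * (x * v * x⁻¹) = x * (v * v) * x⁻¹ := by group
      _ = 1 := by rw [h2]; group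
  exact fun x hx => (h1 hx).2

theorem W3_P : NOne.Flat.WW V (MulAut.conj g • F) ≤ P := by
  rw [WY.WW_cj (PV h hV hg)]
  have h1 := cj_mono g (hW.trans h.parP.le)
  rwa [cj_eq_of_mem_normalizer (Subgroup.le_normalizer hg)] at h1

/-- `A₃ ≤ O₂(P)` -/
theorem A_le : NOne.Flat.WW V (MulAut.conj g • F) ⊓ centralizer (zl (S : Subgroup G) P : Set G) ≤ o2 P := by
  rw [← cj_AF h hV hg]
  have h1 : NOne.Flat.WW V F ⊓ centralizer (zl (S : Subgroup G) P : Set G) ≤ o2 P := by
    rw [← IsParS.inf_centralizer S h.hG h.parP]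
    exact inf_le_inf_right _ hW
  have h2 := cj_mono g h1
  rwa [cj_eq_of_mem_normalizer (ZN.le_normalizer_o2 _ hg)] at h2

/-- **`At`** -/
theorem at_of [Finite ι] {i : ι} (hi : ¬ NOne.Flat.WW V F ≤ centralizer (W i : Set G)) :
    At V (zl (S : Subgroup G) P) (o2 P) (WY.ZJ (S : Subgroup G) P) q (MulAut.conj g • F) := by
  have : Nonempty ι := ⟨i⟩
  have hBB : WY.BB (S : Subgroup G) P = B := hB.eqB.symm
  have hWB : NOne.Flat.WW V F ≤ B := hBB ▸ h.W_B hV hF hW
  have hF3 := hyp_cj hF (PV h hV hg)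
  have hLE := L_le_E_cj h hV hF hW hg
  have hex := hex_cj h hV hF hW hg
  have hEc : NOne.Flat.EE V (MulAut.conj g • F) ≤
      centralizer (NOne.Flat.EE V (MulAut.conj g • F) : Set G) :=
    (inf_le_left : _ ≤ V).trans ((h.Vc hV).trans (centralizer_le inf_le_left))
  exact
  { hyp := hF3
    LE := hLE
    qF := qF h hB hV hg hgen hF hW hi
    LLc := LL_comm h hB hV hg hgen hF hW
    LLs := LL_sq h hB hV hg hgen hF hW
    AQ := A_le h hB hV hg hgen hF hW
    WQ := (W3_P h hB hV hg hgen hF hW).trans (ZN.le_normalizer_o2 _)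
    WL := (W3_P h hB hV hg hgen hF hW).trans (ZN.le_normalizer_zl _ _)
    LWZ := LW_inf h hB hV hg hgen hWB
    cE := (WY.cent_AF hF3 hLE hex).le
    best := fun N hN => rel_of_max hEc (max_AF hF3 hLE hex) hN }

end wq

section ex

variable {S : Sylow 2 G} {P T Y V B : Subgroup G} {ι : Type} {L W Z C : ι → Subgroup G} {q : ℕ}
  (h : WQ S P T Y) (hB : Bg S P B (WY.ZJ (S : Subgroup G) P) L W Z C q) (hV : Md S P Y V)
include h hB hV

/-- **the hypothesis `hF` of `Sit.norm`** -/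
theorem exists_at [Finite ι]
    (hact : ∃ F, NOne.Flat.Hyp V F ∧ NOne.Flat.WW V F ≤ (S : Subgroup G) ∧ ¬ NOne.Flat.WW V F ≤ o2 P)
    {z : G} (hz : z ∈ WY.ZJ (S : Subgroup G) P) (hz1 : z ≠ 1) :
    ∃ F, At V (zl (S : Subgroup G) P) (o2 P) (WY.ZJ (S : Subgroup G) P) q F ∧ z ∉ F := by
  obtain ⟨g, hg, hgen⟩ := exists_g hB
  obtain ⟨i, hi⟩ : ∃ i, z ∉ C i := by
    by_contra hcon
    push Not at hcon
    exact hz1 (hB.fr.C0 z (hB.fr.ZJV hz) hcon)
  obtain ⟨F, hF, hW, -, hFi⟩ := exists_F h hB hV hg hgen hact i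
  have hBB : WY.BB (S : Subgroup G) P = B := hB.eqB.symm
  have hWB : NOne.Flat.WW V F ≤ B := hBB ▸ h.W_B hV hF hW
  exact ⟨_, at_of h hB hV hg hgen hF hW hFi, fun hzF => hi (mem_C h hB hV hg hgen hWB hFi hzF hz)⟩

end ex

end Cfsg.Agent.Omega.NO3S.CaseLW.LThm.AtG
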