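import Cfsg.Agent.Omega.NOne.Flat.Eight
import Cfsg.Agent.Omega.NOne.Flat.Off

/-!
# THEOREM L (#25202, #26406), (1) and (4), over `Flat.Hyp V F`

`LL = ⟨L^{C_G(F)}⟩`, `L ≤ E_F`.

* `L_le_LL`, `LL_le_W`, `LL_le_A` (`LL ≤ C_W(L)`, given `LL ≤ C(L)`);
* `comm_LW_le` : `[L, W] ≤ F`; **`comm_E_LL` (1)** : `[E, LL] ≤ [L, W]`;
* `rel_LL` : `|LL : LL ∩ N| = |V ∩ LL : V ∩ LL ∩ F|`, `rel_L` : `|L : L ∩ F| ≤ |LL : LL ∩ N|`, `not_le_NN`;
* **`rel_V`** : `|V : E| ≤ |LL : LL ∩ N|` if `L ≰ F`; `cent_iff` : `b ∈ LL`, `v ∈ V - E` : `[v, b] ∈ F ↔ b ∈ N`;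
* **`phi_le` (4)** : `R ≤ L F`, `u ∈ R`, `[u, Q] ≤ Z_J`, `[L, W] ∩ Z_J = 1` : `[u, Q] ≤ F`.
-/

set_option autoImplicit false
set_option linter.unusedSectionVars false

namespace Cfsg.Agent.Omega.NO3S.CaseLW.LThm

open Subgroup Cfsg Cfsg.Agent.Omega.NoFF.Basic
open Cfsg.Agent.Omega.NOne.Flat (Hyp EE WW NN Cos)
open Cfsg.Agent.Omega.NOne.NearFF (c c_def)
open Cfsg.Agent.ZN (o2)
open scoped Pointwise commutatorElement

universe u

variable {G : Type u} [Group G] {V F L : Subgroup G}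

/-- `LL = ⟨L^{C_G(F)}⟩` -/
abbrev LL (L F : Subgroup G) : Subgroup G := NoFF.Basic.V L (centralizer (F : Set G))

/-- `[L, W]` -/
abbrev LW (L V F : Subgroup G) : Subgroup G := ⁅L, WW V F⁆

theorem L_le_LL : L ≤ LL L F := by
  have := Z_le_V (Z := L) (P := centralizer (F : Set G)) (p := 1) (one_mem _)
  rwa [map_one, one_smul] at this

theorem LL_le_W (hL : L ≤ EE V F) : LL L F ≤ WW V F :=
  V_le fun x hx => ((conj_le_iff (g := x)).2 hL).trans (Z_le_V hx)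

theorem LL_le_A (hL : L ≤ EE V F) (hc : LL L F ≤ centralizer (L : Set G)) :
    LL L F ≤ WW V F ⊓ centralizer (L : Set G) := le_inf (LL_le_W hL) hc

/-- `C_G(F)` normalises `LL` -/
theorem X_norm_LL : centralizer (F : Set G) ≤ normalizer (LL L F : Set G) := by
  intro x hx
  have h1 : ∀ y ∈ centralizer (F : Set G), ∀ s ∈ LL L F, y * s * y⁻¹ ∈ LL L F := by
    intro y hy s hs
    have h2 := conj_V_mul (Z := L) (P := centralizer (F : Set G)) (g := 1) hy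
    rw [one_mul, map_one, one_smul] at h2
    have h3 := NOne.Frame.conj_mem (g := y) hs
    rwa [h2] at h3
  rw [mem_normalizer_iff]
  refine fun s => ⟨h1 x hx s, fun hs => ?_⟩
  have := h1 x⁻¹ (inv_mem hx) _ hs
  have e : x⁻¹ * (x * s * x⁻¹) * x⁻¹⁻¹ = s := by group
  rwa [e] at this

section flat

variable (h : Hyp V F)
include h

theorem comm_LW_le [Finite G] (hL : L ≤ EE V F) : LW L V F ≤ F := by
  rw [commutator_le]
  intro l hl s hs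
  exact h.comm_EW (hL hl) hs

/-- **(1)** `[E, LL] ≤ [L, W]` -/
theorem comm_E_LL [Finite G] (hL : L ≤ EE V F) {r b : G} (hr : r ∈ EE V F) (hb : b ∈ LL L F) :
    c r b ∈ LW L V F := by
  have hLF := comm_LW_le h hL
  have hrV : r ∈ V := hr.1
  let K : Subgroup G :=
    { carrier := {b | b ∈ WW V F ∧ c r b ∈ LW L V F}
      one_mem' := ⟨one_mem _, by rw [Hyp.c_one_right]; exact one_mem _⟩
      mul_mem' := by
        rintro s t ⟨hs, hs2⟩ ⟨ht, ht2⟩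
        refine ⟨mul_mem hs ht, ?_⟩
        rw [h.c_mul_right hrV hs ht, Hyp.c_F (hLF ht2) hs, mul_one]
        exact mul_mem hs2 ht2
      inv_mem' := by
        rintro s ⟨hs, hs2⟩
        refine ⟨inv_mem hs, ?_⟩
        have h1 : c r s * s = s * c r s := Hyp.F_comm (hLF hs2) (Hyp.W_le_X hs)
        have e : c r s⁻¹ = (c r s)⁻¹ := by
          have e1 : c r s⁻¹ = s⁻¹ * (c r s)⁻¹ * s := by rw [c, c]; group
          have e2 : (c r s)⁻¹ * s = s * (c r s)⁻¹ := by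
            calc (c r s)⁻¹ * s = (c r s)⁻¹ * (s * c r s) * (c r s)⁻¹ := by group
              _ = (c r s)⁻¹ * (c r s * s) * (c r s)⁻¹ := by rw [h1]
              _ = s * (c r s)⁻¹ := by group
          rw [e1, mul_assoc, e2]; group
        rw [e]
        exact inv_mem hs2 }
  have h1 : LL L F ≤ K := by
    refine V_le fun x hx f hf => ⟨LL_le_W hL (Z_le_V hx hf), ?_⟩
    rw [mem_conj] at hf
    have h2 : x⁻¹ * r * x ∈ WW V F := by
      have := Hyp.conj_mem_W (inv_mem hx) (Hyp.E_le_W hr)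
      rwa [inv_inv] at this
    have h3 : ⁅x⁻¹ * f * x, x⁻¹ * r * x⁆ ∈ LW L V F := commutator_mem_commutator hf h2
    have h4 : ⁅x⁻¹ * f * x, x⁻¹ * r * x⁆⁻¹ ∈ LW L V F := inv_mem h3
    have h5 : x * ⁅x⁻¹ * f * x, x⁻¹ * r * x⁆⁻¹ * x⁻¹ = ⁅x⁻¹ * f * x, x⁻¹ * r * x⁆⁻¹ := by
      rw [← Hyp.F_comm (hLF h4) hx, mul_inv_cancel_right]
    have e : c r f = x * ⁅x⁻¹ * f * x, x⁻¹ * r * x⁆⁻¹ * x⁻¹ := by
      rw [c, commutatorElement_def]; group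
    rw [e, h5]
    exact h4
  exact (h1 hb).2

/-- for `v ∈ V - E`, `b ∈ LL` : `[v, b] ∈ F ↔ b ∈ N` -/
theorem cent_iff [Finite G] (hL : L ≤ EE V F) {v b : G} (hv : v ∈ V) (hvE : v ∉ EE V F) (hb : b ∈ LL L F) :
    c v b ∈ F ↔ b ∈ NN V F := h.c_mem_F_iff hv hvE (LL_le_W hL hb)

/-- `[V, LL] ≤ V ∩ LL` -/
theorem comm_V_LL [Finite G] (hL : L ≤ EE V F) {v b : G} (hv : v ∈ V) (hb : b ∈ LL L F) :
    c v b ∈ V ⊓ LL L F := by
  refine mem_inf.2 ⟨h.c_memV hv (LL_le_W hL hb), ?_⟩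
  have h1 := (mem_normalizer_iff.1 (X_norm_LL (L := L) (h.V_le_X hv)) b).1 hb
  rw [c]
  exact mul_mem h1 (inv_mem hb)

/-- `|LL : LL ∩ N| ≤ |V ∩ LL : V ∩ LL ∩ F|` -/
theorem rel_LL_le [Finite G] (hL : L ≤ EE V F) : (NN V F).relIndex (LL L F) ≤ F.relIndex (V ⊓ LL L F) := by
  obtain ⟨w, hw, hwE⟩ := h.exists_not_mem
  have hc : Cos (c w) (LL L F) (NN V F) (V ⊓ LL L F) F :=
    { mem := fun a ha => comm_V_LL h hL hw ha
      iff := fun a ha b hb => by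
        rw [h.c_iff hw (LL_le_W hL ha) (LL_le_W hL hb),
          h.c_mem_F_iff hw hwE (mul_mem (inv_mem (LL_le_W hL ha)) (LL_le_W hL hb))] }
  exact hc.le

/-- `V ∩ LL ≤ E` -/
theorem V_inf_LL_le (hL : L ≤ EE V F) : V ⊓ LL L F ≤ EE V F :=
  le_inf inf_le_left (inf_le_right.trans ((LL_le_W hL).trans Hyp.W_le_R))

/-- `|V ∩ LL : V ∩ LL ∩ F| ≤ |LL : LL ∩ N|` -/
theorem rel_le_LL [Finite G] (hL : L ≤ EE V F) : F.relIndex (V ⊓ LL L F) ≤ (NN V F).relIndex (LL L F) := by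
  obtain ⟨w, hw, hwE⟩ := h.exists_not_mem
  obtain ⟨x, hx, hb, -, -⟩ := h.exists_near hw hwE
  have hc : Cos (fun a => x * a * x⁻¹) (V ⊓ LL L F) F (LL L F) (NN V F) :=
    { mem := fun a ha => (mem_normalizer_iff.1 (X_norm_LL hx) a).1 ha.2
      iff := fun a ha b hb' => by
        have e : (x * a * x⁻¹)⁻¹ * (x * b * x⁻¹) = x * (a⁻¹ * b) * x⁻¹ := by group
        rw [e]
        have hE : a⁻¹ * b ∈ EE V F := mul_mem (inv_mem (V_inf_LL_le h hL ha)) (V_inf_LL_le h hL hb')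
        constructor
        · intro h1
          have h2 : x * (a⁻¹ * b) * x⁻¹ ∈ MulAut.conj x • EE V F ⊓ NN V F :=
            mem_inf.2 ⟨NOne.Frame.conj_mem hE, h1⟩
          rw [h.conjE_inf_NN hx hb] at h2
          have h3 : a⁻¹ * b = x * (a⁻¹ * b) * x⁻¹ := by
            have h4 := Hyp.F_comm h2 hx
            have e2 : a⁻¹ * b = x⁻¹ * (x * (a⁻¹ * b) * x⁻¹) * x := by group
            calc a⁻¹ * b = x⁻¹ * (x * (a⁻¹ * b) * x⁻¹ * x) := by rw [e2]; group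
              _ = x⁻¹ * (x * (x * (a⁻¹ * b) * x⁻¹)) := by rw [h4]
              _ = x * (a⁻¹ * b) * x⁻¹ := by group
          rw [h3]
          exact h2
        · intro h1
          have h4 := Hyp.F_comm h1 hx
          have e3 : x * (a⁻¹ * b) * x⁻¹ = a⁻¹ * b := by rw [← h4, mul_inv_cancel_right]
          rw [e3]
          exact h.F_le_NN h1 }
  exact hc.le

/-- `|LL : LL ∩ N| = |V ∩ LL : V ∩ LL ∩ F|` -/
theorem rel_LL [Finite G] (hL : L ≤ EE V F) : (NN V F).relIndex (LL L F) = F.relIndex (V ⊓ LL L F) :=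
  le_antisymm (rel_LL_le h hL) (rel_le_LL h hL)

/-- `|L : L ∩ F| ≤ |LL : LL ∩ N|` -/
theorem rel_L [Finite G] (hL : L ≤ EE V F) : F.relIndex L ≤ (NN V F).relIndex (LL L F) := by
  rw [rel_LL h hL]
  exact relIndex_le_of_le_right (le_inf (hL.trans inf_le_left) L_le_LL) index_ne_zero_of_finite

/-- `L ≰ F` : `LL ≰ N` -/
theorem not_le_NN [Finite G] (hL : L ≤ EE V F) (hLF : ¬ L ≤ F) : ¬ LL L F ≤ NN V F := by
  intro h1
  have h2 := rel_L h hL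
  rw [relIndex_eq_one.2 h1] at h2
  exact hLF (relIndex_eq_one.1 (le_antisymm h2 (Nat.one_le_iff_ne_zero.2 index_ne_zero_of_finite)))

/-- **`|V : E| ≤ |LL : LL ∩ N|`** -/
theorem rel_V [Finite G] (hL : L ≤ EE V F) (hLF : ¬ L ≤ F) :
    (EE V F).relIndex V ≤ (NN V F).relIndex (LL L F) := by
  rw [rel_LL h hL]
  obtain ⟨b, hb, hbN⟩ := SetLike.not_le_iff_exists.1 (not_le_NN h hL hLF)
  have hbW := LL_le_W hL hb
  have hc : Cos (fun w => c w b) V (EE V F) (V ⊓ LL L F) F :=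
    { mem := fun w hw => comm_V_LL h hL hw hb
      iff := fun v hv w hw => by
        have hvw : v⁻¹ * w ∈ V := mul_mem (inv_mem hv) hw
        have e1 : c w b = c v b * c (v⁻¹ * w) b := by
          rw [← h.c_mul_left hv hvw hbW, mul_inv_cancel_left]
        have e : (c v b)⁻¹ * c w b = c (v⁻¹ * w) b := by rw [e1, inv_mul_cancel_left]
        show (c v b)⁻¹ * c w b ∈ F ↔ v⁻¹ * w ∈ EE V F
        rw [e]
        refine ⟨fun h1 => ?_, fun h1 => h.comm_EW h1 hbW⟩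
        by_contra h2
        exact hbN ((h.c_mem_F_iff hvw h2 hbW).1 h1) }
  exact hc.le

end flat

theorem mem_sup_V {X Y : Subgroup G} (hc : ∀ x ∈ X, ∀ y ∈ Y, x * y = y * x) {u : G} (hu : u ∈ X ⊔ Y) :
    ∃ x ∈ X, ∃ y ∈ Y, x * y = u := by
  rw [sup_eq_closure] at hu
  refine closure_induction (p := fun u _ => ∃ x ∈ X, ∃ y ∈ Y, x * y = u) ?_ ?_ ?_ ?_ hu
  · rintro x (hx | hx)
    · exact ⟨x, hx, 1, Y.one_mem, mul_one _⟩
    · exact ⟨1, X.one_mem, x, hx, one_mul _⟩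
  · exact ⟨1, X.one_mem, 1, Y.one_mem, one_mul _⟩
  · rintro _ _ _ _ ⟨x, hx, y, hy, rfl⟩ ⟨x', hx', y', hy', rfl⟩
    refine ⟨x * x', X.mul_mem hx hx', y * y', Y.mul_mem hy hy', ?_⟩
    rw [mul_assoc, ← mul_assoc x', hc x' hx' y hy, mul_assoc, mul_assoc]
  · rintro _ _ ⟨x, hx, y, hy, rfl⟩
    refine ⟨x⁻¹, X.inv_mem hx, y⁻¹, Y.inv_mem hy, ?_⟩
    rw [mul_inv_rev, hc _ (X.inv_mem hx) _ (Y.inv_mem hy)]

/-- **(4)** `R ≤ L F`, `u ∈ R`, `[u, Q] ≤ Z_J ≤ L`, `[L, W] ∩ Z_J = 1` imply `[u, Q] ≤ F`. -/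
theorem phi_le [Finite G] (h : Hyp V F) {Q ZJ R : Subgroup G} (hL : L ≤ EE V F)
    (hQL : Q ≤ centralizer (L : Set G)) (hWQ : WW V F ≤ normalizer (Q : Set G))
    (hWL : WW V F ≤ normalizer (L : Set G)) (hR : R ≤ L ⊔ F) (hZL : ZJ ≤ L) (hZ : LW L V F ⊓ ZJ = ⊥) {u : G}
    (hu : u ∈ R) (huQ : ∀ q ∈ Q, c u q ∈ ZJ) : ∀ q ∈ Q, c u q ∈ F := by
  intro q hq
  -- `u = l f`
  obtain ⟨l, hl, f, hf, e0⟩ : ∃ l ∈ L, ∃ f ∈ F, l * f = u :=
    mem_sup_V (fun x hx y hy => h.V_comm ((hL.trans inf_le_left) hx) (h.F_le_V hy)) (hR hu)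
  rw [← h.cent_VW]
  have hz := huQ q hq
  refine mem_inf.2 ⟨(hL.trans inf_le_left) (hZL hz), ?_⟩
  rw [mem_centralizer_iff]
  intro w hw
  -- `w u w⁻¹ = u l'` with `l' ∈ [L, W]`, `l' ∈ L`
  set l' : G := u⁻¹ * (w * u * w⁻¹) with hl'
  have hfw : f * w = w * f := Hyp.F_comm hf (Hyp.W_le_X hw)
  have e1 : l' = f⁻¹ * (l⁻¹ * (w * l * w⁻¹)) * f := by
    have e2 : w * u * w⁻¹ = w * l * w⁻¹ * f := by
      rw [← e0]
      calc w * (l * f) * w⁻¹ = w * l * (f * w⁻¹) := by group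
        _ = w * l * (w⁻¹ * (w * f) * w⁻¹) := by group
        _ = w * l * (w⁻¹ * (f * w) * w⁻¹) := by rw [hfw]
        _ = w * l * w⁻¹ * f := by group
    rw [hl', e2, ← e0]; group
  have h2 : l⁻¹ * (w * l * w⁻¹) ∈ L := mul_mem (inv_mem hl) ((mem_normalizer_iff.1 (hWL hw) l).1 hl)
  have hlL : l' ∈ L := by
    have h3 : l⁻¹ * (w * l * w⁻¹) * f = f * (l⁻¹ * (w * l * w⁻¹)) :=
      h.V_comm ((hL.trans inf_le_left) h2) (h.F_le_V hf)
    rw [e1, mul_assoc, h3, inv_mul_cancel_left]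
    exact h2
  -- `w [u,q] w⁻¹ = [u, w q w⁻¹]`
  have hq' : w * q * w⁻¹ ∈ Q := (mem_normalizer_iff.1 (hWQ hw) q).1 hq
  have e3 : w * c u q * w⁻¹ = c u (w * q * w⁻¹) := by
    have e4 : w * c u q * w⁻¹ = c (u * l') (w * q * w⁻¹) := by
      rw [hl', c, c]; group
    have h5 : l' * (w * q * w⁻¹) = (w * q * w⁻¹) * l' := (mem_centralizer_iff.1 (hQL hq') l' hlL)
    rw [e4]
    calc c (u * l') (w * q * w⁻¹) = u * (l' * (w * q * w⁻¹)) * l'⁻¹ * u⁻¹ * (w * q * w⁻¹)⁻¹ := by rw [c]; group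
      _ = u * ((w * q * w⁻¹) * l') * l'⁻¹ * u⁻¹ * (w * q * w⁻¹)⁻¹ := by rw [h5]
      _ = c u (w * q * w⁻¹) := by rw [c]; group
  have h6 : w * c u q * w⁻¹ ∈ ZJ := by rw [e3]; exact huQ _ hq'
  have h7 : ⁅c u q, w⁆ ∈ LW L V F := commutator_mem_commutator (hZL hz) hw
  have h8 : ⁅c u q, w⁆ ∈ ZJ := by
    have e5 : ⁅c u q, w⁆ = c u q * (w * c u q * w⁻¹)⁻¹ := by rw [commutatorElement_def]; group
    rw [e5]
    exact mul_mem hz (inv_mem h6)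
  have h9 : ⁅c u q, w⁆ = 1 := by
    have := mem_inf.2 ⟨h7, h8⟩
    rw [hZ] at this
    exact mem_bot.1 this
  have h10 := commutatorElement_eq_one_iff_mul_comm.1 h9
  exact h10.symm

end Cfsg.Agent.Omega.NO3S.CaseLW.LThm
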