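import Cfsg.Agent.Omega.NO3S.CaseLW.QWd
import Cfsg.Agent.Omega.NO3S.CaseLW.LThm.Flat3
import Cfsg.Agent.Omega.Node.MulX

/-!
# THEOREM L(q) (#26406): (G) and the end (4)

`Bg S P B ZJ L W Z C q`; `Gen W Z C g` : `g` normalises all `W i`, `C i`, and moves all `Z i` off themselves.

* `exists_g` : such a `g ∈ P` exists;
* `LW_inf` **(G)** : `[V_P, W_(F^g)] ∩ Z_J = 1`; `mem_C` **(G)** : `x ∈ F^g ∩ Z_J`, `W_F` moves `W i` : `x ∈ C i`;
* `mem_ZJ_of` : an element of `V_P` centralised by all `W_F ≤ S` lies in `Z_J`;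
* `mem_zl` **(4)** : `R ≤ V_P F^g` for all active `F`, `u ∈ R`, `[u, O₂(P)] ≤ Z_J` : `u ∈ V_P`;
* **`norm_ZJ`** : all `W_F ≤ S` lie in `O₂(Y)`, `⟨Z_J^Y⟩ ≤ V_P F^g` for all active `F` : `Y` normalises `Z_J`;
  `norm_ZJ'` : the same from `⟨Z_J^Y⟩ ≤ E_(F^g)`, `⟨Z_J^Y⟩ ≤ C(A_(F^g))`.
-/

set_option autoImplicit false
set_option linter.unusedSectionVars false
set_option linter.dupNamespace false

namespace Cfsg.Agent.Omega.NO3S.CaseLW.LThm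

open Subgroup Cfsg Cfsg.Agent.ZN Cfsg.Agent.ZN.ChoiceBase
open Cfsg.Agent.Omega.NOne.NearFF (c)
open Cfsg.Agent.Omega.NO3S.EThree.Frame (Bg Fg)
open Cfsg.Agent.Omega.NO3S.Level
open Cfsg.Agent.Omega.NO3S.RedC
open Cfsg.Agent.Omega.NO3S.WY
open Cfsg.Agent.Omega.NO3S.CaseLW.QWc
open Cfsg.Agent.Omega.NO3b.EZero (cl cl_le le_cl cj_le_cl le_normalizer_cl)
open scoped Pointwise commutatorElement

universe u

variable {G : Type u} [Group G] [Finite G]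

/-- `g` normalises all `W i`, `C i` and moves every `Z i` off itself -/
structure Gen {ι : Type} (W Z C : ι → Subgroup G) (g : G) : Prop where
  W : ∀ i, cj g (W i) = W i
  C : ∀ i, cj g (C i) = C i
  Z : ∀ i, cj g (Z i) ⊓ Z i = ⊥

section bg

variable {S : Sylow 2 G} {P B ZJ : Subgroup G} {ι : Type} {L W Z C : ι → Subgroup G} {q : ℕ}
  (h : Bg S P B ZJ L W Z C q)
include h

/-- `L j` normalises all `W i`, `C i` and centralises `Z i`, `i ≠ j` -/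
theorem L_fix {j : ι} {l : G} (hl : l ∈ L j) :
    ∀ i, cj l (W i) = W i ∧ cj l (C i) = C i ∧ (i ≠ j → cj l (Z i) = Z i ∧ ∀ z ∈ Z i, l * z = z * l) := by
  intro i
  obtain ⟨σ, hσ⟩ := h.perm l (h.LP j hl)
  have hi : σ i = i := by
    by_contra hne
    by_cases hij : i = j
    · subst hij
      apply h.W_ne i
      have h1 : cj l (W i) ≤ W i := by
        rintro _ ⟨w, hw, rfl⟩
        exact (h.fr.blk i).nV l hl w hw
      have h2 : cj l (W i) = W i := Subgroup.eq_of_le_of_card_ge h1 (card_cj _ _).ge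
      have h3 := h.W_inj ((hσ i).1.symm.trans h2)
      exact absurd h3 hne
    · apply h.Z_ne i
      have h1 : Z i ≤ W i ⊓ W (σ i) := by
        intro z hz
        refine mem_inf.2 ⟨(h.fr.blk i).ZV hz, ?_⟩
        rw [← (hσ i).1, mem_cj]
        have h2 := h.fr.LC j l hl z (h.fr.Z_le i hz) (h.fr.WjC j i (Ne.symm hij) ((h.fr.blk i).ZV hz))
        have h3 : l⁻¹ * z * l = z := by rw [mul_assoc, ← h2]; group
        rw [h3]
        exact (h.fr.blk i).ZV hz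
      rw [h.W_disj (Ne.symm hne)] at h1
      exact le_bot_iff.1 h1
  have e := hσ i
  rw [hi] at e
  refine ⟨e.1, e.2, fun hij => ?_⟩
  have h2 : ∀ z ∈ Z i, l * z = z * l := fun z hz =>
    h.fr.LC j l hl z (h.fr.Z_le i hz) (h.fr.WjC j i (Ne.symm hij) ((h.fr.blk i).ZV hz))
  refine ⟨Subgroup.eq_of_le_of_card_ge ?_ (card_cj _ _).ge, h2⟩
  rintro _ ⟨z, hz, rfl⟩
  change l * z * l⁻¹ ∈ Z i
  rw [h2 z hz, mul_inv_cancel_right]
  exact hz

/-- **(G0)** -/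
theorem exists_g [Finite ι] : ∃ g ∈ P, Gen W Z C g := by
  classical
  have := Fintype.ofFinite ι
  have key : ∀ s : Finset ι, ∃ g ∈ P, (∀ i, cj g (W i) = W i ∧ cj g (C i) = C i) ∧
      (∀ i ∈ s, cj g (Z i) ⊓ Z i = ⊥) ∧ (∀ i, i ∉ s → cj g (Z i) = Z i) := by
    intro s
    induction s using Finset.induction_on with
    | empty => exact ⟨1, one_mem _, fun i => ⟨cj_one _, cj_one _⟩, by simp, fun i _ => cj_one _⟩
    | insert j s hj ih =>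
      obtain ⟨g, hg, h1, h2, h3⟩ := ih
      obtain ⟨l, hl, hne, -⟩ := (h.fr.blk j).exists_mv
      have h4 := (h.fr.blk j).nat_tri (h.fr.cardZ j) hl hne
      have h5 := L_fix h hl
      refine ⟨l * g, mul_mem (h.LP j hl) hg, fun i => ⟨?_, ?_⟩, fun i hi => ?_, fun i hi => ?_⟩
      · rw [← cj_cj, (h1 i).1, (h5 i).1]
      · rw [← cj_cj, (h1 i).2, (h5 i).2.1]
      · rcases Finset.mem_insert.1 hi with rfl | hi
        · rw [← cj_cj, h3 _ hj]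
          exact h4
        · have hij : i ≠ j := fun e => hj (e ▸ hi)
          have e1 : cj l (Z i) = Z i := ((h5 i).2.2 hij).1
          rw [← cj_cj]
          conv_lhs => rw [← e1]
          rw [e1]
          have e2 : cj l (cj g (Z i)) ⊓ Z i = cj l (cj g (Z i) ⊓ Z i) := by
            rw [cj_inf, e1]
          rw [e2, h2 i hi]
          exact Subgroup.map_bot _
      · have hij : i ≠ j := fun e => hi (e ▸ Finset.mem_insert_self _ _)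
        rw [← cj_cj, h3 i fun e => hi (Finset.mem_insert_of_mem e), ((h5 i).2.2 hij).1]
  obtain ⟨g, hg, h1, h2, -⟩ := key Finset.univ
  exact ⟨g, hg, fun i => (h1 i).1, fun i => (h1 i).2, fun i => h2 i (Finset.mem_univ _)⟩

/-- the elements of `Z_J` have their components in `Z i` -/
theorem ZJ_le_sup (i : ι) : ZJ ≤ Z i ⊔ C i := by
  intro z hz
  obtain ⟨w, hw, c, hc, -, rfl⟩ := h.fr.split_ZJ i hz
  exact mul_mem (mem_sup_left hw) (mem_sup_right hc)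

theorem mem_sup_C {i : ι} {D : Subgroup G} (hD : D ≤ zl (S : Subgroup G) P) {x : G} (hx : x ∈ D ⊔ C i) :
    ∃ w ∈ D, ∃ d ∈ C i, w * d = x :=
  mem_sup_V (fun _ ha _ hb => h.fr.Vc (hD ha) (h.fr.CV i hb)) hx

/-- an element of `D C_i ∩ Z_i C_i`, `D ≤ W i`, `D ∩ Z_i = 1`, lies in `C_i` -/
theorem mem_C_of {i : ι} {D : Subgroup G} (hD : D ≤ W i) (hDZ : D ⊓ Z i = ⊥) {x : G} (hx : x ∈ D ⊔ C i)
    (hx' : x ∈ Z i ⊔ C i) : x ∈ C i := by
  obtain ⟨w, hw, d, hd, e⟩ := mem_sup_C h (hD.trans (h.fr.WV i)) hx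
  obtain ⟨z, hz, d', hd', e'⟩ := mem_sup_C h (h.fr.ZV i) hx'
  obtain ⟨e1, e2⟩ := h.fr.uniq (hD hw) ((h.fr.blk i).ZV hz) hd hd' (e.trans e'.symm)
  have h1 : w ∈ D ⊓ Z i := mem_inf.2 ⟨hw, e1 ▸ hz⟩
  rw [hDZ, mem_bot] at h1
  rw [← e, h1, one_mul]
  exact hd

/-- `[V_P, b] ≤ Z_i C_i`, `b ∈ B` -/
theorem comm_mem_sup (i : ι) {v b : G} (hv : v ∈ zl (S : Subgroup G) P) (hb : b ∈ B) :
    ⁅v, b⁆ ∈ Z i ⊔ C i := by
  obtain ⟨w, hw, d, hd, rfl⟩ := h.fr.WC i v hv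
  have hbd := h.fr.BC i b hb d hd
  have hbw := (h.fr.blk i).BV hb hw
  have hcw := (h.fr.blk i).com b hb w hw
  have e : ⁅w * d, b⁆ = (b * w * b⁻¹ * w⁻¹)⁻¹ * (d * (b * d * b⁻¹)⁻¹) := by
    have h1 : d * (b * d * b⁻¹)⁻¹ * (b * w * b⁻¹)⁻¹ = (b * w * b⁻¹)⁻¹ * (d * (b * d * b⁻¹)⁻¹) :=
      h.fr.Vc (h.fr.CV i (mul_mem hd (inv_mem hbd))) (h.fr.WV i (inv_mem hbw))
    calc ⁅w * d, b⁆ = w * (d * (b * d * b⁻¹)⁻¹ * (b * w * b⁻¹)⁻¹) := by
          rw [commutatorElement_def]; group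
      _ = w * ((b * w * b⁻¹)⁻¹ * (d * (b * d * b⁻¹)⁻¹)) := by rw [h1]
      _ = _ := by group
  rw [e]
  exact mul_mem (mem_sup_left (inv_mem hcw)) (mem_sup_right (mul_mem hd (inv_mem hbd)))

/-- an element of `V_P` centralised by `A ≤ B`, where `A` moves `W i`, lies in `Z_i C_i` -/
theorem mem_sup_of_cent {i : ι} {A : Subgroup G} (hA : A ≤ B) (hmv : ¬ A ≤ centralizer (W i : Set G)) {y : G}
    (hy : y ∈ zl (S : Subgroup G) P) (hc : ∀ b ∈ A, b * y = y * b) : y ∈ Z i ⊔ C i := by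
  obtain ⟨w, hw, d, hd, rfl⟩ := h.fr.WC i y hy
  refine mul_mem (mem_sup_left ?_) (mem_sup_right hd)
  by_contra hwZ
  apply hmv
  intro b hb
  have h1 := h.fr.uniq ((h.fr.blk i).BV (hA hb) hw) hw (h.fr.BC i b (hA hb) d hd) hd (by
    calc b * w * b⁻¹ * (b * d * b⁻¹) = b * (w * d) * b⁻¹ := by group
      _ = w * d := by rw [hc b hb, mul_inv_cancel_right])
  have h2 := (h.fr.blk i).free b (hA hb) w hw hwZ (mul_inv_eq_iff_eq_mul.1 h1.1)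
  exact mem_centralizer_iff.2 fun u hu => (h2 u hu).symm

/-- `A ≤ B` moves some `W i` if it moves `V_P` -/
theorem exists_mv_W {A : Subgroup G} (hA : A ≤ B) (hmv : ¬ A ≤ centralizer (zl (S : Subgroup G) P : Set G)) :
    ∃ i, ¬ A ≤ centralizer (W i : Set G) := by
  by_contra hcon
  push Not at hcon
  apply hmv
  intro b hb
  rw [mem_centralizer_iff]
  intro v hv
  have hbV : b * v * b⁻¹ ∈ zl (S : Subgroup G) P := (mem_normalizer_iff.1 (h.bau_norm (hA hb)) v).1 hv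
  have h1 : b * v * b⁻¹ * v⁻¹ = 1 := by
    refine h.fr.C0 _ (mul_mem hbV (inv_mem hv)) fun i => ?_
    obtain ⟨w, hw, d, hd, rfl⟩ := h.fr.WC i v hv
    have h2 : w * b = b * w := mem_centralizer_iff.1 (hcon i hb) w hw
    have hbd := h.fr.BC i b (hA hb) d hd
    have h3 : b * d * b⁻¹ * d⁻¹ * w⁻¹ = w⁻¹ * (b * d * b⁻¹ * d⁻¹) :=
      h.fr.Vc (h.fr.CV i (mul_mem hbd (inv_mem hd))) (h.fr.WV i (inv_mem hw))
    have e : b * (w * d) * b⁻¹ * (w * d)⁻¹ = b * d * b⁻¹ * d⁻¹ := by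
      calc b * (w * d) * b⁻¹ * (w * d)⁻¹ = (b * w) * d * b⁻¹ * d⁻¹ * w⁻¹ := by group
        _ = w * (b * d * b⁻¹ * d⁻¹ * w⁻¹) := by rw [← h2]; group
        _ = b * d * b⁻¹ * d⁻¹ := by rw [h3]; group
    rw [e]
    exact mul_mem hbd (inv_mem hd)
  have h4 := mul_inv_eq_iff_eq_mul.1 (mul_inv_eq_one.1 h1)
  exact h4.symm

/-- an element of `V_P` with all components in `Z_i` lies in `Z_J` -/
theorem mem_ZJ_of {y : G} (hy : y ∈ zl (S : Subgroup G) P) (hc : ∀ i, y ∈ Z i ⊔ C i) : y ∈ ZJ := by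
  refine (h.fr.mem_ZJ y).2 ⟨hy, fun b hb => ?_⟩
  have hbV : b * y * b⁻¹ ∈ zl (S : Subgroup G) P := (mem_normalizer_iff.1 (h.bau_norm hb) y).1 hy
  have h1 : b * y * b⁻¹ * y⁻¹ = 1 := by
    refine h.fr.C0 _ (mul_mem hbV (inv_mem hy)) fun i => ?_
    obtain ⟨w, hw, d, hd, e0⟩ := mem_sup_C h (h.fr.ZV i) (hc i)
    have h2 : b * w = w * b := (h.fr.blk i).cZ b hb w hw
    have hbd := h.fr.BC i b hb d hd
    have h3 : b * d * b⁻¹ * d⁻¹ * w⁻¹ = w⁻¹ * (b * d * b⁻¹ * d⁻¹) :=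
      h.fr.Vc (h.fr.CV i (mul_mem hbd (inv_mem hd))) (h.fr.ZV i (inv_mem hw))
    have e : b * y * b⁻¹ * y⁻¹ = b * d * b⁻¹ * d⁻¹ := by
      rw [← e0]
      calc b * (w * d) * b⁻¹ * (w * d)⁻¹ = (b * w) * d * b⁻¹ * d⁻¹ * w⁻¹ := by group
        _ = w * (b * d * b⁻¹ * d⁻¹ * w⁻¹) := by rw [h2]; group
        _ = b * d * b⁻¹ * d⁻¹ := by rw [h3]; group
    rw [e]
    exact mul_mem hbd (inv_mem hd)
  exact mul_inv_eq_iff_eq_mul.1 (mul_inv_eq_one.1 h1)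

end bg

/-! ### (G) and (4) over `WQ` -/

section wq

variable {S : Sylow 2 G} {P T Y V B : Subgroup G} {ι : Type} {L W Z C : ι → Subgroup G} {q : ℕ}
  (h : WQ S P T Y) (hB : Bg S P B (WY.ZJ (S : Subgroup G) P) L W Z C q) (hV : Md S P Y V)
include h hB hV

variable {g : G} (hg : g ∈ P) (hgen : Gen W Z C g)
include hg hgen

/-- `D C_i` conjugated by `g` -/
theorem mem_cj_sup {D : Subgroup G} {i : ι} {x : G} (hx : g⁻¹ * x * g ∈ D ⊔ C i) : x ∈ cj g D ⊔ C i := by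
  have h1 : x ∈ cj g (D ⊔ C i) := by rw [mem_cj]; exact hx
  rw [show cj g (D ⊔ C i) = cj g D ⊔ cj g (C i) from Subgroup.map_sup _ _ _, hgen.C i] at h1
  exact h1

theorem cjZ_le (i : ι) : cj g (Z i) ≤ W i := by
  have h1 := cj_mono g (hB.fr.blk i).ZV
  rwa [hgen.W i] at h1

/-- **(G)** : `[V_P, W_(F^g)] ∩ Z_J = 1` -/
theorem LW_inf {F : Subgroup G} (hWB : NOne.Flat.WW V F ≤ B) :
    LW (zl (S : Subgroup G) P) V (MulAut.conj g • F) ⊓ WY.ZJ (S : Subgroup G) P = ⊥ := by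
  have hgV := PV h hV hg
  have hgL := cj_L h hV hg
  rw [eq_bot_iff]
  rintro x ⟨hx, hxZ⟩
  rw [mem_bot]
  refine hB.fr.C0 _ (hB.fr.ZJV hxZ) fun i => ?_
  refine mem_C_of hB (cjZ_le h hB hV hg hgen i) (hgen.Z i) ?_ (ZJ_le_sup hB i hxZ)
  have h1 : LW (zl (S : Subgroup G) P) V (MulAut.conj g • F) ≤ cj g (Z i) ⊔ C i := by
    rw [LW, commutator_le]
    intro v hv w hw
    rw [WY.WW_cj hgV] at hw
    apply mem_cj_sup h hB hV hg hgen
    rw [← hgL, mem_cj] at hv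
    rw [mem_cj] at hw
    have e : g⁻¹ * ⁅v, w⁆ * g = ⁅g⁻¹ * v * g, g⁻¹ * w * g⁆ := by
      rw [commutatorElement_def, commutatorElement_def]; group
    rw [e]
    exact comm_mem_sup hB i hv (hWB hw)
  exact h1 hx

/-- **(G)** : `x ∈ F^g ∩ Z_J`, `W_F` moves `W i` : `x ∈ C i` -/
theorem mem_C {F : Subgroup G} (hWB : NOne.Flat.WW V F ≤ B) {i : ι} (hmv : ¬ NOne.Flat.WW V F ≤ centralizer (W i : Set G)) {x : G}
    (hx : x ∈ MulAut.conj g • F) (hxZ : x ∈ WY.ZJ (S : Subgroup G) P) : x ∈ C i := by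
  have hgL := cj_L h hV hg
  refine mem_C_of hB (cjZ_le h hB hV hg hgen i) (hgen.Z i) ?_ (ZJ_le_sup hB i hxZ)
  apply mem_cj_sup h hB hV hg hgen
  have hxF : g⁻¹ * x * g ∈ F := by
    have h1 : x ∈ cj g F := hx
    rwa [mem_cj] at h1
  have hxL : g⁻¹ * x * g ∈ zl (S : Subgroup G) P := by
    have h1 := hB.fr.ZJV hxZ
    rw [← hgL, mem_cj] at h1
    exact h1
  exact mem_sup_of_cent hB hWB hmv hxL fun b hb => (NOne.Flat.Hyp.F_comm hxF (NOne.Flat.Hyp.W_le_X hb)).symm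

/-- `W_F` for `F` active, moved by `S` : some `F'` moves `W i` -/
theorem exists_F (hact : ∃ F, NOne.Flat.Hyp V F ∧ NOne.Flat.WW V F ≤ (S : Subgroup G) ∧ ¬ NOne.Flat.WW V F ≤ o2 P) (i : ι) :
    ∃ F, NOne.Flat.Hyp V F ∧ NOne.Flat.WW V F ≤ (S : Subgroup G) ∧ ¬ NOne.Flat.WW V F ≤ o2 P ∧ ¬ NOne.Flat.WW V F ≤ centralizer (W i : Set G) := by
  have hBB : WY.BB (S : Subgroup G) P = B := hB.eqB.symm
  obtain ⟨F, hF, hW, hn⟩ := hact
  have hWB : NOne.Flat.WW V F ≤ B := hBB ▸ h.W_B hV hF hW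
  obtain ⟨j, hj⟩ := exists_mv_W hB hWB (h.W_mv hW hn)
  obtain ⟨s, hs, e⟩ := hB.trans j i
  have hsP : s ∈ P := h.parP.le hs
  have hsV := PV h hV hsP
  have e1 := WY.WW_cj (F := F) hsV
  refine ⟨MulAut.conj s • F, hyp_cj hF hsV, ?_, ?_, ?_⟩
  · rw [e1]
    have h1 := cj_mono s hW
    rwa [cj_eq_of_mem_normalizer (Subgroup.le_normalizer hs)] at h1
  · rw [e1]
    intro h1
    apply hn
    have h2 := cj_mono s⁻¹ h1
    rwa [cj_inv_cj, cj_eq_of_mem_normalizer (ZN.le_normalizer_o2 _ (inv_mem hsP))] at h2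
  · rw [e1, ← e]
    intro h1
    apply hj
    have h2 := cj_mono s⁻¹ h1
    rwa [cj_inv_cj, cj_centralizer, cj_inv_cj] at h2

/-- **(4)** : `R ≤ V_P F^g` for all active `F`, `u ∈ R`, `[u, O₂(P)] ≤ Z_J` : `u ∈ V_P` -/
theorem mem_zl (hact : ∃ F, NOne.Flat.Hyp V F ∧ NOne.Flat.WW V F ≤ (S : Subgroup G) ∧ ¬ NOne.Flat.WW V F ≤ o2 P) {R : Subgroup G}
    (hR : ∀ F, NOne.Flat.Hyp V F → NOne.Flat.WW V F ≤ (S : Subgroup G) → ¬ NOne.Flat.WW V F ≤ o2 P →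
      R ≤ zl (S : Subgroup G) P ⊔ MulAut.conj g • F) (hRV : R ≤ V) {u : G} (hu : u ∈ R)
    (huQ : ∀ x ∈ o2 P, u * x * u⁻¹ * x⁻¹ ∈ WY.ZJ (S : Subgroup G) P) : u ∈ zl (S : Subgroup G) P := by
  have hBB : WY.BB (S : Subgroup G) P = B := hB.eqB.symm
  have hgV := PV h hV hg
  have hQL : o2 P ≤ centralizer (zl (S : Subgroup G) P : Set G) := by
    rw [← h.cl.zc_eq]; exact Level.le_centralizer_zc _
  have key : ∀ x ∈ o2 P, u * x * u⁻¹ * x⁻¹ = 1 := by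
    intro x hx
    refine hB.fr.C0 _ (hB.fr.ZJV (huQ x hx)) fun i => ?_
    obtain ⟨F, hF, hW, hn, hi⟩ := exists_F h hB hV hg hgen hact i
    have hWB : NOne.Flat.WW V F ≤ B := hBB ▸ h.W_B hV hF hW
    refine mem_C h hB hV hg hgen hWB hi ?_ (huQ x hx)
    have hW3 : NOne.Flat.WW V (MulAut.conj g • F) ≤ P := by
      rw [WY.WW_cj hgV]
      have h1 := cj_mono g (hW.trans h.parP.le)
      rwa [cj_eq_of_mem_normalizer (Subgroup.le_normalizer hg)] at h1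
    exact phi_le (hyp_cj hF hgV) (L_le_E_cj h hV hF hW hg) hQL (hW3.trans (ZN.le_normalizer_o2 _))
      (hW3.trans (ZN.le_normalizer_zl _ _)) (hR F hF hW hn) hB.fr.ZJV (LW_inf h hB hV hg hgen hWB) hu huQ x hx
  rw [← h.cvQ]
  refine mem_inf.2 ⟨hV.le (hRV hu), mem_centralizer_iff.2 fun x hx => ?_⟩
  have h1 := mul_inv_eq_one.1 (key x hx)
  exact (mul_inv_eq_iff_eq_mul.1 h1).symm

/-- **THEOREM L(q), (4)** -/
theorem norm_ZJ (hact : ∃ F, NOne.Flat.Hyp V F ∧ NOne.Flat.WW V F ≤ (S : Subgroup G) ∧ ¬ NOne.Flat.WW V F ≤ o2 P)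
    (hall : ∀ F, NOne.Flat.Hyp V F → NOne.Flat.WW V F ≤ (S : Subgroup G) → NOne.Flat.WW V F ≤ o2 Y)
    (hR : ∀ F, NOne.Flat.Hyp V F → NOne.Flat.WW V F ≤ (S : Subgroup G) → ¬ NOne.Flat.WW V F ≤ o2 P →
      cl (WY.ZJ (S : Subgroup G) P) Y ≤ zl (S : Subgroup G) P ⊔ MulAut.conj g • F) :
    Y ≤ normalizer (WY.ZJ (S : Subgroup G) P : Set G) := by
  have hBB : WY.BB (S : Subgroup G) P = B := hB.eqB.symm
  set Z₀ : Subgroup G := WY.ZJ (S : Subgroup G) P with hZ₀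
  set R : Subgroup G := cl Z₀ Y with hRd
  have hRV : R ≤ V := cl_le fun y hy => by
    have h1 := cj_mono y (((ZJ_le h.cl).trans (h.L_le_V hV)))
    rwa [cj_eq_of_mem_normalizer (hV.norm (h.Y_le hy))] at h1
  have hRn : Y ≤ normalizer (R : Set G) := le_normalizer_cl _ _
  by_contra hcon
  have hne : ¬ R ≤ Z₀ := by
    intro h1
    have h2 : R = Z₀ := le_antisymm h1 (le_cl _ _)
    rw [h2] at hRn
    exact hcon hRn
  have hRT : R ≤ T := hRV.trans ((hV.le.trans h.V_le_D).trans h.DX_T)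
  obtain ⟨u, huR, huZ, hu⟩ := OneLine.exists_fixed h.T2 hRT (h.T_Y.trans hRn) hne
  -- `R` centralises all `W_F ≤ S`
  have hRW : ∀ F, NOne.Flat.Hyp V F → NOne.Flat.WW V F ≤ (S : Subgroup G) → R ≤ centralizer (NOne.Flat.WW V F : Set G) := by
    intro F hF hW
    refine cl_le fun y hy => le_centralizer_iff.1 ?_
    have hyV : y⁻¹ ∈ normalizer (V : Set G) := hV.norm (h.Y_le (inv_mem hy))
    have h1 : cj y⁻¹ (NOne.Flat.WW V F) ≤ (S : Subgroup G) := by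
      have h2 := cj_mono y⁻¹ (hall F hF hW)
      rw [cj_eq_of_mem_normalizer (ZN.le_normalizer_o2 _ (inv_mem hy))] at h2
      exact h2.trans h.o2Y_le
    have h3 := (h.W_B hV (hyp_cj hF hyV) (by rw [WY.WW_cj hyV]; exact h1)).trans inf_le_right
    rw [WY.WW_cj hyV] at h3
    have h4 := cj_mono y h3
    rwa [cj_cj_inv, cj_centralizer] at h4
  apply huZ
  have huQ : ∀ x ∈ o2 P, u * x * u⁻¹ * x⁻¹ ∈ Z₀ := by
    intro x hx
    have h1 := inv_mem (hu x (h.QT hx))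
    have e : (x * u * x⁻¹ * u⁻¹)⁻¹ = u * x * u⁻¹ * x⁻¹ := by group
    rwa [e] at h1
  have huL := mem_zl h hB hV hg hgen hact hR hRV huR huQ
  refine mem_ZJ_of hB huL fun i => ?_
  obtain ⟨F, hF, hW, -, hi⟩ := exists_F h hB hV hg hgen hact i
  exact mem_sup_of_cent hB (hBB ▸ h.W_B hV hF hW) hi huL fun b hb =>
    mem_centralizer_iff.1 (hRW F hF hW huR) b hb

/-- **THEOREM L(q), (4)** from `⟨Z_J^Y⟩ ≤ E_(F^g)` (2) and `[⟨Z_J^Y⟩, A_(F^g)] = 1` (3) -/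
theorem norm_ZJ' (hact : ∃ F, NOne.Flat.Hyp V F ∧ NOne.Flat.WW V F ≤ (S : Subgroup G) ∧ ¬ NOne.Flat.WW V F ≤ o2 P)
    (hall : ∀ F, NOne.Flat.Hyp V F → NOne.Flat.WW V F ≤ (S : Subgroup G) → NOne.Flat.WW V F ≤ o2 Y)
    (hE : ∀ F, NOne.Flat.Hyp V F → NOne.Flat.WW V F ≤ (S : Subgroup G) → ¬ NOne.Flat.WW V F ≤ o2 P →
      cl (WY.ZJ (S : Subgroup G) P) Y ≤ NOne.Flat.EE V (MulAut.conj g • F))
    (hA : ∀ F, NOne.Flat.Hyp V F → NOne.Flat.WW V F ≤ (S : Subgroup G) → ¬ NOne.Flat.WW V F ≤ o2 P →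
      cl (WY.ZJ (S : Subgroup G) P) Y ≤ centralizer
        ((NOne.Flat.WW V (MulAut.conj g • F) ⊓ centralizer (zl (S : Subgroup G) P : Set G) : Subgroup G) : Set G)) :
    Y ≤ normalizer (WY.ZJ (S : Subgroup G) P : Set G) :=
  norm_ZJ h hB hV hg hgen hact hall fun F hF hW hn => by
    rw [← WY.cent_AF (hyp_cj hF (PV h hV hg)) (L_le_E_cj h hV hF hW hg) (hex_cj h hV hF hW hg)]
    exact le_inf (hE F hF hW hn) (hA F hF hW hn)

end wq

end Cfsg.Agent.Omega.NO3S.CaseLW.LThm
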