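import Cfsg.Agent.Omega.NO3S.CaseLW.LThm.Struct
import Cfsg.Agent.Omega.NO3S.CaseLW.LThm.GEnd
import Cfsg.Agent.Omega.NO3S.CaseLW.QWc
import Cfsg.Agent.Omega.Node.MulX

/-!
# THEOREM L(q) (#26406) : the instance of `At` (helper987), for the structures of helper202

`WQ S P T Y`, `L = V_P = zl S P`, `Q = O₂(P)`, `V` with `Md S P Y V`, `W_F ≤ S`, `g ∈ P`, `F₃ = F^g`.

* `best_A3` : `A₃ = C_(W₃)(L)` is a best offender on `E₃` (helper404's (f6));
* `LL_le` : `⟨L^(C_G(F₃))⟩ ≤ (WW S P)^g` (lines on `Z^g` commute);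
* `relIndex_ge` : `q ≤ |L : L ∩ F|` if `W_F` moves `W i`;
* **`at_of`** : all fields of `At` for `F₃`, from `[L, W₃] ∩ Z_J = 1`;
* **`exists_at`** : every `z ∈ Z_J#` is outside some `F₃` with `At` (the second input of `Sit.norm`).
-/

set_option autoImplicit false
set_option linter.unusedSectionVars false

namespace Cfsg.Agent.Omega.NO3S.CaseLW.LThm.AtOf

open Subgroup Cfsg Cfsg.Agent.ZN Cfsg.Agent.ZN.ChoiceBase Cfsg.Agent.Omega.MinPar Cfsg.Agent.Omega.Frame
open Cfsg.Agent.Omega.FrameNOFF (CZ)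
open Cfsg.Agent.Omega.NO3S
open Cfsg.Agent.Omega.NO3S.Level
open Cfsg.Agent.Omega.NO3S.RedC
open Cfsg.Agent.Omega.NO3S.WY
open Cfsg.Agent.Omega.NO1.BestOff (Best)

open Cfsg.Agent.Omega.NO3S.CaseLW.QWc
open Cfsg.Agent.Omega.Node.MulX (MulL)
open scoped Pointwise

universe u

variable {G : Type u} [Group G] [Finite G]

/-! ### `A₃` is best on `E₃` -/

/-- `A = C_W(L)` is a best offender on `E`, `L ≤ E` an exact line -/
theorem best_A {V F L : Subgroup G} (hF : NOne.Flat.Hyp V F) (hL : L ≤ NOne.Flat.EE V F)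
    (hex : (centralizer (L : Set G)).relIndex (NOne.Flat.WW V F) ≤ (centralizer (NOne.Flat.WW V F : Set G)).relIndex L) :
    Best (NOne.Flat.EE V F) (NOne.Flat.WW V F ⊓ centralizer (L : Set G)) where
  sq := (NO1.BestOff.ElemM.mono (WY.elemW hF (inf_le_left : NOne.Flat.EE V F ≤ V)) inf_le_left).sq
  comm := (NO1.BestOff.ElemM.mono (WY.elemW hF (inf_le_left : NOne.Flat.EE V F ≤ V)) inf_le_left).comm
  max := fun A' hA' _ => by
    have h1 := WY.her hF (U := NOne.Flat.EE V F) le_rfl (W' := A') (hA'.trans inf_le_left)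
    rw [hF.cent_EW] at h1
    refine h1.trans ?_
    -- `|W| |F| ≤ |A| |C_E(A)|`
    rw [WY.cent_AF hF hL hex]
    set W := NOne.Flat.WW V F with hW
    set A : Subgroup G := W ⊓ centralizer (L : Set G) with hA
    have e1 : Nat.card A * (centralizer (L : Set G)).relIndex W = Nat.card W := by
      have e0 := NOne.Flat.card_mul_relIndex' (inf_le_left : W ⊓ centralizer (L : Set G) ≤ W)
      rwa [inf_relIndex_left] at e0
    have hLF : L ≤ normalizer (F : Set G) :=
      ((hL.trans inf_le_left).trans (hF.comm.trans (centralizer_le hF.F_le_V))).trans (centralizer_le_normalizer _)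
    have e2 := NOne.Flat.Off.card_sup_mul_inf hLF
    have e3 : L ⊓ F = L ⊓ centralizer (W : Set G) := by
      apply le_antisymm
      · refine inf_le_inf_left _ ?_
        rw [le_centralizer_iff]
        exact NOne.Flat.Hyp.W_le_X
      · refine le_inf inf_le_left ?_
        rw [← hF.cent_EW]
        exact inf_le_inf_right _ hL
    rw [e3] at e2
    have e4 := NOne.Flat.card_mul_relIndex' (inf_le_left : L ⊓ centralizer (W : Set G) ≤ L)
    rw [inf_relIndex_left] at e4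
    have hp2 : 0 < Nat.card ↥(L ⊓ centralizer (W : Set G)) := Nat.card_pos
    refine Nat.le_of_mul_le_mul_right ?_ hp2
    calc Nat.card W * Nat.card F * Nat.card ↥(L ⊓ centralizer (W : Set G))
        = Nat.card A * (centralizer (L : Set G)).relIndex W * Nat.card F *
            Nat.card ↥(L ⊓ centralizer (W : Set G)) := by rw [e1]
      _ ≤ Nat.card A * (centralizer (W : Set G)).relIndex L * Nat.card F *
            Nat.card ↥(L ⊓ centralizer (W : Set G)) :=
          Nat.mul_le_mul_right _ (Nat.mul_le_mul_right _ (Nat.mul_le_mul_left _ hex))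
      _ = Nat.card A * (Nat.card ↥(L ⊓ centralizer (W : Set G)) * (centralizer (W : Set G)).relIndex L) *
            Nat.card F := by ring
      _ = Nat.card A * Nat.card L * Nat.card F := by rw [e4]
      _ = Nat.card A * (Nat.card ↥(L ⊔ F) * Nat.card ↥(L ⊓ centralizer (W : Set G))) := by rw [e2]; ring
      _ = _ := by ring

/-- **`A` is best on `E`** : the relative index form -/
theorem best_A3 {V F L : Subgroup G} (hF : NOne.Flat.Hyp V F) (hL : L ≤ NOne.Flat.EE V F)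
    (hex : (centralizer (L : Set G)).relIndex (NOne.Flat.WW V F) ≤ (centralizer (NOne.Flat.WW V F : Set G)).relIndex L) :
    ∀ N ≤ NOne.Flat.EE V F, (centralizer ((NOne.Flat.WW V F ⊓ centralizer (L : Set G) : Subgroup G) : Set G)).relIndex N ≤
      (centralizer (N : Set G)).relIndex (NOne.Flat.WW V F ⊓ centralizer (L : Set G)) := by
  intro N hN
  have hEc : NOne.Flat.EE V F ≤ centralizer (NOne.Flat.EE V F : Set G) :=
    ((inf_le_left : NOne.Flat.EE V F ≤ V).trans hF.comm).trans (centralizer_le inf_le_left)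
  have h1 := WY.best_mono (best_A hF hL hex) hN hEc
  have h2 := h1.max ((NOne.Flat.WW V F ⊓ centralizer (L : Set G)) ⊓ centralizer (N : Set G)) inf_le_left le_rfl
  have h3 : N ⊓ centralizer (((NOne.Flat.WW V F ⊓ centralizer (L : Set G)) ⊓ centralizer (N : Set G) : Subgroup G) : Set G) = N :=
    inf_eq_left.2 (le_centralizer_iff.1 inf_le_right)
  rw [h3] at h2
  refine FFThm.relIndex_le_iff.1 ?_
  rw [mul_comm (Nat.card N)]
  exact h2

/-! ### the lines on `Z^g` commute -/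

section WQ

variable {S : Sylow 2 G} {P T Y V F : Subgroup G} (h : WQ S P T Y) (hV : Md S P Y V)
  (hF : NOne.Flat.Hyp V F) (hW : NOne.Flat.WW V F ≤ (S : Subgroup G))
include h hV hF hW

/-- `⟨L^(C_G(F^g))⟩ ≤ (WW S P)^g` -/
theorem LL_le {g : G} (hg : g ∈ P) : LL (zl (S : Subgroup G) P) (MulAut.conj g • F) ≤
    MulAut.conj g • NO3S.WW (S : Subgroup G) P := by
  refine NoFF.Basic.V_le fun x hx => ?_
  have hZF : zc (S : Subgroup G) ≤ F := h.zc_le_F hV hF hW
  have h1 : g⁻¹ * x * g ∈ CZ (S : Subgroup G) := by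
    refine mem_centralizer_iff.2 fun z hz => ?_
    have h2 : g * z * g⁻¹ ∈ MulAut.conj g • F := ⟨z, hZF hz, rfl⟩
    have h3 := mem_centralizer_iff.1 hx _ h2
    have h4 := congrArg (fun t => g⁻¹ * t * g) h3
    simpa [mul_assoc] using h4
  have h2 := (NoFF.Basic.conj_le_iff (g := g)).2 (conj_zl_le_WW (P := P) h1)
  rw [NoFF.Basic.conj_conj] at h2
  have e1 : g * (g⁻¹ * x * g) = x * g := by group
  rw [e1, ← NoFF.Basic.conj_conj] at h2
  have e2 : MulAut.conj g • zl (S : Subgroup G) P = zl (S : Subgroup G) P := cj_L h hV hg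
  rwa [e2] at h2

theorem LL_comm {g : G} (hg : g ∈ P) : ∀ x ∈ LL (zl (S : Subgroup G) P) (MulAut.conj g • F),
    ∀ y ∈ LL (zl (S : Subgroup G) P) (MulAut.conj g • F), x * y = y * x := by
  intro x hx y hy
  obtain ⟨a, ha, rfl⟩ := LL_le h hV hF hW hg hx
  obtain ⟨b, hb, rfl⟩ := LL_le h hV hF hW hg hy
  have h1 : a * b = b * a := mem_centralizer_iff.1 (h.hyp.W_comm hb) a ha
  exact (map_mul (MulAut.conj g) a b).symm.trans ((congrArg _ h1).trans (map_mul (MulAut.conj g) b a))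

theorem LL_sq {g : G} (hg : g ∈ P) : ∀ x ∈ LL (zl (S : Subgroup G) P) (MulAut.conj g • F), x * x = 1 := by
  intro x hx
  obtain ⟨a, ha, rfl⟩ := LL_le h hV hF hW hg hx
  have h1 : a * a = 1 := by rw [← sq]; exact h.hyp.W_sq a ha
  exact (map_mul (MulAut.conj g) a a).symm.trans ((congrArg _ h1).trans (map_one (MulAut.conj g)))

/-- `W_(F^g) ≤ P` -/
theorem W_le_P {g : G} (hg : g ∈ P) : NOne.Flat.WW V (MulAut.conj g • F) ≤ P := by
  rw [WW_cj (PV h hV hg)]
  have h2 := cj_mono g (hW.trans h.parP.le)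
  rwa [cj_eq_of_mem_normalizer (le_normalizer hg)] at h2

/-- `A₃ ≤ Q` -/
theorem A_le_Q {g : G} (hg : g ∈ P) :
    NOne.Flat.WW V (MulAut.conj g • F) ⊓ centralizer (zl (S : Subgroup G) P : Set G) ≤ o2 P := by
  rw [← cj_AF h hV hg]
  have h1 : NOne.Flat.WW V F ⊓ centralizer (zl (S : Subgroup G) P : Set G) ≤ o2 P := by
    rw [← h.parP.inf_centralizer S h.hG]
    exact inf_le_inf_right _ hW
  have h2 := cj_mono g h1
  rwa [cj_eq_of_mem_normalizer (ZN.le_normalizer_o2 _ hg)] at h2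

/-- `F ⊓ L = C_L(W_F)` as relative indices -/
theorem rel_eq {L : Subgroup G} (hL : L ≤ NOne.Flat.EE V F) :
    F.relIndex L = (centralizer (NOne.Flat.WW V F : Set G)).relIndex L := by
  have e3 : L ⊓ F = L ⊓ centralizer (NOne.Flat.WW V F : Set G) := by
    apply le_antisymm
    · refine inf_le_inf_left _ ?_
      rw [le_centralizer_iff]
      exact NOne.Flat.Hyp.W_le_X
    · exact le_inf inf_le_left ((inf_le_inf_right _ hL).trans hF.cent_EW.le)
  rw [← inf_relIndex_left L F, e3, inf_relIndex_left]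

end WQ

/-! ### `|L : L ∩ F| ≥ q` -/

section mul

variable {S : Sylow 2 G} {P B ZJ : Subgroup G} {k : ℕ} {L W Z C A : Fin k → Subgroup G} {q : ℕ}

/-- `|L : C_L(X)| ≥ q` if `X ≤ B` moves `W i` -/
theorem relIndex_ge (h : MulL S P B ZJ L W Z C A q) {X : Subgroup G} (hX : X ≤ B) {i : Fin k}
    (hmv : ¬ X ≤ centralizer (W i : Set G)) : q ≤ (centralizer (X : Set G)).relIndex (zl (S : Subgroup G) P) := by
  obtain ⟨b, hb, hbW⟩ := SetLike.not_le_iff_exists.1 hmv
  have hblk := (h.fr.blk i).toMd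
  have hbm : ¬ ∀ u ∈ W i, b * u = u * b := fun h1 => hbW (mem_centralizer_iff.2 fun u hu => (h1 u hu).symm)
  have h1 : W i ⊓ centralizer (X : Set G) ≤ Z i := by
    rintro v ⟨hv, hvX⟩
    exact hblk.mem_Z (hX hb) hbm hv (mem_centralizer_iff.1 hvX b hb)
  have h2 : q = (Z i).relIndex (W i) := by
    have e := NOne.Flat.card_mul_relIndex' hblk.ZV
    rw [hblk.card] at e
    exact (Nat.eq_of_mul_eq_mul_left Nat.card_pos e).symm
  calc q = (Z i).relIndex (W i) := h2
    _ ≤ (W i ⊓ centralizer (X : Set G)).relIndex (W i) := relIndex_le_of_le_left h1 index_ne_zero_of_finite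
    _ = (centralizer (X : Set G)).relIndex (W i) := inf_relIndex_left _ _
    _ ≤ _ := relIndex_le_of_le_right (h.fr.WV i) index_ne_zero_of_finite

/-- **The instance of `At`** for `F₃ = F^g`, `g ∈ P`, `W_F ≤ S` moves `W i`; `hG1` = `[L, W₃] ∩ Z_J = 1`. -/
theorem at_of (h : MulL S P B ZJ L W Z C A q) {T Y V F : Subgroup G} (hw : WQ S P T Y) (hV : Md S P Y V)
    (hF : NOne.Flat.Hyp V F) (hW : NOne.Flat.WW V F ≤ (S : Subgroup G)) (hB : NOne.Flat.WW V F ≤ B) {i : Fin k}
    (hmv : ¬ NOne.Flat.WW V F ≤ centralizer (W i : Set G)) {g : G} (hg : g ∈ P)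
    (hG1 : LW (zl (S : Subgroup G) P) V (MulAut.conj g • F) ⊓ ZJ = ⊥) :
    At V (zl (S : Subgroup G) P) (o2 P) ZJ q (MulAut.conj g • F) where
  hyp := hyp_cj hF (PV hw hV hg)
  LE := L_le_E_cj hw hV hF hW hg
  qF := by
    have e1 : (MulAut.conj g • F).relIndex (zl (S : Subgroup G) P) = F.relIndex (zl (S : Subgroup G) P) := by
      have e2 : MulAut.conj g • zl (S : Subgroup G) P = zl (S : Subgroup G) P := cj_L hw hV hg
      rw [← e2, Subgroup.relIndex_pointwise_smul, e2]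
    rw [e1, rel_eq hw hV hF hW (hw.L_le_E hV hF hW)]
    exact relIndex_ge h hB hmv
  LLc := LL_comm hw hV hF hW hg
  LLs := LL_sq hw hV hF hW hg
  AQ := A_le_Q hw hV hF hW hg
  WQ := (W_le_P hw hV hF hW hg).trans (ZN.le_normalizer_o2 _)
  WL := (W_le_P hw hV hF hW hg).trans (ZN.le_normalizer_zl _ _)
  LWZ := hG1
  cE := (WY.cent_AF (hyp_cj hF (PV hw hV hg)) (L_le_E_cj hw hV hF hW hg) (hex_cj hw hV hF hW hg)).le
  best := best_A3 (hyp_cj hF (PV hw hV hg)) (L_le_E_cj hw hV hF hW hg) (hex_cj hw hV hF hW hg)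

/-- **All `z ∈ Z_J#` are outside some `F₃`** (with 773's `Gen`): the second input of `Sit.norm`. -/
theorem exists_at (h : MulL S P B ZJ L W Z C A q) {T Y V : Subgroup G} (hw : WQ S P T Y) (hV : Md S P Y V)
    (hact : ∃ F, NOne.Flat.Hyp V F ∧ NOne.Flat.WW V F ≤ (S : Subgroup G) ∧ ¬ NOne.Flat.WW V F ≤ o2 P) :
    ∀ z ∈ ZJ, z ≠ 1 → ∃ F, At V (zl (S : Subgroup G) P) (o2 P) ZJ q F ∧ z ∉ F := by
  have eZ : ZJ = WY.ZJ (S : Subgroup G) P := h.eZ
  subst eZ
  obtain ⟨g, hg, hgen⟩ := exists_g h.bg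
  have hBB : WY.BB (S : Subgroup G) P = B := h.bg.eqB.symm
  intro z hz hz1
  obtain ⟨i, hi⟩ : ∃ i, z ∉ C i := by
    by_contra hcon
    push Not at hcon
    exact hz1 (h.fr.C0 z (h.fr.ZJV hz) hcon)
  obtain ⟨F, hF, hW, -, hmv⟩ := exists_F hw h.bg hV hg hgen hact i
  have hWB : NOne.Flat.WW V F ≤ B := hBB ▸ hw.W_B hV hF hW
  exact ⟨MulAut.conj g • F, at_of h hw hV hF hW hWB hmv hg (LW_inf hw h.bg hV hg hgen hWB),
    fun hzF => hi (mem_C hw h.bg hV hg hgen hWB hmv hzF hz)⟩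

end mul

end Cfsg.Agent.Omega.NO3S.CaseLW.LThm.AtOf
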