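import Cfsg.Agent.Omega.OM.SWT.Dt
import Cfsg.Agent.Omega.NOThreeL.RF.Semi

/-!
# THEOREM L(q) (#26406): the facts (FT) on a 2-group which normalises a summand

* `FT T Z W` : `T` acts on the summand `W` (line `Z`) semilinearly, in the form which is used;
* `FT.mono`, `FT.cj`; `exists_cj_le` : a 2-subgroup of `Y` which normalises `cj y Z` lies in `cj g T`, `cj g Z = cj y Z`;
* **`ft_of`** : `FT (S ⊓ N(Z i)) (Z i) (W i)` over the frame with coordinates `Dt P n M L Z A`.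
-/

set_option autoImplicit false
set_option linter.unusedSectionVars false

namespace Cfsg.Agent.Omega.NO3S.CaseLW.LThm

open Subgroup Cfsg.Agent.ZN.ChoiceBase Cfsg.Agent.ZN.ChoiceSit
open Cfsg.Agent.ZN (jj zj bau zc zl o2)
open Cfsg.Agent.Lib.SL2Mat
open Cfsg.Agent.Omega.NatPair (ap ext2)
open Cfsg.Agent.Omega.FFThm (NatK NatKM ActsSL)
open Cfsg.Agent.Omega.FrameFF (cv)
open Cfsg.Agent.Omega.NO3S.OneLine (NatC)
open Cfsg.Agent.Omega.OM.Lev.Nat
open Cfsg.Agent.Omega.OM.SWT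
open Cfsg.Agent.Omega.OM.YThm

universe u

variable {G : Type u} [Group G]

/-- **(FT)** -/
structure FT (T Z W : Subgroup G) : Prop where
  nZ : T ≤ normalizer (Z : Set G)
  nW : T ≤ normalizer (W : Set G)
  ZW : Z ≤ W
  /-- `T / C_T(Z)` is cyclic -/
  cyc : ∀ s ∈ T, ∀ t ∈ T, s * s ∈ centralizer (Z : Set G) → t * t ∈ centralizer (Z : Set G) →
    s ∉ centralizer (Z : Set G) → t ∉ centralizer (Z : Set G) → s * t ∈ centralizer (Z : Set G)
  /-- `[W, C_T(Z)] ≤ Z` -/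
  com : ∀ t ∈ T, t ∈ centralizer (Z : Set G) → ∀ w ∈ W, t * w * t⁻¹ * w⁻¹ ∈ Z
  /-- `t ∈ C_T(Z)` : `[W, t] = 1` or `[W, t] = Z` -/
  sur : ∀ t ∈ T, t ∈ centralizer (Z : Set G) → t ∉ centralizer (W : Set G) → ∀ z ∈ Z, ∃ w ∈ W,
    t * w * t⁻¹ * w⁻¹ = z
  /-- `t ∈ C_T(Z)`, `C_W(t) ≰ Z` : `[W, t] = 1` -/
  ker : ∀ t ∈ T, t ∈ centralizer (Z : Set G) → ∀ w ∈ W, w ∉ Z → t * w = w * t → t ∈ centralizer (W : Set G)
  /-- `[W, t] ≤ Z` implies `[Z, t] = 1` -/
  mov : ∀ t ∈ T, t ∉ centralizer (Z : Set G) → ∃ w ∈ W, t * w * t⁻¹ * w⁻¹ ∉ Z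

theorem FT.mono {T T' Z W : Subgroup G} (h : FT T Z W) (hT : T' ≤ T) : FT T' Z W where
  nZ := hT.trans h.nZ
  nW := hT.trans h.nW
  ZW := h.ZW
  cyc := fun s hs t ht => h.cyc s (hT hs) t (hT ht)
  com := fun t ht => h.com t (hT ht)
  sur := fun t ht => h.sur t (hT ht)
  ker := fun t ht => h.ker t (hT ht)
  mov := fun t ht => h.mov t (hT ht)

theorem mem_cent_cj {g x : G} {Z : Subgroup G} :
    x ∈ centralizer ((cj g Z : Subgroup G) : Set G) ↔ g⁻¹ * x * g ∈ centralizer (Z : Set G) := by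
  rw [← cj_centralizer, mem_cj]

theorem FT.cj {T Z W : Subgroup G} (h : FT T Z W) (g : G) :
    FT (ZN.ChoiceBase.cj g T) (ZN.ChoiceBase.cj g Z) (ZN.ChoiceBase.cj g W) where
  nZ := by
    have := cj_mono g h.nZ
    rwa [cj_normalizer] at this
  nW := by
    have := cj_mono g h.nW
    rwa [cj_normalizer] at this
  ZW := cj_mono g h.ZW
  cyc := fun s hs t ht h1 h2 h3 h4 => by
    rw [mem_cent_cj] at h1 h2 h3 h4 ⊢
    have h5 := h.cyc _ (mem_cj.1 hs) _ (mem_cj.1 ht) (by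
      have e : g⁻¹ * s * g * (g⁻¹ * s * g) = g⁻¹ * (s * s) * g := by group
      rw [e]; exact h1) (by
      have e : g⁻¹ * t * g * (g⁻¹ * t * g) = g⁻¹ * (t * t) * g := by group
      rw [e]; exact h2) h3 h4
    have e : g⁻¹ * s * g * (g⁻¹ * t * g) = g⁻¹ * (s * t) * g := by group
    rwa [e] at h5
  com := fun t ht h1 w hw => by
    rw [mem_cent_cj] at h1
    have h5 := h.com _ (mem_cj.1 ht) h1 _ (mem_cj.1 hw)
    rw [mem_cj]
    have e : g⁻¹ * t * g * (g⁻¹ * w * g) * (g⁻¹ * t * g)⁻¹ * (g⁻¹ * w * g)⁻¹ = g⁻¹ * (t * w * t⁻¹ * w⁻¹) * g := by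
      group
    rwa [e] at h5
  sur := fun t ht h1 h2 z hz => by
    rw [mem_cent_cj] at h1 h2
    obtain ⟨w, hw, e⟩ := h.sur _ (mem_cj.1 ht) h1 h2 _ (mem_cj.1 hz)
    refine ⟨g * w * g⁻¹, mem_cj.2 (by
      have e1 : g⁻¹ * (g * w * g⁻¹) * g = w := by group
      rwa [e1]), ?_⟩
    have e2 : t * (g * w * g⁻¹) * t⁻¹ * (g * w * g⁻¹)⁻¹ =
        g * (g⁻¹ * t * g * w * (g⁻¹ * t * g)⁻¹ * w⁻¹) * g⁻¹ := by group
    rw [e2, e]
    group
  ker := fun t ht h1 w hw hwZ h2 => by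
    rw [mem_cent_cj] at h1 ⊢
    refine h.ker _ (mem_cj.1 ht) h1 _ (mem_cj.1 hw) (fun h3 => hwZ (mem_cj.2 h3)) ?_
    have e : g⁻¹ * t * g * (g⁻¹ * w * g) = g⁻¹ * (t * w) * g := by group
    rw [e, h2]
    group
  mov := fun t ht h1 => by
    rw [mem_cent_cj] at h1
    obtain ⟨w, hw, h2⟩ := h.mov _ (mem_cj.1 ht) h1
    refine ⟨g * w * g⁻¹, mem_cj.2 (by
      have e1 : g⁻¹ * (g * w * g⁻¹) * g = w := by group
      rwa [e1]), fun h3 => h2 ?_⟩
    rw [mem_cj] at h3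
    have e2 : g⁻¹ * t * g * w * (g⁻¹ * t * g)⁻¹ * w⁻¹ = g⁻¹ * (t * (g * w * g⁻¹) * t⁻¹ * (g * w * g⁻¹)⁻¹) * g := by
      group
    rwa [e2]

/-- **Sylow** : a 2-subgroup `X` of `Y` which normalises `cj y Z` lies in `cj g T`, `g ∈ Y`, `cj g Z = cj y Z`. -/
theorem exists_cj_le [Finite G] {T Y Z X : Subgroup G} (hT : Syl T Y) (hTZ : T ≤ normalizer (Z : Set G)) {y : G}
    (hy : y ∈ Y) (hX : X ≤ Y) (hX2 : IsPGroup 2 X) (hXc : X ≤ normalizer ((ZN.ChoiceBase.cj y Z : Subgroup G) : Set G)) :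
    ∃ g ∈ Y, ZN.ChoiceBase.cj g Z = ZN.ChoiceBase.cj y Z ∧ X ≤ ZN.ChoiceBase.cj g T := by
  have hT' : Syl T (Y ⊓ normalizer (Z : Set G)) :=
    ⟨le_inf hT.1 hTZ, hT.2.1, fun R hR h1 h2 => hT.2.2 R (hR.trans inf_le_left) h1 h2⟩
  have h1 : ZN.ChoiceBase.cj y⁻¹ X ≤ Y ⊓ normalizer (Z : Set G) := by
    refine le_inf ?_ ?_
    · have := cj_mono y⁻¹ hX
      rwa [cj_eq_of_mem_normalizer (le_normalizer (inv_mem hy))] at this
    · have := cj_mono y⁻¹ hXc
      rwa [cj_normalizer, cj_inv_cj] at this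
  obtain ⟨R, hR, hXR⟩ := exists_syl (hX2.map (MulAut.conj y⁻¹).toMonoidHom) h1
  obtain ⟨m, hm, e⟩ := syl_conj hT' hR
  refine ⟨y * m, mul_mem hy hm.1, ?_, ?_⟩
  · rw [← cj_cj, cj_eq_of_mem_normalizer hm.2]
  · have h2 := cj_mono y (hXR : ZN.ChoiceBase.cj y⁻¹ X ≤ R)
    rw [cj_cj_inv, ← e, cj_cj] at h2
    exact h2

/-! ### The instance -/

section inst

variable [Finite G] {S : Sylow 2 G} {P : Subgroup G} {n : LV S} {F : Type} [Field F] {k : ℕ}
  {M : NatC F (S : Subgroup G) P (zl (S : Subgroup G) P) (cv (S : Subgroup G) P) k}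
  {L Z A : Fin k → Subgroup G} 

/-- `t` acts on the summand `i` as `(x₀, x₁) ↦ (a τ x₀ + b τ x₁, d τ x₁)`. -/
structure Bk (M : NatC F (S : Subgroup G) P (zl (S : Subgroup G) P) (cv (S : Subgroup G) P) k) (i : Fin k) (t : G)
    (τ : F ≃+* F) (a b d : F) : Prop where
  mem : ∀ v ∈ Wn M i, t * v * t⁻¹ ∈ Wn M i
  zero : ∀ v ∈ Wn M i, M.nat.e (t * v * t⁻¹) i 0 = a * τ (M.nat.e v i 0) + b * τ (M.nat.e v i 1)
  one : ∀ v ∈ Wn M i, M.nat.e (t * v * t⁻¹) i 1 = d * τ (M.nat.e v i 1)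

theorem Bk.mul {i : Fin k} {s t : G} {τ τ' : F ≃+* F} {a b d a' b' d' : F} (h : Bk M i s τ a b d)
    (h' : Bk M i t τ' a' b' d') : Bk M i (s * t) (τ * τ') (a * τ a') (a * τ b' + b * τ d') (d * τ d') where
  mem := fun v hv => by
    have e : s * t * v * (s * t)⁻¹ = s * (t * v * t⁻¹) * s⁻¹ := by group
    rw [e]
    exact h.mem _ (h'.mem v hv)
  zero := fun v hv => by
    have e : s * t * v * (s * t)⁻¹ = s * (t * v * t⁻¹) * s⁻¹ := by group
    rw [e, h.zero _ (h'.mem v hv), h'.zero v hv, h'.one v hv, RingAut.mul_apply, RingAut.mul_apply]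
    simp only [map_add, map_mul]
    ring
  one := fun v hv => by
    have e : s * t * v * (s * t)⁻¹ = s * (t * v * t⁻¹) * s⁻¹ := by group
    rw [e, h.one _ (h'.mem v hv), h'.one v hv, RingAut.mul_apply]
    simp only [map_mul]
    ring

theorem exists_vec (M : NatC F (S : Subgroup G) P (zl (S : Subgroup G) P) (cv (S : Subgroup G) P) k) (i : Fin k)
    (x : Fin 2 → F) : ∃ v ∈ Wn M i, M.nat.e v i = x := by
  classical
  obtain ⟨v, hv, e⟩ := M.nat.surj (Pi.single i x)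
  refine ⟨v, ⟨hv, fun j hj => ?_⟩, ?_⟩
  · rw [e, Pi.single_eq_of_ne hj]
  · rw [e, Pi.single_eq_same]

/-- powers, `τ = 1` -/
theorem Bk.pow {i : Fin k} {t : G} {a b d : F} (h : Bk M i t 1 a b d) (m : ℕ) : ∃ b', Bk M i (t ^ m) 1 (a ^ m) b' (d ^ m) := by
  induction m with
  | zero =>
    refine ⟨0, fun v hv => ?_, fun v hv => ?_, fun v hv => ?_⟩
    · simpa using hv
    · simp
    · simp
  | succ m ih =>
    obtain ⟨b', hb⟩ := ih
    rw [pow_succ, pow_succ, pow_succ]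
    have := hb.mul h
    rw [mul_one] at this
    exact ⟨_, this⟩

/-- `τ = 1` and `t` a 2-element : `a = d = 1`. -/
theorem Bk.unip [CharP F 2] {i : Fin k} {t : G} {a b d : F} (h : Bk M i t 1 a b d) (ht : t ∈ (S : Subgroup G)) :
    a = 1 ∧ d = 1 := by
  obtain ⟨j, hj⟩ := S.isPGroup' ⟨t, ht⟩
  have hj' : t ^ 2 ^ j = 1 := by simpa using congrArg Subtype.val hj
  obtain ⟨b', hb⟩ := h.pow (2 ^ j)
  rw [hj'] at hb
  constructor
  · obtain ⟨v, hv, e⟩ := exists_vec M i ![1, 0]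
    have h1 := hb.zero v hv
    rw [inv_one, mul_one, one_mul, e] at h1
    refine NO3S.ThmB.End.Auto.eq_one_of_pow (n := j) ?_
    simpa using h1.symm
  · obtain ⟨v, hv, e⟩ := exists_vec M i ![0, 1]
    have h1 := hb.one v hv
    rw [inv_one, mul_one, one_mul, e] at h1
    refine NO3S.ThmB.End.Auto.eq_one_of_pow (n := j) ?_
    simpa using h1.symm

variable (D : Dt P n M L Z A)
include D

theorem vec_ext {i : Fin k} {v w : G} (hv : v ∈ Wn M i) (hw : w ∈ Wn M i) (h0 : M.nat.e v i 0 = M.nat.e w i 0)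
    (h1 : M.nat.e v i 1 = M.nat.e w i 1) : v = w := by
  refine D.inj hv.1 hw.1 ?_
  funext j
  by_cases hj : j = i
  · subst hj
    exact ext2 h0 h1
  · rw [hv.2 j hj, hw.2 j hj]

theorem Z_le (i : Fin k) : Z i ≤ Wn M i := D.Z_W i

/-- **Semilinearity on a summand which is normalised** -/
theorem exists_bk [Finite F] [CharP F 2] {i : Fin k} {t : G} (ht : t ∈ (S : Subgroup G))
    (hZ : t ∈ normalizer (Z i : Set G)) : ∃ τ a b d, Bk M i t τ a b d := by
  classical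
  have htP := D.SP ht
  obtain ⟨π, σ, c, d, hs, -⟩ := D.cd.semi (D.nm (D.S_norm ht))
  -- a vector of the line
  obtain ⟨z, hz, hze⟩ := exists_vec M i ![1, 0]
  have hzZ : z ∈ Z i := (D.memZ i z).2 ⟨hz, by rw [hze]; rfl⟩
  have hz1 : z ≠ 1 := by
    rintro rfl
    rw [M.map_one] at hze
    have := congrFun hze 0
    simp at this
  have htz : t * z * t⁻¹ ∈ Z i := (mem_normalizer_iff.1 hZ z).1 hzZ
  have htzW : t * z * t⁻¹ ∈ Wn M i := Z_le D i htz
  have htz1 : M.nat.e (t * z * t⁻¹) i ≠ 0 := by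
    intro h0
    apply hz1
    have h1 : t * z * t⁻¹ = 1 := by
      refine D.inj htzW.1 (one_mem _) ?_
      funext j
      rw [M.map_one]
      by_cases hj : j = i
      · subst hj; exact h0
      · exact htzW.2 j hj
    have e : z = t⁻¹ * (t * z * t⁻¹) * t := by group
    rw [e, h1]
    group
  -- the permutation of the summands
  obtain ⟨ρ, hρ⟩ := M.nat.perm t htP
  have hρi : ρ i = i := by
    by_contra hne
    have h1 : M.nat.e (t * z * t⁻¹) (ρ i) = 0 := htzW.2 _ hne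
    have h2 := (hρ z hz.1 i).1 h1
    rw [hze] at h2
    have := congrFun h2 0
    simp at this
  have hW : ∀ v ∈ Wn M i, t * v * t⁻¹ ∈ Wn M i := by
    intro v hv
    refine ⟨M.Vn t htP v hv.1, fun j hj => ?_⟩
    obtain ⟨l, rfl⟩ := ρ.surjective j
    refine (hρ v hv.1 l).2 (hv.2 l fun hl => hj ?_)
    rw [hl, hρi]
  have hline : ∀ v ∈ Wn M i, M.nat.e v i 1 = 0 → M.nat.e (t * v * t⁻¹) i 1 = 0 := by
    intro v hv h0
    have h1 : v ∈ Z i := (D.memZ i v).2 ⟨hv, h0⟩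
    exact ((D.memZ i _).1 ((mem_normalizer_iff.1 hZ v).1 h1)).2
  choose r hr hre using exists_vec M i
  have hφ : ∀ v ∈ Wn M i, M.nat.e (t * v * t⁻¹) i = M.nat.e (t * r (M.nat.e v i) * t⁻¹) i := by
    intro v hv
    rw [vec_ext D hv (hr _) (congrFun (hre _).symm 0) (congrFun (hre _).symm 1), hre]
  obtain ⟨τ, hτ⟩ := NOThreeL.RF.GD.exists_semi (F := F) (fun x => M.nat.e (t * r x * t⁻¹) i) (by
      intro x y
      have h1 : r x * r y ∈ Wn M i := mul_mem (hr x) (hr y)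
      have h2 := hφ _ h1
      have h3 : M.nat.e (r x * r y) i = x + y := by
        rw [M.nat.mul _ (hr x).1 _ (hr y).1, Pi.add_apply, hre, hre]
      rw [h3] at h2
      change M.nat.e (t * r (x + y) * t⁻¹) i = _
      rw [← h2]
      have e : t * (r x * r y) * t⁻¹ = (t * r x * t⁻¹) * (t * r y * t⁻¹) := by group
      rw [e, M.nat.mul _ (hW _ (hr x)).1 _ (hW _ (hr y)).1]
      rfl) (by
      intro x hx
      have h1 : t * r x * t⁻¹ = 1 := by
        refine D.inj (hW _ (hr x)).1 (one_mem _) ?_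
        funext j
        rw [M.map_one]
        by_cases hj : j = i
        · subst hj; exact hx
        · exact (hW _ (hr x)).2 j hj
      have h2 : r x = 1 := by
        have e : r x = t⁻¹ * (t * r x * t⁻¹) * t := by group
        rw [e, h1]
        group
      rw [← hre x, h2, M.map_one]
      rfl) (by
      intro x
      refine hline _ (hr _) ?_
      rw [hre]
      rfl) (by
      intro A'
      obtain ⟨g, hg, hgA, -⟩ := M.nat.lift fun _ => A'
      obtain ⟨B', hB'⟩ := M.nat.norm t htP g hg (fun _ => A') hgA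
      refine ⟨B' i, fun x => ?_⟩
      have hgr : g * r x * g⁻¹ ∈ Wn M i := by
        refine ⟨M.Vn g hg _ (hr x).1, fun j hj => ?_⟩
        rw [hgA _ (hr x).1 j, (hr x).2 j hj, ap_z]
      have h3 := hφ _ hgr
      have h4 : M.nat.e (g * r x * g⁻¹) i = ap A' x := by rw [hgA _ (hr x).1 i, hre]
      rw [h4] at h3
      change M.nat.e (t * r (ap A' x) * t⁻¹) i = ap (B' i) (M.nat.e (t * r x * t⁻¹) i)
      have e1 : t * g * t⁻¹ * (t * r x * t⁻¹) * (t * g * t⁻¹)⁻¹ = t * (g * r x * g⁻¹) * t⁻¹ := by group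
      rw [← h3, ← hB' _ (hW _ (hr x)).1 i, e1])
  set φ : (Fin 2 → F) → Fin 2 → F := fun x => M.nat.e (t * r x * t⁻¹) i with hφd
  have hadd : ∀ x y, φ (x + y) = φ x + φ y := by
    intro x y
    have h1 : r x * r y ∈ Wn M i := mul_mem (hr x) (hr y)
    have h2 := hφ _ h1
    have h3 : M.nat.e (r x * r y) i = x + y := by
      rw [M.nat.mul _ (hr x).1 _ (hr y).1, Pi.add_apply, hre, hre]
    rw [h3] at h2
    change M.nat.e (t * r (x + y) * t⁻¹) i = _
    rw [← h2]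
    have e : t * (r x * r y) * t⁻¹ = (t * r x * t⁻¹) * (t * r y * t⁻¹) := by group
    rw [e, M.nat.mul _ (hW _ (hr x)).1 _ (hW _ (hr y)).1]
    rfl
  have hdec : ∀ x : Fin 2 → F, φ x = τ (x 0) • φ ![1, 0] + τ (x 1) • φ ![0, 1] := by
    intro x
    have e : x = x 0 • ![1, 0] + x 1 • ![0, 1] := by
      apply ext2 <;> simp
    rw [← hτ, ← hτ, ← hadd, ← e]
  refine ⟨τ, φ ![1, 0] 0, φ ![0, 1] 0, φ ![0, 1] 1, hW, fun v hv => ?_, fun v hv => ?_⟩
  · rw [hφ v hv]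
    change φ (M.nat.e v i) 0 = _
    rw [hdec]
    simp only [Pi.add_apply, Pi.smul_apply, smul_eq_mul]
    ring
  · rw [hφ v hv]
    change φ (M.nat.e v i) 1 = _
    have h0 : φ ![1, 0] 1 = 0 := by
      refine hline _ (hr _) ?_
      rw [hre]
      rfl
    rw [hdec]
    simp only [Pi.add_apply, Pi.smul_apply, smul_eq_mul, h0]
    ring

/-- the action on the line -/
theorem Bk.line {i : Fin k} {t : G} {τ : F ≃+* F} {a b d : F} (h : Bk M i t τ a b d) (hc : t ∈ centralizer (Z i : Set G)) :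
    τ = 1 ∧ a = 1 := by
  have h1 : ∀ x : F, x = a * τ x := by
    intro x
    obtain ⟨v, hv, e⟩ := exists_vec M i ![x, 0]
    have hvZ : v ∈ Z i := (D.memZ i v).2 ⟨hv, by rw [e]; rfl⟩
    have h2 := h.zero v hv
    have e1 : t * v * t⁻¹ = v := by
      rw [← mem_centralizer_iff.1 hc v hvZ, mul_inv_cancel_right]
    rw [e1, e] at h2
    simpa using h2
  have h2 : a = 1 := by
    have := h1 1
    simpa using this.symm
  refine ⟨?_, h2⟩
  ext x
  have := h1 x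
  rw [h2, one_mul] at this
  exact this.symm

/-- conversely -/
theorem Bk.cent_line {i : Fin k} {t : G} {b d : F} (h : Bk M i t 1 1 b d) (hn : t ∈ normalizer (Z i : Set G)) :
    t ∈ centralizer (Z i : Set G) := by
  rw [mem_centralizer_iff]
  intro z hz
  obtain ⟨hzW, hz1⟩ := (D.memZ i z).1 hz
  have h1 : t * z * t⁻¹ = z := by
    refine vec_ext D (h.mem z hzW) hzW ?_ ?_
    · rw [h.zero z hzW, hz1]
      simp
    · rw [h.one z hzW, hz1]
      simp
  exact (mul_inv_eq_iff_eq_mul.1 h1).symm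

/-- **(FT)** -/
theorem ft_of [Finite F] [CharP F 2] (i : Fin k) :
    FT ((S : Subgroup G) ⊓ normalizer (Z i : Set G)) (Z i) (Wn M i) where
  nZ := inf_le_right
  nW := by
    rintro t ⟨ht, hn⟩
    obtain ⟨τ, a, b, d, h⟩ := exists_bk D ht hn
    obtain ⟨τ', a', b', d', h'⟩ := exists_bk D (inv_mem ht) (inv_mem hn)
    rw [mem_normalizer_iff]
    refine fun v => ⟨h.mem v, fun hv => ?_⟩
    have := h'.mem _ hv
    have e : t⁻¹ * (t * v * t⁻¹) * t⁻¹⁻¹ = v := by group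
    rwa [e] at this
  ZW := Z_le D i
  cyc := by
    rintro s ⟨hs, hsn⟩ t ⟨ht, htn⟩ h1 h2 h3 h4
    obtain ⟨τ, a, b, d, h⟩ := exists_bk D hs hsn
    obtain ⟨τ', a', b', d', h'⟩ := exists_bk D ht htn
    have hs2 := ((h.mul h).line D h1).1
    have ht2 := ((h'.mul h').line D h2).1
    have hτ : τ ≠ 1 := by
      rintro rfl
      obtain ⟨rfl, rfl⟩ := h.unip hs
      exact h3 (h.cent_line D hsn)
    have hτ' : τ' ≠ 1 := by
      rintro rfl
      obtain ⟨rfl, rfl⟩ := h'.unip ht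
      exact h4 (h'.cent_line D htn)
    have key : ∀ {α β : RingAut F}, α * α = 1 → β * β = 1 → α ≠ 1 → α ∈ Subgroup.zpowers β → α = β := by
      rintro α β - hβ hα ⟨m, rfl⟩
      have hβ2 : β ^ (2 : ℤ) = 1 := by rw [zpow_ofNat, pow_two]; exact hβ
      rcases Int.even_or_odd' m with ⟨l, rfl | rfl⟩
      · exfalso
        apply hα
        change β ^ (2 * l) = 1
        rw [zpow_mul, hβ2, one_zpow]
      · change β ^ (2 * l + 1) = β
        rw [zpow_add, zpow_mul, hβ2, one_zpow, one_mul, zpow_one]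
    have hττ : τ = τ' := by
      rcases NO3S.ThmB.End.AutTwo.mem_or_mem' (F := F) (s := τ) (t := τ') ⟨1, by rw [pow_one, pow_two]; exact hs2⟩
        ⟨1, by rw [pow_one, pow_two]; exact ht2⟩ with h5 | h5
      · exact key hs2 ht2 hτ h5
      · exact (key ht2 hs2 hτ' h5).symm
    subst hττ
    have h6 := h.mul h'
    rw [hs2] at h6
    have hst : s * t ∈ (S : Subgroup G) := mul_mem hs ht
    obtain ⟨h7, h8⟩ := h6.unip hst
    rw [h7] at h6
    exact h6.cent_line D (mul_mem hsn htn)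
  com := by
    rintro t ⟨ht, hn⟩ hc w hw
    obtain ⟨τ, a, b, d, h⟩ := exists_bk D ht hn
    obtain ⟨rfl, rfl⟩ := h.line D hc
    obtain ⟨-, rfl⟩ := h.unip ht
    refine (D.memZ i _).2 ⟨mul_mem (h.mem w hw) (inv_mem hw), ?_⟩
    rw [M.map_div (h.mem w hw).1 hw.1, Pi.sub_apply, Pi.sub_apply, h.one w hw]
    simp
  sur := by
    rintro t ⟨ht, hn⟩ hc hne z hz
    obtain ⟨τ, a, b, d, h⟩ := exists_bk D ht hn
    obtain ⟨rfl, rfl⟩ := h.line D hc
    obtain ⟨-, rfl⟩ := h.unip ht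
    have hb : b ≠ 0 := by
      rintro rfl
      apply hne
      rw [mem_centralizer_iff]
      intro w hw
      have h1 : t * w * t⁻¹ = w := by
        refine vec_ext D (h.mem w hw) hw ?_ ?_
        · rw [h.zero w hw]; simp
        · rw [h.one w hw]; simp
      exact (mul_inv_eq_iff_eq_mul.1 h1).symm
    obtain ⟨hzW, hz1⟩ := (D.memZ i z).1 hz
    obtain ⟨w, hw, e⟩ := exists_vec M i ![0, M.nat.e z i 0 / b]
    refine ⟨w, hw, ?_⟩
    have hm : t * w * t⁻¹ * w⁻¹ ∈ Wn M i := mul_mem (h.mem w hw) (inv_mem hw)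
    refine vec_ext D hm hzW ?_ ?_
    · rw [M.map_div (h.mem w hw).1 hw.1, Pi.sub_apply, Pi.sub_apply, h.zero w hw, e]
      simp
      field_simp
    · rw [M.map_div (h.mem w hw).1 hw.1, Pi.sub_apply, Pi.sub_apply, h.one w hw, hz1]
      simp
  ker := by
    rintro t ⟨ht, hn⟩ hc w hw hwZ hcomm
    obtain ⟨τ, a, b, d, h⟩ := exists_bk D ht hn
    obtain ⟨rfl, rfl⟩ := h.line D hc
    obtain ⟨-, rfl⟩ := h.unip ht
    have hw1 : M.nat.e w i 1 ≠ 0 := fun h0 => hwZ ((D.memZ i w).2 ⟨hw, h0⟩)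
    have e1 : t * w * t⁻¹ = w := by rw [hcomm, mul_inv_cancel_right]
    have h2 := h.zero w hw
    rw [e1] at h2
    have hb : b = 0 := by
      have h3 : b * M.nat.e w i 1 = 0 := by
        have h4 : M.nat.e w i 0 = M.nat.e w i 0 + b * M.nat.e w i 1 := by simpa using h2
        exact (left_eq_add.1 h4)
      exact (mul_eq_zero.1 h3).resolve_right hw1
    subst hb
    rw [mem_centralizer_iff]
    intro v hv
    have h1 : t * v * t⁻¹ = v := by
      refine vec_ext D (h.mem v hv) hv ?_ ?_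
      · rw [h.zero v hv]; simp
      · rw [h.one v hv]; simp
    exact (mul_inv_eq_iff_eq_mul.1 h1).symm
  mov := by
    rintro t ⟨ht, hn⟩ hne
    by_contra hcon
    push Not at hcon
    obtain ⟨τ, a, b, d, h⟩ := exists_bk D ht hn
    have h1 : ∀ y : F, d * τ y = y := by
      intro y
      obtain ⟨w, hw, e⟩ := exists_vec M i ![0, y]
      have h2 := ((D.memZ i _).1 (hcon w hw)).2
      rw [M.map_div (h.mem w hw).1 hw.1, Pi.sub_apply, Pi.sub_apply, h.one w hw, e] at h2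
      simpa using sub_eq_zero.1 h2
    have hd : d = 1 := by simpa using h1 1
    have hτ : τ = 1 := by
      ext y
      have := h1 y
      rw [hd, one_mul] at this
      exact this
    subst hτ hd
    obtain ⟨rfl, -⟩ := h.unip ht
    exact hne (h.cent_line D hn)

end inst

end Cfsg.Agent.Omega.NO3S.CaseLW.LThm
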