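import Cfsg.Agent.Omega.NO3S.CaseLW.LThm.FT
import Cfsg.Agent.Omega.EK3.QX.HpX
import Cfsg.Agent.Omega.NO3S.ThmB.End.AutTwo

/-!
# THEOREM L(q) (#26406) : the fields `ft`, `cyc`, `off` of `Sit` over `MulL` (helper216, over helper404's `FT`)
-/

set_option autoImplicit false
set_option linter.unusedSectionVars false

namespace Cfsg.Agent.Omega.NO3S.CaseLW.LThm.FTSit

open Subgroup Cfsg.Agent.ZN.ChoiceBase Cfsg.Agent.ZN.ChoiceSit
open Cfsg.Agent.ZN (jj zj bau zc zl o2)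
open Cfsg.Agent.Lib.SL2Mat
open Cfsg.Agent.Omega.NatPair (ap ext2)
open Cfsg.Agent.Omega.FFThm (NatK NatKM ActsSL)
open Cfsg.Agent.Omega.FrameFF (cv)
open Cfsg.Agent.Omega.NO3S.OneLine (NatC)
open Cfsg.Agent.Omega.OM.Lev.Nat
open Cfsg.Agent.Omega.OM.SWT
open Cfsg.Agent.Omega.OM.YThm
open Cfsg.Agent.Omega.Node.MulX (MulL)

universe u

variable {G : Type u} [Group G] [Finite G]

/-- a quadratic offender `A ≤ T` on `W` centralises the line -/
theorem off_of {T Z W : Subgroup G} (h : FT T Z W) (Wc : ∀ x ∈ W, ∀ y ∈ W, x * y = y * x)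
    (Ws : ∀ x ∈ W, x * x = 1) {A : Subgroup G} (hA : A ≤ T)
    (quad : ∀ w ∈ W, ∀ a ∈ A, ∀ b ∈ A, b * (a * w * a⁻¹ * w⁻¹) = a * w * a⁻¹ * w⁻¹ * b)
    (hoff : (centralizer (A : Set G)).relIndex W ≤ (centralizer (W : Set G)).relIndex A) :
    ∀ a ∈ A, ∀ v ∈ Z, a * v = v * a := by
  classical
  by_contra hcon
  push Not at hcon
  obtain ⟨a, ha, v₀, hv₀, hne⟩ := hcon
  have haZ : a ∉ centralizer (Z : Set G) := fun h1 => hne (mem_centralizer_iff.1 h1 v₀ hv₀).symm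
  obtain ⟨w₀, hw₀, hw₀Z⟩ := h.mov a (hA ha) haZ
  have hxW : a * w₀ * a⁻¹ * w₀⁻¹ ∈ W :=
    mul_mem ((mem_normalizer_iff.1 (h.nW (hA ha)) w₀).1 hw₀) (inv_mem hw₀)
  -- `C_A(Z) = C_A(W)`
  have hZW : ∀ b ∈ A, b ∈ centralizer (Z : Set G) → b ∈ centralizer (W : Set G) := fun b hb hbZ =>
    h.ker b (hA hb) hbZ _ hxW hw₀Z (quad w₀ hw₀ a ha b hb)
  have e1 : A ⊓ centralizer (W : Set G) = A ⊓ centralizer (Z : Set G) :=
    le_antisymm (inf_le_inf_left _ (centralizer_le h.ZW)) fun b hb => ⟨hb.1, hZW b hb.1 hb.2⟩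
  -- squares
  have hsq : ∀ s ∈ A, s * s ∈ centralizer (Z : Set G) := by
    intro s hs
    rw [mem_centralizer_iff]
    intro z hz
    have hzW := h.ZW hz
    set y : G := s * z * s⁻¹ * z⁻¹ with hy
    have hyW : y ∈ W := mul_mem ((mem_normalizer_iff.1 (h.nW (hA hs)) z).1 hzW) (inv_mem hzW)
    have h1 : s * y = y * s := quad z hzW s hs s hs
    have h2 : s * z * s⁻¹ = y * z := by rw [hy]; group
    have h3 : s * s * z * (s * s)⁻¹ = z := by
      calc s * s * z * (s * s)⁻¹ = s * (s * z * s⁻¹) * s⁻¹ := by group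
        _ = s * (y * z) * s⁻¹ := by rw [h2]
        _ = (s * y) * z * s⁻¹ := by group
        _ = y * (s * z * s⁻¹) := by rw [h1]; group
        _ = y * y * z := by rw [h2]; group
        _ = z := by rw [Ws y hyW, one_mul]
    calc z * (s * s) = (s * s * z * (s * s)⁻¹) * (s * s) := by rw [h3]
      _ = s * s * z := by group
  -- `|A : C_A(Z)| ≤ 2`
  have hA2 : Nat.card A ≤ Nat.card ↥(A ⊓ centralizer (W : Set G)) * 2 := by
    rw [e1]
    let f : A → ↥(A ⊓ centralizer (Z : Set G)) × Bool := fun s =>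
      if hs : (s : G) ∈ centralizer (Z : Set G) then (⟨s, s.2, hs⟩, false)
      else (⟨a * s, mul_mem ha s.2, h.cyc a (hA ha) s (hA s.2) (hsq a ha) (hsq s s.2) haZ hs⟩, true)
    have hf : Function.Injective f := by
      rintro ⟨s, hs⟩ ⟨t, ht⟩ e
      by_cases h1 : s ∈ centralizer (Z : Set G) <;> by_cases h2 : t ∈ centralizer (Z : Set G)
      · simp only [f, h1, h2, dif_pos, Prod.mk.injEq, and_true] at e
        have e' : s = t := congrArg (fun x : ↥(A ⊓ centralizer (Z : Set G)) => (x : G)) e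
        exact Subtype.ext e'
      · simp [f, h1, h2] at e
      · simp [f, h1, h2] at e
      · simp only [f, h1, h2, dif_neg, not_false_eq_true, Prod.mk.injEq, and_true] at e
        have e' : a * s = a * t := congrArg (fun x : ↥(A ⊓ centralizer (Z : Set G)) => (x : G)) e
        exact Subtype.ext (mul_left_cancel e')
    have := Nat.card_le_card_of_injective f hf
    rwa [Nat.card_prod, Nat.card_eq_fintype_card (α := Bool), Fintype.card_bool] at this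
  -- `|W : C_W(A)| ≥ 4`
  set X : Subgroup G := W ⊓ centralizer (A : Set G) with hX
  have two : ∀ {U U' : Subgroup G}, U ≤ U' → U ≠ U' → 2 * Nat.card U ≤ Nat.card U' := by
    intro U U' h1 h2
    obtain ⟨m, hm⟩ := Subgroup.card_dvd_of_le h1
    have hU : 0 < Nat.card U := Nat.card_pos
    have hU' : 0 < Nat.card U' := Nat.card_pos
    have hm1 : m ≠ 1 := by
      rintro rfl
      rw [mul_one] at hm
      exact h2 (Subgroup.eq_of_le_of_card_ge h1 hm.le)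
    have hm0 : m ≠ 0 := by
      rintro rfl
      omega
    rw [hm, mul_comm]
    exact Nat.mul_le_mul_left _ (by omega)
  have hXZ : X ≠ X ⊔ Z := by
    intro e
    have h1 : Z ≤ X := by rw [e]; exact le_sup_right
    exact hne (mem_centralizer_iff.1 (h1 hv₀).2 a ha)
  have hXW : X ⊔ Z ≠ W := by
    intro e
    have h1 : w₀ ∈ X ⊔ Z := by rw [e]; exact hw₀
    have hZX : ∀ z ∈ Z, ∀ x ∈ X, z * x = x * z := fun z hz x hx => Wc z (h.ZW hz) x hx.1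
    have h2 : ∃ x ∈ X, ∃ z ∈ Z, w₀ = x * z := by
      rw [sup_eq_closure] at h1
      refine closure_induction (p := fun u _ => ∃ x ∈ X, ∃ y ∈ Z, u = x * y) ?_ ?_ ?_ ?_ h1
      · rintro x (hx | hx)
        · exact ⟨x, hx, 1, one_mem _, (mul_one _).symm⟩
        · exact ⟨1, one_mem _, x, hx, (one_mul _).symm⟩
      · exact ⟨1, one_mem _, 1, one_mem _, (one_mul _).symm⟩
      · rintro _ _ _ _ ⟨x, hx, y, hy, rfl⟩ ⟨x', hx', y', hy', rfl⟩
        refine ⟨x * x', mul_mem hx hx', y * y', mul_mem hy hy', ?_⟩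
        rw [mul_assoc, ← mul_assoc y, hZX y hy x' hx', mul_assoc, mul_assoc]
      · rintro _ _ ⟨x, hx, y, hy, rfl⟩
        refine ⟨x⁻¹, inv_mem hx, y⁻¹, inv_mem hy, ?_⟩
        rw [mul_inv_rev, hZX _ (inv_mem hy) _ (inv_mem hx)]
    obtain ⟨x, hx, z, hz, e2⟩ := h2
    apply hw₀Z
    have h3 : a * x = x * a := mem_centralizer_iff.1 hx.2 a ha
    have h5 : x * (a * z * a⁻¹ * z⁻¹) = a * z * a⁻¹ * z⁻¹ * x := by
      have h6 : a * z * a⁻¹ * z⁻¹ ∈ Z := mul_mem ((mem_normalizer_iff.1 (h.nZ (hA ha)) z).1 hz) (inv_mem hz)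
      exact (hZX _ h6 x hx).symm
    have h4 : a * w₀ * a⁻¹ * w₀⁻¹ = a * z * a⁻¹ * z⁻¹ := by
      rw [e2]
      calc a * (x * z) * a⁻¹ * (x * z)⁻¹ = (a * x) * z * a⁻¹ * z⁻¹ * x⁻¹ := by group
        _ = x * (a * z * a⁻¹ * z⁻¹) * x⁻¹ := by rw [h3]; group
        _ = _ := by rw [h5]; group
    rw [h4]
    exact mul_mem ((mem_normalizer_iff.1 (h.nZ (hA ha)) z).1 hz) (inv_mem hz)
  have h1 := two (le_sup_left : X ≤ X ⊔ Z) hXZ
  have h2 := two (sup_le inf_le_left h.ZW : X ⊔ Z ≤ W) hXW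
  have h3 := FFThm.relIndex_le_iff.2 hoff
  have p1 : 0 < Nat.card X := Nat.card_pos
  have p2 : 0 < Nat.card ↥(A ⊓ centralizer (W : Set G)) := Nat.card_pos
  have h4 : 4 * Nat.card X ≤ Nat.card W := by omega
  have h5 := Nat.mul_le_mul_right (Nat.card ↥(A ⊓ centralizer (W : Set G))) h4
  have h6 := Nat.mul_le_mul_right (Nat.card X) hA2
  have h7 : Nat.card W * Nat.card ↥(A ⊓ centralizer (W : Set G)) ≤ Nat.card A * Nat.card X := h3
  have p3 : 0 < Nat.card X * Nat.card ↥(A ⊓ centralizer (W : Set G)) := Nat.mul_pos p1 p2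
  have h8 := (h5.trans h7).trans h6
  have h9 : 4 * (Nat.card X * Nat.card ↥(A ⊓ centralizer (W : Set G))) ≤
      2 * (Nat.card X * Nat.card ↥(A ⊓ centralizer (W : Set G))) := by
    calc _ = 4 * Nat.card X * Nat.card ↥(A ⊓ centralizer (W : Set G)) := by ring
      _ ≤ _ := h8
      _ = _ := by ring
  omega

section cyc

variable {S : Sylow 2 G} {P : Subgroup G} {F : Type} [Field F] [Finite F] [CharP F 2] {k : ℕ}
  {n : LV S} {M : NatC F (S : Subgroup G) P (zl (S : Subgroup G) P) (cv (S : Subgroup G) P) k}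
  {L Z A : Fin k → Subgroup G} (D : Dt P n M L Z A)
include D

theorem Bk.npow {i : Fin k} {t : G} {τ : F ≃+* F} {a b d : F} (h : Bk M i t τ a b d) (m : ℕ) :
    ∃ a' b' d', Bk M i (t ^ m) ((τ : RingAut F) ^ m) a' b' d' := by
  induction m with
  | zero =>
    refine ⟨1, 0, 1, fun v hv => ?_, fun v hv => ?_, fun v hv => ?_⟩
    · simpa using hv
    · simp
    · simp
  | succ m ih =>
    obtain ⟨a', b', d', h'⟩ := ih
    rw [pow_succ, pow_succ]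
    exact ⟨_, _, _, h'.mul h⟩

/-- `S ∩ N(Z i)` acts on `Z i` as a cyclic group -/
theorem cyc_of (i : Fin k) : ∃ g : G, (∀ v ∈ Z i, g * v * g⁻¹ ∈ Z i) ∧
    ∀ t ∈ (S : Subgroup G) ⊓ normalizer (Z i : Set G), ∃ m : ℤ, ∀ v ∈ Z i, t * v * t⁻¹ = g ^ m * v * (g ^ m)⁻¹ := by
  classical
  have : Finite (RingAut F) := Finite.of_injective (fun f : RingAut F => ((f : F ≃+* F) : F → F)) DFunLike.coe_injective
  let 𝒯 : Set (RingAut F) := {x | ∃ t ∈ (S : Subgroup G) ⊓ normalizer (Z i : Set G), ∃ a b d, Bk M i t x a b d}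
  have h1 : (𝒯).Nonempty := by
    obtain ⟨τ, a, b, d, h⟩ := exists_bk D (i := i) (one_mem (S : Subgroup G)) (one_mem _)
    exact ⟨τ, 1, one_mem _, a, b, d, h⟩
  obtain ⟨x₀, ⟨t₀, ht₀, a₀, b₀, d₀, hb₀⟩, hmax⟩ := Set.exists_max_image 𝒯 (fun x => orderOf x) (Set.toFinite _) h1
  have hord : ∀ x ∈ 𝒯, ∃ j : ℕ, x ^ 2 ^ j = 1 := by
    rintro x ⟨t, ht, a, b, d, hb⟩
    obtain ⟨j, hj⟩ := S.isPGroup' ⟨t, ht.1⟩
    have hj' : t ^ 2 ^ j = 1 := by simpa using congrArg Subtype.val hj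
    obtain ⟨a', b', d', h'⟩ := Bk.npow D hb (2 ^ j)
    rw [hj'] at h'
    exact ⟨j, (h'.line D (one_mem _)).1⟩
  refine ⟨t₀, fun v hv => (mem_normalizer_iff.1 ht₀.2 v).1 hv, fun t ht => ?_⟩
  obtain ⟨τ, a, b, d, hb⟩ := exists_bk D ht.1 ht.2
  have hτ : (τ : RingAut F) ∈ Subgroup.zpowers x₀ := by
    rcases NO3S.ThmB.End.AutTwo.mem_or_mem' (hord τ ⟨t, ht, a, b, d, hb⟩) (hord x₀ ⟨t₀, ht₀, a₀, b₀, d₀, hb₀⟩) with
      h2 | h2
    · exact h2
    · have h3 : Subgroup.zpowers x₀ ≤ Subgroup.zpowers (τ : RingAut F) := (Subgroup.zpowers_le).2 h2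
      have h4 : orderOf (τ : RingAut F) ≤ orderOf x₀ := hmax τ ⟨t, ht, a, b, d, hb⟩
      have h5 : Subgroup.zpowers x₀ = Subgroup.zpowers (τ : RingAut F) := by
        refine Subgroup.eq_of_le_of_card_ge h3 ?_
        rw [Nat.card_zpowers, Nat.card_zpowers]
        exact h4
      rw [h5]
      exact Subgroup.mem_zpowers _
  obtain ⟨m, hm⟩ := (mem_powers_iff_mem_zpowers (x := x₀)).2 (Subgroup.inv_mem _ hτ)
  obtain ⟨a', b', d', hb'⟩ := Bk.npow D hb₀ m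
  have h2 := hb.mul hb'
  have e1 : τ * ((x₀ : RingAut F) ^ m : RingAut F) = (1 : RingAut F) := by
    have hm' : x₀ ^ m = (τ : RingAut F)⁻¹ := hm
    rw [hm', mul_inv_cancel]
  rw [e1] at h2
  have hts : t * t₀ ^ m ∈ (S : Subgroup G) := mul_mem ht.1 (pow_mem ht₀.1 m)
  have htn : t * t₀ ^ m ∈ normalizer (Z i : Set G) := mul_mem ht.2 (pow_mem ht₀.2 m)
  obtain ⟨h7, h8⟩ := h2.unip hts
  rw [h7] at h2
  rw [h8] at h2
  have h3 := h2.cent_line D htn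
  refine ⟨-(m : ℤ), fun v hv => ?_⟩
  have hv' : (t₀ ^ m)⁻¹ * v * t₀ ^ m ∈ Z i := (mem_normalizer_iff''.1 (pow_mem ht₀.2 m) v).1 hv
  have h4 : (t₀ ^ m)⁻¹ * v * t₀ ^ m * (t * t₀ ^ m) = t * t₀ ^ m * ((t₀ ^ m)⁻¹ * v * t₀ ^ m) :=
    mem_centralizer_iff.1 h3 _ hv'
  have e2 : t * v = (t₀ ^ m)⁻¹ * v * t₀ ^ m * t := by
    have h5 : t * v * t₀ ^ m = (t₀ ^ m)⁻¹ * v * t₀ ^ m * (t * t₀ ^ m) := by rw [h4]; group
    have h6 : t * v * t₀ ^ m = ((t₀ ^ m)⁻¹ * v * t₀ ^ m * t) * t₀ ^ m := by rw [h5]; group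
    exact mul_right_cancel h6
  rw [zpow_neg, zpow_natCast, inv_inv, e2]
  group

end cyc

section mul

variable {S : Sylow 2 G} {P B ZJ : Subgroup G} {k : ℕ} {L W Z C A : Fin k → Subgroup G} {q : ℕ}
  (h : MulL S P B ZJ L W Z C A q) (hq : 2 < q)
include h hq

theorem ft_all (l : Fin k) : FT ((S : Subgroup G) ⊓ normalizer (Z l : Set G)) (Z l) (W l) := by
  have hk : 2 ≤ k := by
    obtain ⟨j, hj⟩ := h.bg.two l
    have h1 := l.2
    have h2 := j.2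
    have h3 : (j : ℕ) ≠ l := fun e => hj (Fin.ext e)
    omega
  obtain ⟨F, _, _, _, M, L', Z', A', σ, hF, D, hσ⟩ := EK3.QX.exists_dtX h hk hq
  rw [(hσ l).1, (hσ l).2]
  exact ft_of D (σ l)

/-- **field `cyc`** -/
theorem cyc_all {T : Subgroup G} (hTS : T ≤ (S : Subgroup G)) (hTZ : ∀ i, T ≤ normalizer (Z i : Set G)) (l : Fin k) :
    ∃ g : G, (∀ v ∈ Z l, g * v * g⁻¹ ∈ Z l) ∧ ∀ t ∈ T, (∀ v ∈ Z l, t * v * t⁻¹ ∈ Z l) →
      ∃ n : ℤ, ∀ v ∈ Z l, t * v * t⁻¹ = g ^ n * v * (g ^ n)⁻¹ := by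
  have hk : 2 ≤ k := by
    obtain ⟨j, hj⟩ := h.bg.two l
    have h1 := l.2
    have h2 := j.2
    have h3 : (j : ℕ) ≠ l := fun e => hj (Fin.ext e)
    omega
  obtain ⟨F, _, _, _, M, L', Z', A', σ, hF, D, hσ⟩ := EK3.QX.exists_dtX h hk hq
  obtain ⟨g, hg, hgen⟩ := cyc_of D (σ l)
  rw [← (hσ l).2] at hg hgen
  exact ⟨g, hg, fun t ht _ => hgen t ⟨hTS ht, hTZ l ht⟩⟩

/-- **field `ft`** -/
theorem ft_fld {T : Subgroup G} (hTS : T ≤ (S : Subgroup G)) (hTZ : ∀ i, T ≤ normalizer (Z i : Set G)) (l : Fin k) :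
    ∀ t ∈ T, (∀ v ∈ Z l, t * v = v * t) →
      (∀ w ∈ W l, t * w * t⁻¹ * w⁻¹ ∈ Z l) ∧
        ((∀ w ∈ W l, t * w = w * t) ∨ ∀ z ∈ Z l, ∃ w ∈ W l, z = t * w * t⁻¹ * w⁻¹) := by
  intro t ht hc
  have hf := (ft_all h hq l).mono (le_inf hTS (hTZ l))
  have hcz : t ∈ centralizer (Z l : Set G) := mem_centralizer_iff.2 fun v hv => (hc v hv).symm
  refine ⟨hf.com t ht hcz, ?_⟩
  by_cases hw : t ∈ centralizer (W l : Set G)
  · exact Or.inl fun w hw' => (mem_centralizer_iff.1 hw w hw').symm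
  · right
    intro z hz
    obtain ⟨w, hw', e⟩ := hf.sur t ht hcz hw z hz
    exact ⟨w, hw', e.symm⟩

/-- **field `off`** -/
theorem off_fld {T : Subgroup G} (hTS : T ≤ (S : Subgroup G)) (hTZ : ∀ i, T ≤ normalizer (Z i : Set G)) (l : Fin k) :
    ∀ A ≤ T, (∀ w ∈ W l, ∀ a ∈ A, ∀ b ∈ A, b * (a * w * a⁻¹ * w⁻¹) = a * w * a⁻¹ * w⁻¹ * b) →
      (centralizer (A : Set G)).relIndex (W l) ≤ (centralizer (W l : Set G)).relIndex A →
        ∀ a ∈ A, ∀ v ∈ Z l, a * v = v * a := by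
  intro A hA quad hoff
  refine off_of ((ft_all h hq l).mono (le_inf hTS (hTZ l))) (fun x hx y hy => (h.fr.blk l).toMd.comm hx hy)
    (fun x hx => ?_) hA quad hoff
  rw [← pow_two]
  exact (h.fr.blk l).el.2 x hx

end mul

end Cfsg.Agent.Omega.NO3S.CaseLW.LThm.FTSit
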