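import Cfsg.Agent.Omega.NOne.Flat.Off

/-!
# THEOREM L(q) (#26406) : (IND), pure lemma

`Λ` abelian, `W` hereditarily best on `Λ`, `𝓟` a family of pairs `(N, c)`, `c ≤ N ≤ Λ`, `|N : c| = |c| = q`, on which `W`
acts by root elements.  If `W` moves `N₀`, `(N₀, c₀) ∈ 𝓟`, then some `A ≤ W` is the full root group on `N₀` and centralises
all `N`, `(N, c) ∈ 𝓟`, `c ≠ c₀`.
-/

set_option autoImplicit false
set_option linter.unusedSectionVars false

namespace Cfsg.Agent.Omega.NO3S.CaseLW.LThm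

open Subgroup Cfsg

universe u

variable {G : Type u} [Group G] [Finite G]

/-- one step: `A` hereditarily best on `Λ`, root elements on `N`, `A` moves `N`. -/
theorem ind_step {Λ A N c : Subgroup G} {q : ℕ}
    (Λc : ∀ x ∈ Λ, ∀ y ∈ Λ, x * y = y * x)
    (best : ∀ D ≤ A, Nat.card D * Nat.card ↥(Λ ⊓ centralizer (D : Set G)) ≤
      Nat.card A * Nat.card ↥(Λ ⊓ centralizer (A : Set G)))
    (mv : ¬ A ≤ centralizer (N : Set G)) (cN : c ≤ N) (NΛ : N ≤ Λ) (hc : Nat.card c = q) (hN : Nat.card N = q * q)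
    (r1 : ∀ a ∈ A, ∀ v ∈ c, a * v = v * a) (r2 : ∀ a ∈ A, ∀ w ∈ N, a * w * a⁻¹ * w⁻¹ ∈ c)
    (r3 : ∀ a ∈ A, ∀ w ∈ N, w ∉ c → a * w = w * a → ∀ u ∈ N, a * u = u * a) :
    (∀ D ≤ A ⊓ centralizer (N : Set G), Nat.card D * Nat.card ↥(Λ ⊓ centralizer (D : Set G)) ≤
      Nat.card ↥(A ⊓ centralizer (N : Set G)) *
        Nat.card ↥(Λ ⊓ centralizer ((A ⊓ centralizer (N : Set G) : Subgroup G) : Set G))) ∧
    Nat.card A = q * Nat.card ↥(A ⊓ centralizer (N : Set G)) ∧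
    Λ ⊓ centralizer ((A ⊓ centralizer (N : Set G) : Subgroup G) : Set G) ≤ N ⊔ (Λ ⊓ centralizer (A : Set G)) ∧
    ∀ w ∈ N, w ∉ c → ∀ x ∈ c, ∃ a ∈ A, a * w * a⁻¹ * w⁻¹ = x := by
  classical
  set A₀ : Subgroup G := A ⊓ centralizer (N : Set G) with hA₀
  have hq : 0 < q := hc ▸ Nat.card_pos
  -- `C_N(A) = c`
  have hNA : N ⊓ (Λ ⊓ centralizer (A : Set G)) = c := by
    apply le_antisymm
    · rintro w ⟨hwN, -, hwA⟩
      by_contra hwc
      exact mv fun a ha => mem_centralizer_iff.2 fun u hu =>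
        (r3 a ha w hwN hwc (mem_centralizer_iff.1 hwA a ha) u hu).symm
    · exact le_inf cN (le_inf (cN.trans NΛ) fun v hv => mem_centralizer_iff.2 fun a ha => r1 a ha v hv)
  -- the homomorphism
  have hhom : ∀ w ∈ N, w ∉ c → A₀.relIndex A ≤ q ∧ (A₀.relIndex A = q → ∀ x ∈ c, ∃ a ∈ A, a * w * a⁻¹ * w⁻¹ = x) := by
    intro w hw hwc
    let f : A →* c := MonoidHom.mk' (fun a => ⟨(a : G) * w * (a : G)⁻¹ * w⁻¹, r2 a a.2 w hw⟩) (by
      rintro ⟨a, ha⟩ ⟨b, hb⟩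
      apply Subtype.ext
      change a * b * w * (a * b)⁻¹ * w⁻¹ = a * w * a⁻¹ * w⁻¹ * (b * w * b⁻¹ * w⁻¹)
      have h1 : a * (b * w * b⁻¹ * w⁻¹) = b * w * b⁻¹ * w⁻¹ * a := r1 a ha _ (r2 b hb w hw)
      have h2 : b * w * b⁻¹ * w⁻¹ * (a * w * a⁻¹ * w⁻¹) = a * w * a⁻¹ * w⁻¹ * (b * w * b⁻¹ * w⁻¹) :=
        Λc _ (NΛ (cN (r2 b hb w hw))) _ (NΛ (cN (r2 a ha w hw)))
      calc a * b * w * (a * b)⁻¹ * w⁻¹ = (a * (b * w * b⁻¹ * w⁻¹)) * (w * a⁻¹ * w⁻¹) := by group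
        _ = b * w * b⁻¹ * w⁻¹ * (a * w * a⁻¹ * w⁻¹) := by rw [h1]; group
        _ = _ := h2)
    have hker : f.ker = A₀.subgroupOf A := by
      ext ⟨a, ha⟩
      rw [MonoidHom.mem_ker, mem_subgroupOf]
      constructor
      · intro h1
        have h2 : a * w * a⁻¹ * w⁻¹ = 1 := congrArg Subtype.val h1
        have h3 : a * w = w * a := by
          have := mul_eq_one_iff_eq_inv.1 h2
          rw [inv_inv] at this
          calc a * w = (a * w * a⁻¹) * a := by group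
            _ = w * a := by rw [this]
        exact ⟨ha, mem_centralizer_iff.2 fun u hu => (r3 a ha w hw hwc h3 u hu).symm⟩
      · rintro ⟨-, h1⟩
        apply Subtype.ext
        change a * w * a⁻¹ * w⁻¹ = 1
        rw [← mem_centralizer_iff.1 h1 w hw]
        group
    have hidx : A₀.relIndex A = Nat.card f.range := by
      rw [relIndex, ← hker, index_ker]
    have hle : Nat.card f.range ≤ Nat.card c := Subgroup.card_le_card_group f.range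
    refine ⟨by rw [hidx, ← hc]; exact hle, fun he x hx => ?_⟩
    have htop : f.range = ⊤ := by
      apply Subgroup.eq_top_of_card_eq
      rw [← hidx, he, hc]
    obtain ⟨⟨a, ha⟩, h1⟩ : (⟨x, hx⟩ : c) ∈ f.range := by rw [htop]; trivial
    exact ⟨a, ha, congrArg Subtype.val h1⟩
  obtain ⟨w₀, hw₀, hw₀c⟩ : ∃ w ∈ N, w ∉ c := by
    by_contra hcon
    push Not at hcon
    exact mv fun a ha => mem_centralizer_iff.2 fun u hu => (r1 a ha u (hcon u hu)).symm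
  have e1 : Nat.card A₀ * A₀.relIndex A = Nat.card A := NOne.Flat.card_mul_relIndex' inf_le_left
  have h1 : Nat.card A ≤ q * Nat.card A₀ := by
    rw [← e1, mul_comm]
    exact Nat.mul_le_mul_right _ (hhom w₀ hw₀ hw₀c).1
  -- `|N C_Λ(A)| = q |C_Λ(A)|`
  have hsub : N ⊔ (Λ ⊓ centralizer (A : Set G)) ≤ Λ ⊓ centralizer (A₀ : Set G) := by
    refine sup_le (le_inf NΛ (le_centralizer_iff.1 inf_le_right)) (inf_le_inf_left _ (centralizer_le inf_le_left))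
  have hnorm : N ≤ normalizer ((Λ ⊓ centralizer (A : Set G) : Subgroup G) : Set G) := by
    refine le_trans (fun x hx => ?_) (centralizer_le_normalizer _)
    exact mem_centralizer_iff.2 fun y hy => Λc y (mem_inf.1 hy).1 x (NΛ hx)
  have e2 := NOne.Flat.Off.card_sup_mul_inf hnorm
  rw [hNA, hc, hN] at e2
  have e3 : Nat.card ↥(N ⊔ (Λ ⊓ centralizer (A : Set G))) = q * Nat.card ↥(Λ ⊓ centralizer (A : Set G)) := by
    refine Nat.eq_of_mul_eq_mul_right hq ?_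
    rw [e2]; ring
  have h2 : q * Nat.card ↥(Λ ⊓ centralizer (A : Set G)) ≤ Nat.card ↥(Λ ⊓ centralizer (A₀ : Set G)) := by
    rw [← e3]
    exact card_le_of_le hsub
  have h3 := best A₀ inf_le_left
  have hpA : 0 < Nat.card ↥(Λ ⊓ centralizer (A : Set G)) := Nat.card_pos
  have hpA₀ : 0 < Nat.card A₀ := Nat.card_pos
  have h4 : Nat.card A₀ * (q * Nat.card ↥(Λ ⊓ centralizer (A : Set G))) ≤
      Nat.card A₀ * Nat.card ↥(Λ ⊓ centralizer (A₀ : Set G)) := Nat.mul_le_mul_left _ h2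
  have h5 : Nat.card A = q * Nat.card A₀ := by
    refine le_antisymm h1 ?_
    refine Nat.le_of_mul_le_mul_right ?_ hpA
    calc q * Nat.card A₀ * Nat.card ↥(Λ ⊓ centralizer (A : Set G)) =
        Nat.card A₀ * (q * Nat.card ↥(Λ ⊓ centralizer (A : Set G))) := by ring
      _ ≤ _ := h4.trans h3
  have h6 : Nat.card ↥(Λ ⊓ centralizer (A₀ : Set G)) ≤ q * Nat.card ↥(Λ ⊓ centralizer (A : Set G)) := by
    refine Nat.le_of_mul_le_mul_left ?_ hpA₀
    calc Nat.card A₀ * Nat.card ↥(Λ ⊓ centralizer (A₀ : Set G)) ≤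
        Nat.card A * Nat.card ↥(Λ ⊓ centralizer (A : Set G)) := h3
      _ = _ := by rw [h5]; ring
  have h7 : A₀.relIndex A = q := by
    refine Nat.eq_of_mul_eq_mul_left hpA₀ ?_
    rw [e1, h5]; ring
  refine ⟨fun D hD => ?_, h5, ?_, fun w hw hwc => (hhom w hw hwc).2 h7⟩
  · calc Nat.card D * Nat.card ↥(Λ ⊓ centralizer (D : Set G)) ≤
        Nat.card A * Nat.card ↥(Λ ⊓ centralizer (A : Set G)) := best D (hD.trans inf_le_left)
      _ = Nat.card A₀ * (q * Nat.card ↥(Λ ⊓ centralizer (A : Set G))) := by rw [h5]; ring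
      _ ≤ _ := h4
  · refine le_of_eq (Subgroup.eq_of_le_of_card_ge hsub ?_).symm
    rw [e3]
    exact h6

/-- **(IND)** -/
theorem ind_core {Λ W N₀ c₀ : Subgroup G} {q : ℕ} {𝓟 : Set (Subgroup G × Subgroup G)}
    (Λc : ∀ x ∈ Λ, ∀ y ∈ Λ, x * y = y * x)
    (best : ∀ D ≤ W, Nat.card D * Nat.card ↥(Λ ⊓ centralizer (D : Set G)) ≤
      Nat.card W * Nat.card ↥(Λ ⊓ centralizer (W : Set G)))
    (h0 : (N₀, c₀) ∈ 𝓟) (mv : ¬ W ≤ centralizer (N₀ : Set G))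
    (pairs : ∀ p ∈ 𝓟, p.2 ≤ p.1 ∧ p.1 ≤ Λ ∧ Nat.card p.2 = q ∧ Nat.card p.1 = q * q)
    (root : ∀ p ∈ 𝓟, ∀ a ∈ W, (∀ v ∈ p.2, a * v = v * a) ∧ (∀ w ∈ p.1, a * w * a⁻¹ * w⁻¹ ∈ p.2) ∧
      ∀ w ∈ p.1, w ∉ p.2 → a * w = w * a → ∀ u ∈ p.1, a * u = u * a) :
    ∀ w ∈ N₀, w ∉ c₀ → ∀ x ∈ c₀, ∃ a ∈ W, a * w * a⁻¹ = w * x ∧
      ∀ p ∈ 𝓟, p.2 ≠ c₀ → ∀ u ∈ p.1, a * u = u * a := by
  classical
  let 𝒞 : Set (Subgroup G) := {A | A ≤ W ∧ (∀ D ≤ A, Nat.card D * Nat.card ↥(Λ ⊓ centralizer (D : Set G)) ≤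
      Nat.card A * Nat.card ↥(Λ ⊓ centralizer (A : Set G))) ∧ ¬ A ≤ centralizer (N₀ : Set G)}
  obtain ⟨A, ⟨hAW, hbest, hmv⟩, hmin⟩ := Set.exists_min_image 𝒞 (fun A => Nat.card A) (Set.toFinite _)
    ⟨W, le_rfl, best, mv⟩
  have step : ∀ p ∈ 𝓟, ¬ A ≤ centralizer (p.1 : Set G) → _ := fun p hp hp' =>
    ind_step (Λ := Λ) (A := A) (N := p.1) (c := p.2) (q := q) Λc hbest hp' (pairs p hp).1 (pairs p hp).2.1
      (pairs p hp).2.2.1 (pairs p hp).2.2.2 (fun a ha => (root p hp a (hAW ha)).1)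
      (fun a ha => (root p hp a (hAW ha)).2.1) (fun a ha => (root p hp a (hAW ha)).2.2)
  obtain ⟨-, i0, c0, s0⟩ := step _ h0 hmv
  obtain ⟨cN0, NΛ0, hc0, hN0⟩ := pairs _ h0
  -- `A` centralises the other pairs
  have key : ∀ p ∈ 𝓟, p.2 ≠ c₀ → A ≤ centralizer (p.1 : Set G) := by
    intro p hp hne
    by_contra hp'
    obtain ⟨b1, i1, -, s1⟩ := step p hp hp'
    obtain ⟨cN, NΛ, hc, hN⟩ := pairs p hp
    have h1 : A ⊓ centralizer (p.1 : Set G) ≤ centralizer (N₀ : Set G) := by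
      by_contra h2
      have h3 := hmin _ ⟨inf_le_left.trans hAW, b1, h2⟩
      have h4 : A ⊓ centralizer (p.1 : Set G) = A := Subgroup.eq_of_le_of_card_ge inf_le_left h3
      exact hp' (inf_eq_left.1 h4)
    have h2 : A ⊓ centralizer (p.1 : Set G) = A ⊓ centralizer (N₀ : Set G) := by
      refine Subgroup.eq_of_le_of_card_ge (le_inf inf_le_left h1) ?_
      have hq : 0 < q := hc ▸ Nat.card_pos
      refine Nat.le_of_mul_le_mul_left ?_ hq
      rw [← i0, ← i1]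
    obtain ⟨w', hw', hw'c⟩ : ∃ w ∈ p.1, w ∉ p.2 := by
      by_contra hcon
      push Not at hcon
      exact hp' fun a ha => mem_centralizer_iff.2 fun u hu => ((root p hp a (hAW ha)).1 u (hcon u hu)).symm
    have h3 : w' ∈ N₀ ⊔ (Λ ⊓ centralizer (A : Set G)) := by
      refine c0 (mem_inf.2 ⟨NΛ hw', ?_⟩)
      rw [← h2]
      exact mem_centralizer_iff.2 fun a ha => (mem_centralizer_iff.1 (mem_inf.1 ha).2 w' hw').symm
    have h4 : ∀ n ∈ N₀, ∀ v ∈ Λ ⊓ centralizer (A : Set G), n * v = v * n := fun n hn v hv =>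
      Λc n (NΛ0 hn) v (mem_inf.1 hv).1
    obtain ⟨n, hn, v, hv, e⟩ : ∃ n ∈ N₀, ∃ v ∈ Λ ⊓ centralizer (A : Set G), w' = n * v := by
      rw [sup_eq_closure] at h3
      refine closure_induction (p := fun u _ => ∃ x ∈ N₀, ∃ y ∈ Λ ⊓ centralizer (A : Set G), u = x * y)
        ?_ ?_ ?_ ?_ h3
      · rintro x (hx | hx)
        · exact ⟨x, hx, 1, one_mem _, (mul_one _).symm⟩
        · exact ⟨1, one_mem _, x, hx, (one_mul _).symm⟩
      · exact ⟨1, one_mem _, 1, one_mem _, (one_mul _).symm⟩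
      · rintro _ _ _ _ ⟨x, hx, y, hy, rfl⟩ ⟨x', hx', y', hy', rfl⟩
        refine ⟨x * x', mul_mem hx hx', y * y', mul_mem hy hy', ?_⟩
        rw [mul_assoc, ← mul_assoc y, ← h4 x' hx' y hy, mul_assoc, mul_assoc]
      · rintro _ _ ⟨x, hx, y, hy, rfl⟩
        refine ⟨x⁻¹, inv_mem hx, y⁻¹, inv_mem hy, ?_⟩
        rw [mul_inv_rev, h4 _ (inv_mem hx) _ (inv_mem hy)]
    have h5 : p.2 ≤ c₀ := by
      intro x hx
      obtain ⟨a, ha, rfl⟩ := s1 w' hw' hw'c x hx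
      have h6 : a * v = v * a := mem_centralizer_iff.1 (mem_inf.1 hv).2 a ha
      have h7 : a * w' * a⁻¹ * w'⁻¹ = a * n * a⁻¹ * n⁻¹ := by
        rw [e]
        calc a * (n * v) * a⁻¹ * (n * v)⁻¹ = a * n * (v * a⁻¹) * v⁻¹ * n⁻¹ := by group
          _ = a * n * (a⁻¹ * v) * v⁻¹ * n⁻¹ := by
            have : v * a⁻¹ = a⁻¹ * v := by
              calc v * a⁻¹ = a⁻¹ * (a * v) * a⁻¹ := by group
                _ = a⁻¹ * (v * a) * a⁻¹ := by rw [h6]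
                _ = a⁻¹ * v := by group
            rw [this]
          _ = _ := by group
      rw [h7]
      exact (root _ h0 a (hAW ha)).2.1 n hn
    exact hne (Subgroup.eq_of_le_of_card_ge h5 (by rw [hc, hc0]))
  intro w hw hwc x hx
  obtain ⟨a, ha, e⟩ := s0 w hw hwc x hx
  refine ⟨a, hAW ha, ?_, fun p hp hne u hu => (mem_centralizer_iff.1 (key p hp hne ha) u hu).symm⟩
  calc a * w * a⁻¹ = (a * w * a⁻¹ * w⁻¹) * w := by group
    _ = x * w := by rw [e]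
    _ = w * x := Λc _ (NΛ0 (cN0 hx)) _ (NΛ0 hw)

end Cfsg.Agent.Omega.NO3S.CaseLW.LThm
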