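import Cfsg.Agent.Omega.NO3S.CaseLW.LThm.Ind
import Cfsg.Agent.Omega.NO3S.WY.Exact
import Cfsg.Agent.Omega.OM.Uni
import Cfsg.Agent.Omega.NO3S.EThree.FrameG
import Cfsg.Agent.Omega.Node.MultiOf

/-!
# THEOREM L(q) (#26406) : the instance of (IND) (helper216)

`ind_of` : `K` normalised by `Y`, `K ≤ B`, `B` acts on the blocks `(Nn l, Zz l)` as full root groups (`OM.Uni.Md`), every
`Nn l` is moved by some `W_F ≤ K` with `Λ ≤ E_F`, all `Nn l ^ y ≤ Λ`: then the field `Sit.ind`.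
`act_of` : the last hypothesis from one active `F`, `S` transitive on the blocks.
-/

set_option autoImplicit false
set_option linter.unusedSectionVars false

namespace Cfsg.Agent.Omega.NO3S.CaseLW.LThm

open Subgroup Cfsg Cfsg.Agent.ZN.ChoiceBase
open scoped Pointwise

universe u

variable {G : Type u} [Group G] [Finite G]

theorem ind_of {ι : Type*} {B Y K V Λ : Subgroup G} {Nn Zz : ι → Subgroup G} {q : ℕ}
    (md : ∀ l, OM.Uni.Md B (Nn l) (Zz l) q) (cardZ : ∀ l, Nat.card (Zz l) = q) (KB : K ≤ B)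
    (YK : Y ≤ normalizer (K : Set G)) (Λc : ∀ x ∈ Λ, ∀ y ∈ Λ, x * y = y * x)
    (NΛ : ∀ y ∈ Y, ∀ l, MulAut.conj y • Nn l ≤ Λ)
    (act : ∀ l, ∃ F, NOne.Flat.Hyp V F ∧ NOne.Flat.WW V F ≤ K ∧ Λ ≤ NOne.Flat.EE V F ∧ ¬ NOne.Flat.WW V F ≤ centralizer (Nn l : Set G)) :
    ∀ y ∈ Y, ∀ l, ∀ w ∈ MulAut.conj y • Nn l, w ∉ MulAut.conj y • Zz l → ∀ x ∈ MulAut.conj y • Zz l,
      ∃ a ∈ K, a * w * a⁻¹ = w * x ∧ ∀ y' ∈ Y, ∀ l', MulAut.conj y' • Zz l' ≠ MulAut.conj y • Zz l →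
        ∀ u ∈ MulAut.conj y' • Nn l', a * u = u * a := by
  intro y hy l w hw hwZ x hx
  obtain ⟨F, hF, hWK, hΛ, hmv⟩ := act l
  have hmem : ∀ (g : G) (X : Subgroup G) (v : G), v ∈ MulAut.conj g • X ↔ g⁻¹ * v * g ∈ X := fun g X v => mem_cj
  set 𝓟 : Set (Subgroup G × Subgroup G) :=
    {p | ∃ y' ∈ Y, ∃ l', p = (MulAut.conj y' • Nn l', MulAut.conj y' • Zz l')} with h𝓟
  have h0 : (Nn l, Zz l) ∈ 𝓟 := ⟨1, Y.one_mem, l, by simp⟩
  have hmd : ∀ (g : G) (l' : ι), OM.Uni.Md (MulAut.conj g • B) (MulAut.conj g • Nn l') (MulAut.conj g • Zz l') q :=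
    fun g l' => (md l').conj g
  have hcore := ind_core (Λ := Λ) (W := NOne.Flat.WW V F) (N₀ := Nn l) (c₀ := Zz l) (q := q) (𝓟 := 𝓟) Λc
    (fun D hD => WY.her hF hΛ hD) h0 hmv ?_ ?_
  · obtain ⟨a, ha, e, hc⟩ := hcore (y⁻¹ * w * y) ((hmem y _ w).1 hw) (fun h1 => hwZ ((hmem y _ w).2 h1)) (y⁻¹ * x * y)
      ((hmem y _ x).1 hx)
    refine ⟨y * a * y⁻¹, (mem_normalizer_iff.1 (YK hy) a).1 (hWK ha), ?_, ?_⟩
    · calc y * a * y⁻¹ * w * (y * a * y⁻¹)⁻¹ = y * (a * (y⁻¹ * w * y) * a⁻¹) * y⁻¹ := by group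
        _ = y * (y⁻¹ * w * y * (y⁻¹ * x * y)) * y⁻¹ := by rw [e]
        _ = w * x := by group
    · intro y' hy' l' hne u hu
      have h1 := hc (MulAut.conj (y⁻¹ * y') • Nn l', MulAut.conj (y⁻¹ * y') • Zz l')
        ⟨y⁻¹ * y', Y.mul_mem (Y.inv_mem hy) hy', l', rfl⟩ (fun h2 => hne ?_) (y⁻¹ * u * y) ?_
      · calc y * a * y⁻¹ * u = y * (a * (y⁻¹ * u * y)) * y⁻¹ := by group
          _ = y * ((y⁻¹ * u * y) * a) * y⁻¹ := by rw [h1]
          _ = u * (y * a * y⁻¹) := by group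
      · have h3 : MulAut.conj (y⁻¹ * y') • Zz l' = Zz l := h2
        have e1 : MulAut.conj y' • Zz l' = MulAut.conj y • (MulAut.conj (y⁻¹ * y') • Zz l') := by
          rw [smul_smul, ← map_mul, mul_inv_cancel_left]
        rw [e1, h3]
      · change _ ∈ MulAut.conj (y⁻¹ * y') • Nn l'
        rw [hmem] at hu ⊢
        have e1 : (y⁻¹ * y')⁻¹ * (y⁻¹ * u * y) * (y⁻¹ * y') = y'⁻¹ * u * y' := by group
        rw [e1]
        exact hu
  · rintro _ ⟨y', hy', l', rfl⟩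
    have hm := hmd y' l'
    have e1 : Nat.card (MulAut.conj y' • Zz l' : Subgroup G) = q := (card_cj y' (Zz l')).trans (cardZ l')
    refine ⟨hm.ZV, NΛ y' hy' l', e1, ?_⟩
    change Nat.card (MulAut.conj y' • Nn l' : Subgroup G) = q * q
    rw [hm.card, e1]
  · rintro _ ⟨y', hy', l', rfl⟩ a ha
    have hm := hmd y' l'
    have haB : a ∈ MulAut.conj y' • B := by
      rw [hmem]
      exact KB ((mem_normalizer_iff''.1 (YK hy') a).1 (hWK ha))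
    exact ⟨fun v hv => hm.cZ a haB v hv, fun w hw => hm.com a haB w hw, fun w hw hwZ e => hm.free a haB w hw hwZ e⟩

open Cfsg.Agent.Omega.NO3S.WY (WQ Md ActW)

/-- every block is moved by some `W_F ≤ S`, if one `F` is active. -/
theorem act_of {ι : Type} [Finite ι] {S : Sylow 2 G} {P T Y V K Λ F₀ B ZJ : Subgroup G} {L W Z C : ι → Subgroup G} {q : ℕ}
    (h : WQ S P T Y) (hV : Md S P Y V) (hF : ActW S P V F₀) (bg : EThree.Frame.Bg S P B ZJ L W Z C q)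
    (hK : ∀ F, NOne.Flat.Hyp V F → NOne.Flat.WW V F ≤ (S : Subgroup G) → NOne.Flat.WW V F ≤ K)
    (hΛ : ∀ F, NOne.Flat.Hyp V F → NOne.Flat.WW V F ≤ (S : Subgroup G) → Λ ≤ NOne.Flat.EE V F) :
    ∀ l, ∃ F, NOne.Flat.Hyp V F ∧ NOne.Flat.WW V F ≤ K ∧ Λ ≤ NOne.Flat.EE V F ∧
      ¬ NOne.Flat.WW V F ≤ centralizer (W l : Set G) := by
  intro l
  obtain ⟨i, hi⟩ : ∃ i, ¬ NOne.Flat.WW V F₀ ≤ centralizer (W i : Set G) := by
    by_contra hcon
    push Not at hcon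
    refine h.W_mv hF.WS hF.mv ?_
    rw [le_centralizer_iff]
    exact (Node.MultiOf.Fg_V_le bg.fr).trans (iSup_le fun i => le_centralizer_iff.1 (hcon i))
  obtain ⟨s, hs, e⟩ := bg.trans i l
  have hsV : s ∈ normalizer (V : Set G) := hV.norm (h.S_le hs)
  have hW : NOne.Flat.WW V (MulAut.conj s • F₀) = cj s (NOne.Flat.WW V F₀) := WY.WW_cj hsV
  have hWS : NOne.Flat.WW V (MulAut.conj s • F₀) ≤ (S : Subgroup G) := by
    rw [hW]
    have h1 := cj_mono s hF.WS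
    rwa [cj_eq_of_mem_normalizer (le_normalizer hs)] at h1
  refine ⟨_, WY.hyp_cj hF.hyp hsV, hK _ (WY.hyp_cj hF.hyp hsV) hWS, hΛ _ (WY.hyp_cj hF.hyp hsV) hWS, fun h1 => hi ?_⟩
  rw [hW, ← e] at h1
  have h2 := cj_mono s⁻¹ h1
  rwa [cj_inv_cj, cj_centralizer, cj_inv_cj] at h2

end Cfsg.Agent.Omega.NO3S.CaseLW.LThm
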