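import Cfsg.Agent.Omega.NO3S.CaseLW.LThm.SitOf
import Cfsg.Agent.Omega.NO3S.CaseLW.LThm.FTSit
import Cfsg.Agent.Omega.NO3S.CaseLW.LThm.AtOf
import Cfsg.Agent.Omega.Node.CaseLPZ

/-!
# THEOREM L(q) (#26406, #26405) over `MulL`, `q ≥ 4` (helper157, 600, 77, 202, 919, 773, 987, 404, 925, 301, 216)

`lThm : MulL .. → 4 ≤ q → LOff.LThm S P ZJ Z`; `lThmK K : LThmK K`; `offNK : MLK → OffNK K`.
-/

set_option autoImplicit false

namespace Cfsg.Agent.Omega.NO3S.CaseLW.LThm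

open Subgroup Cfsg Cfsg.Agent.Omega.Frame
open Cfsg.Agent.Omega.Node.MulX (MulL)

universe u

/-- **THEOREM L(q)**, `q ≥ 4`. -/
theorem lThm {G : Type u} [Group G] [Finite G] {S : Sylow 2 G} {P B ZJ : Subgroup G} {k : ℕ}
    {L W Z C A : Fin k → Subgroup G} {q : ℕ} (h : MulL S P B ZJ L W Z C A q) (hq : 4 ≤ q) :
    EK3.QL.LOff.LThm S P ZJ Z := by
  intro T Y w _ hTZ _ ha hall
  by_contra hYZ
  have hV := w.md_zl
  have s := sit_of h w hV hall hq hTZ ha hYZ (FTSit.ft_fld h (by omega) w.TS hTZ)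
    (FTSit.cyc_all h (by omega) w.TS hTZ) (FTSit.off_fld h (by omega) w.TS hTZ)
  obtain ⟨F, hF⟩ := ha
  exact hYZ (s.norm (AtOf.exists_at h w hV ⟨F, hF.hyp, hF.WS, hF.mv⟩))

theorem lThmK (K : Cls.{u}) : Node.CaseLPZ.LThmK K :=
  fun _ _ _ _ _ _ _ _ _ _ _ _ _ _ _ _ hq h => lThm h hq

/-- **`OffNK K`** -/
theorem offNK (hML : ML.Final.MLK.{u, u}) (K : Cls.{u}) : EK3.QL.OffNK K :=
  Node.CaseLPZ.offNK_of hML (lThmK K)

end Cfsg.Agent.Omega.NO3S.CaseLW.LThm
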