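import Mathlib

/-!
# THEOREM L(q), step (3)(ii), (iii) (bb #26406)

`A` is quadratic on `N ≥ c`, `|c| = q ≥ 4`, `|N| = q²`, `|N : C_N(A)| ≤ |A : C_A(N)|`. Then `A` centralises `c`.

* `In3` : the data; **`In3.cent`**;
* `two_of_gen` : the field `two` from a cyclic action;
* `relIndex_le_two` : `|K : H| ≤ 2` if `a b⁻¹ ∈ H` for `a, b ∈ K - H`.
-/

set_option autoImplicit false

namespace Cfsg.Agent.Omega.NO3S.CaseLW.LThm.Three

open Subgroup
open scoped Pointwise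

universe u

variable {G : Type u} [Group G]

theorem relIndex_le_two {H K : Subgroup G} (h : ∀ a ∈ K, ∀ b ∈ K, a ∉ H → b ∉ H → a * b⁻¹ ∈ H) :
    H.relIndex K ≤ 2 := by
  by_cases hKH : K ≤ H
  · rw [Subgroup.relIndex_eq_one.2 hKH]; omega
  · obtain ⟨a, ha, haH⟩ := SetLike.not_le_iff_exists.1 hKH
    refine le_of_eq ?_
    rw [Subgroup.relIndex_eq_two_iff]
    refine ⟨a, ha, fun b hb => ?_⟩
    by_cases hbH : b ∈ H
    · exact Or.inr ⟨hbH, fun h1 => haH ((mul_mem_cancel_left hbH).1 h1)⟩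
    · refine Or.inl ⟨?_, hbH⟩
      have h1 := h b hb a⁻¹ (inv_mem ha) hbH fun h2 => haH (by simpa using inv_mem h2)
      rwa [inv_inv] at h1

/-- In a cyclic group there is at most one involution. -/
theorem zpow_eq_of_two {M : Type*} [Group M] {x : M} {n m : ℤ} (hn : x ^ (n + n) = 1)
    (hm : x ^ (m + m) = 1) (hn1 : x ^ n ≠ 1) (hm1 : x ^ m ≠ 1) : x ^ n = x ^ m := by
  have h1 : (orderOf x : ℤ) ∣ n + n := orderOf_dvd_iff_zpow_eq_one.2 hn
  have h2 : (orderOf x : ℤ) ∣ m + m := orderOf_dvd_iff_zpow_eq_one.2 hm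
  have h3 : ¬ (orderOf x : ℤ) ∣ n := fun h => hn1 (orderOf_dvd_iff_zpow_eq_one.1 h)
  have h4 : ¬ (orderOf x : ℤ) ∣ m := fun h => hm1 (orderOf_dvd_iff_zpow_eq_one.1 h)
  obtain ⟨a, ha⟩ := h1
  obtain ⟨b, hb⟩ := h2
  have ha2 : ¬ (2 : ℤ) ∣ a := by
    rintro ⟨a', rfl⟩
    exact h3 ⟨a', by linarith⟩
  have hb2 : ¬ (2 : ℤ) ∣ b := by
    rintro ⟨b', rfl⟩
    exact h4 ⟨b', by linarith⟩
  have h5 : (2 : ℤ) ∣ a - b := by omega
  obtain ⟨e, he⟩ := h5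
  have h6 : n - m = orderOf x * e := by
    have h7 : (n + n) - (m + m) = orderOf x * (a - b) := by rw [ha, hb]; ring
    rw [he] at h7
    linarith
  have h8 : x ^ (n - m) = 1 := orderOf_dvd_iff_zpow_eq_one.1 ⟨e, h6⟩
  rw [zpow_sub] at h8
  exact mul_inv_eq_one.1 h8

/-- Data of step (3). -/
structure In3 (A c N : Subgroup G) (q : ℕ) : Prop where
  four : 4 ≤ q
  cN : c ≤ N
  card_c : Nat.card c = q
  card_N : Nat.card N = q * q
  /-- `[N, A, A] = 1` -/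
  quad : ∀ w ∈ N, ∀ a ∈ A, ∀ b ∈ A, b * (a * w * a⁻¹ * w⁻¹) = a * w * a⁻¹ * w⁻¹ * b
  /-- (IND) -/
  ind : ∀ w ∈ N, w ∉ c → ∃ k : G, k * w ≠ w * k ∧
    ∀ b ∈ A, (∃ v ∈ c, b * v * b⁻¹ ∉ c) → ∀ x ∈ N, k * (b * x * b⁻¹) = b * x * b⁻¹ * k
  /-- `|N_A(c) : C_A(c)| ≤ 2` -/
  two : ∀ a ∈ A, ∀ b ∈ A, (∀ v ∈ c, a * v * a⁻¹ ∈ c) → (∀ v ∈ c, b * v * b⁻¹ ∈ c) → (∃ v ∈ c, a * v ≠ v * a) →
    (∃ v ∈ c, b * v ≠ v * b) → ∀ v ∈ c, a * b⁻¹ * v = v * (a * b⁻¹)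
  /-- root elements -/
  ft : ∀ r ∈ A, (∀ v ∈ c, r * v = v * r) → (∀ w ∈ N, r * w = w * r) ∨ ∀ z ∈ c, ∃ w ∈ N, z = r * w * r⁻¹ * w⁻¹
  /-- offenders on `N` normalising `c` centralise `c` -/
  off : (∀ a ∈ A, ∀ v ∈ c, a * v * a⁻¹ ∈ c) → (centralizer (A : Set G)).relIndex N ≤ (centralizer (N : Set G)).relIndex A →
    ∀ a ∈ A, ∀ v ∈ c, a * v = v * a
  /-- best -/
  best : (centralizer (A : Set G)).relIndex N ≤ (centralizer (N : Set G)).relIndex A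

/-- the field `two` from a cyclic action -/
theorem two_of_gen {A c : Subgroup G} [Finite G]
    (quad : ∀ w ∈ c, ∀ a ∈ A, ∀ b ∈ A, b * (a * w * a⁻¹ * w⁻¹) = a * w * a⁻¹ * w⁻¹ * b)
    (sq : ∀ v ∈ c, v ^ 2 = 1)
    (cyc : ∃ g : G, (∀ v ∈ c, g * v * g⁻¹ ∈ c) ∧ ∀ a ∈ A, (∀ v ∈ c, a * v * a⁻¹ ∈ c) →
      ∃ n : ℤ, ∀ v ∈ c, a * v * a⁻¹ = g ^ n * v * (g ^ n)⁻¹) :
    ∀ a ∈ A, ∀ b ∈ A, (∀ v ∈ c, a * v * a⁻¹ ∈ c) → (∀ v ∈ c, b * v * b⁻¹ ∈ c) → (∃ v ∈ c, a * v ≠ v * a) →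
      (∃ v ∈ c, b * v ≠ v * b) → ∀ v ∈ c, a * b⁻¹ * v = v * (a * b⁻¹) := by
  obtain ⟨g, hg, hgen⟩ := cyc
  -- `c` is abelian
  have hcomm : ∀ v ∈ c, ∀ w ∈ c, v * w = w * v := by
    intro v hv w hw
    have h1 := sq v hv
    have h2 := sq w hw
    have h3 := sq (v * w) (mul_mem hv hw)
    rw [pow_two] at h1 h2 h3
    calc v * w = v * 1 * w := by group
      _ = v * ((v * w) * (v * w)) * w := by rw [h3]
      _ = (v * v) * (w * v) * (w * w) := by group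
      _ = w * v := by rw [h1, h2]; group
  have hgn : g ∈ normalizer (c : Set G) := by
    have hmap : c.map (MulAut.conj g).toMonoidHom = c := by
      refine Subgroup.eq_of_le_of_card_ge ?_ ?_
      · rintro _ ⟨v, hv, rfl⟩
        exact hg v hv
      · exact (Nat.card_congr (c.equivMapOfInjective _ (MulAut.conj g).injective).toEquiv).le
    rw [mem_normalizer_iff]
    intro v
    refine ⟨hg v, fun hv => ?_⟩
    have h2 : g * v * g⁻¹ ∈ c.map (MulAut.conj g).toMonoidHom := by rw [hmap]; exact hv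
    obtain ⟨v', hv', e⟩ := h2
    have e' : g * v' * g⁻¹ = g * v * g⁻¹ := e
    have : v' = v := mul_left_cancel (mul_right_cancel e')
    rw [← this]; exact hv'
  -- the automorphism
  let φ : normalizer (c : Set G) →* MulAut c := c.normalizerMonoidHom
  have hφ : ∀ (n : normalizer (c : Set G)) (v : c), ((φ n v : c) : G) = n * v * (n : G)⁻¹ := fun n v => rfl
  -- every `a` as above has `φ g ^ n`, `φ g ^ (n + n) = 1`, `≠ 1` if `a` moves `c`
  have key : ∀ a ∈ A, (∀ v ∈ c, a * v * a⁻¹ ∈ c) → (∃ v ∈ c, a * v ≠ v * a) →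
      ∃ n : ℤ, (φ ⟨g, hgn⟩) ^ (n + n) = 1 ∧ (φ ⟨g, hgn⟩) ^ n ≠ 1 ∧ ∀ v : c, a * v * a⁻¹ = (((φ ⟨g, hgn⟩) ^ n) v : c) := by
    intro a ha hac ⟨v₀, hv₀, hne⟩
    obtain ⟨n, hn⟩ := hgen a ha hac
    have h1 : ∀ v : c, a * v * a⁻¹ = (((φ ⟨g, hgn⟩) ^ n) v : c) := by
      intro v
      rw [← map_zpow, hφ, hn v v.2]
      simp
    refine ⟨n, ?_, fun h2 => hne ?_, h1⟩
    · ext v
      have h3 : (((φ ⟨g, hgn⟩) ^ (n + n)) v : c) = (((φ ⟨g, hgn⟩) ^ n) (((φ ⟨g, hgn⟩) ^ n) v) : c) := by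
        rw [zpow_add]; rfl
      rw [h3, ← h1, ← h1]
      -- `a² = 1` on `c`
      have hv := v.2
      set w : G := (v : G) with hw
      have e := quad w hv a ha a ha
      set x : G := a * w * a⁻¹ * w⁻¹ with hx
      have hxc : x ∈ c := mul_mem (hac w hv) (inv_mem hv)
      have e1 : a * w * a⁻¹ = x * w := by rw [hx]; group
      have e2 : a * (a * w * a⁻¹) * a⁻¹ = x * (x * w) := by
        calc a * (a * w * a⁻¹) * a⁻¹ = a * (x * w) * a⁻¹ := by rw [e1]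
          _ = (a * x) * w * a⁻¹ := by group
          _ = x * (a * w * a⁻¹) := by rw [e]; group
          _ = x * (x * w) := by rw [e1]
      rw [e2, ← mul_assoc, ← pow_two, sq x hxc, one_mul]
      simp [hw]
    · have h3 := h1 ⟨v₀, hv₀⟩
      rw [h2] at h3
      have h4 : a * v₀ * a⁻¹ = v₀ := h3
      exact mul_inv_eq_iff_eq_mul.1 h4
  intro a ha b hb hac hbc ham hbm v hv
  obtain ⟨n, hn1, hn2, hn3⟩ := key a ha hac ham
  obtain ⟨m, hm1, hm2, hm3⟩ := key b hb hbc hbm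
  have he := zpow_eq_of_two hn1 hm1 hn2 hm2
  -- `b⁻¹ v b ∈ c`
  have hbn : b⁻¹ * v * b ∈ c := by
    have h1 : b * (b * v * b⁻¹) * b⁻¹ = v := by
      have h2 := hm3 ⟨b * v * b⁻¹, hbc v hv⟩
      have h3 := hm3 ⟨v, hv⟩
      have h4 : (((φ ⟨g, hgn⟩) ^ (m + m)) ⟨v, hv⟩ : c) = (((φ ⟨g, hgn⟩) ^ m) (((φ ⟨g, hgn⟩) ^ m) ⟨v, hv⟩) : c) := by
        rw [zpow_add]; rfl
      have h5 : ((φ ⟨g, hgn⟩) ^ m) ⟨v, hv⟩ = (⟨b * v * b⁻¹, hbc v hv⟩ : c) := Subtype.ext h3.symm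
      rw [hm1, h5] at h4
      have h6 : b * (b * v * b⁻¹) * b⁻¹ = (((φ ⟨g, hgn⟩) ^ m) ⟨b * v * b⁻¹, hbc v hv⟩ : c) := h2
      rw [h6, ← h4]
      rfl
    have h7 : b⁻¹ * v * b = b * v * b⁻¹ := by
      conv_lhs => rw [← h1]
      group
    rw [h7]
    exact hbc v hv
  have h1 := hn3 ⟨b⁻¹ * v * b, hbn⟩
  have h2 := hm3 ⟨b⁻¹ * v * b, hbn⟩
  rw [he, ← h2] at h1
  have h3 : a * (b⁻¹ * v * b) * a⁻¹ = v := by
    have : a * (b⁻¹ * v * b) * a⁻¹ = b * (b⁻¹ * v * b) * b⁻¹ := h1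
    rw [this]; group
  calc a * b⁻¹ * v = (a * (b⁻¹ * v * b) * a⁻¹) * (a * b⁻¹) := by group
    _ = v * (a * b⁻¹) := by rw [h3]

namespace In3

variable {A c N : Subgroup G} {q : ℕ}

theorem comm_of (h : In3 A c N q) {b b' : G} (hb : b ∈ A) (hb' : b' ∈ A) (h1 : ∃ v ∈ c, b * v * b⁻¹ ∉ c)
    (h2 : ∃ v ∈ c, b' * v * b'⁻¹ ∉ c) (h3 : ∃ v ∈ c, (b' * b) * v * (b' * b)⁻¹ ∉ c) : N ≤ c := by
  intro w hw
  by_contra hwc
  obtain ⟨k, hk, hkc⟩ := h.ind w hw hwc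
  have e := h.quad w hw b hb b' hb'
  have c1 := hkc b hb h1 w hw
  have c2 := hkc b' hb' h2 w hw
  have c3 := hkc (b' * b) (mul_mem hb' hb) h3 w hw
  -- `w = x₂ x₃⁻¹ x₁`
  have e1 : (b' * w * b'⁻¹) * ((b' * b) * w * (b' * b)⁻¹)⁻¹ * (b * w * b⁻¹) = w := by
    have e2 : b' * (b * w * b⁻¹ * w⁻¹) * b'⁻¹ = b * w * b⁻¹ * w⁻¹ := by rw [e]; group
    have e3 : (b' * b) * w * (b' * b)⁻¹ * (b' * w * b'⁻¹)⁻¹ = b * w * b⁻¹ * w⁻¹ := by rw [← e2]; group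
    have e4 : ((b' * b) * w * (b' * b)⁻¹ * (b' * w * b'⁻¹)⁻¹)⁻¹ * (b * w * b⁻¹) = w := by rw [e3]; group
    rwa [mul_inv_rev, inv_inv] at e4
  have comm : ∀ x y : G, k * x = x * k → k * y = y * k → k * (x * y) = x * y * k := fun x y hx hy => by
    rw [← mul_assoc, hx, mul_assoc, hy, ← mul_assoc]
  have comi : ∀ x : G, k * x = x * k → k * x⁻¹ = x⁻¹ * k := fun x hx => by
    rw [eq_inv_mul_iff_mul_eq, ← mul_assoc, ← hx, mul_assoc, mul_inv_cancel, mul_one]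
  apply hk
  rw [← e1]
  exact comm _ _ (comm _ _ c2 (comi _ c3)) c1

variable [Finite G]

omit [Finite G] in
theorem N_not_le [Finite G] (h : In3 A c N q) : ¬ N ≤ c := by
  intro hle
  have h1 := Subgroup.card_le_of_le hle
  rw [h.card_N, h.card_c] at h1
  have := h.four
  nlinarith

theorem mem_norm_iff {c : Subgroup G} {a : G} : (∀ v ∈ c, a * v * a⁻¹ ∈ c) ↔ a ∈ normalizer (c : Set G) := by
  constructor
  · intro h1
    rw [mem_normalizer_iff]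
    have hmap : c.map (MulAut.conj a).toMonoidHom = c := by
      refine Subgroup.eq_of_le_of_card_ge ?_ ?_
      · rintro _ ⟨v, hv, rfl⟩
        exact h1 v hv
      · exact (Nat.card_congr (c.equivMapOfInjective _ (MulAut.conj a).injective).toEquiv).le
    intro v
    refine ⟨h1 v, fun hv => ?_⟩
    have h2 : a * v * a⁻¹ ∈ c.map (MulAut.conj a).toMonoidHom := by rw [hmap]; exact hv
    obtain ⟨v', hv', e⟩ := h2
    have e' : a * v' * a⁻¹ = a * v * a⁻¹ := e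
    have : v' = v := mul_left_cancel (mul_right_cancel e')
    rw [← this]; exact hv'
  · intro h1 v hv
    exact (mem_normalizer_iff.1 h1 v).1 hv

/-- **(3)(ii), (iii)** : `A` centralises `c`. -/
theorem cent (h : In3 A c N q) : ∀ a ∈ A, ∀ v ∈ c, a * v = v * a := by
  by_contra hcon
  push Not at hcon
  obtain ⟨a₀, ha₀, v₀, hv₀, hne⟩ := hcon
  have hq := h.four
  -- the stabiliser `A₁`
  set A₁ : Subgroup G := A ⊓ normalizer (c : Set G) with hA₁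
  set A₀ : Subgroup G := A ⊓ centralizer (c : Set G) with hA₀
  have hA₀₁ : A₀ ≤ A₁ := inf_le_inf le_rfl (Subgroup.centralizer_le_normalizer (c : Set G))
  -- `A₀` is trivial on `N`
  have h0 : ∀ r ∈ A₀, ∀ w ∈ N, r * w = w * r := by
    rintro r ⟨hrA, hrc⟩
    refine (h.ft r hrA fun v hv => (mem_centralizer_iff.1 hrc v hv).symm).resolve_right fun h1 => ?_
    obtain ⟨w, hw, e⟩ := h1 v₀ hv₀
    apply hne
    have := h.quad w hw r hrA a₀ ha₀
    rw [← e] at this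
    exact this
  have hinf : A ⊓ centralizer (N : Set G) = A₀ := by
    apply le_antisymm
    · exact inf_le_inf le_rfl (centralizer_le (by exact_mod_cast h.cN))
    · exact fun r hr => mem_inf.2 ⟨hr.1, mem_centralizer_iff.2 fun w hw => (h0 r hr w hw).symm⟩
  have hrel : (centralizer (N : Set G)).relIndex A = A₀.relIndex A := by
    rw [← Subgroup.inf_relIndex_right, inf_comm, hinf]
  -- `|A₁ : A₀| ≤ 2`
  have h10 : A₀.relIndex A₁ ≤ 2 := by
    refine relIndex_le_two fun a ha b hb ha0 hb0 => ?_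
    have hmv : ∀ x ∈ A₁, x ∉ A₀ → ∃ v ∈ c, x * v ≠ v * x := by
      intro x hx hx0
      by_contra hall
      push Not at hall
      exact hx0 (mem_inf.2 ⟨hx.1, mem_centralizer_iff.2 fun v hv => (hall v hv).symm⟩)
    exact mem_inf.2 ⟨mul_mem ha.1 (inv_mem hb.1), mem_centralizer_iff.2 fun v hv =>
      (h.two a ha.1 b hb.1 (mem_norm_iff.2 ha.2) (mem_norm_iff.2 hb.2) (hmv a ha ha0) (hmv b hb hb0) v hv).symm⟩
  -- `A` does not normalise `c`
  have hno : ∃ b₁ ∈ A, ∃ v ∈ c, b₁ * v * b₁⁻¹ ∉ c := by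
    by_contra hall
    push Not at hall
    exact hne (h.off hall h.best a₀ ha₀ v₀ hv₀)
  -- `|A : A₁| ≤ 2`
  have hA1 : A₁.relIndex A ≤ 2 := by
    refine relIndex_le_two fun a ha b hb ha1 hb1 => ?_
    by_contra hab
    have hmv : ∀ x ∈ A, x ∉ A₁ → ∃ v ∈ c, x * v * x⁻¹ ∉ c := by
      intro x hx hx1
      by_contra hall
      push Not at hall
      exact hx1 (mem_inf.2 ⟨hx, mem_norm_iff.1 hall⟩)
    exact h.N_not_le (h.comm_of (inv_mem hb) ha (hmv _ (inv_mem hb) fun h1 => hb1 (by simpa using inv_mem h1))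
      (hmv a ha ha1) (hmv _ (mul_mem ha (inv_mem hb)) hab))
  have hAle : A₀.relIndex A ≤ 4 := by
    rw [← Subgroup.relIndex_mul_relIndex A₀ A₁ A hA₀₁ inf_le_left]
    calc A₀.relIndex A₁ * A₁.relIndex A ≤ 2 * 2 := Nat.mul_le_mul h10 hA1
      _ = 4 := rfl
  -- `C_N(A) < c`
  have hCc : N ⊓ centralizer (A : Set G) ≤ c := by
    rintro w ⟨hw, hwA⟩
    by_contra hwc
    obtain ⟨b₁, hb₁, hb₂⟩ := hno
    obtain ⟨k, hk, hkc⟩ := h.ind w hw hwc
    have h1 := hkc b₁ hb₁ hb₂ w hw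
    have h2 : b₁ * w * b₁⁻¹ = w := by
      rw [mem_centralizer_iff.1 hwA b₁ hb₁, mul_inv_cancel_right]
    rw [h2] at h1
    exact hk h1
  have hClt : N ⊓ centralizer (A : Set G) < c := by
    refine lt_of_le_of_ne hCc fun e => hne ?_
    have h1 : v₀ ∈ N ⊓ centralizer (A : Set G) := by rw [e]; exact hv₀
    exact mem_centralizer_iff.1 h1.2 a₀ ha₀
  have hcard : 2 * Nat.card ↥(N ⊓ centralizer (A : Set G)) ≤ q := by
    have h1 := Subgroup.card_mul_index ((N ⊓ centralizer (A : Set G)).subgroupOf c)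
    rw [h.card_c, Nat.card_congr (Subgroup.subgroupOfEquivOfLe hCc).toEquiv] at h1
    have h2 : ((N ⊓ centralizer (A : Set G)).subgroupOf c).index ≠ 1 := by
      intro h3
      rw [Subgroup.index_eq_one, Subgroup.subgroupOf_eq_top] at h3
      exact absurd h3 (not_le_of_gt hClt)
    have h3 : ((N ⊓ centralizer (A : Set G)).subgroupOf c).index ≠ 0 := Subgroup.index_ne_zero_of_finite
    have h4 : 2 ≤ ((N ⊓ centralizer (A : Set G)).subgroupOf c).index := by omega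
    calc 2 * Nat.card ↥(N ⊓ centralizer (A : Set G)) = Nat.card ↥(N ⊓ centralizer (A : Set G)) * 2 := by ring
      _ ≤ Nat.card ↥(N ⊓ centralizer (A : Set G)) * ((N ⊓ centralizer (A : Set G)).subgroupOf c).index :=
        Nat.mul_le_mul le_rfl h4
      _ = q := h1
  have hN := Subgroup.card_mul_index ((N ⊓ centralizer (A : Set G)).subgroupOf N)
  rw [h.card_N, Nat.card_congr (Subgroup.subgroupOfEquivOfLe inf_le_left).toEquiv] at hN
  have h5 : ((N ⊓ centralizer (A : Set G)).subgroupOf N).index = (centralizer (A : Set G)).relIndex N := by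
    rw [Subgroup.inf_subgroupOf_left]; rfl
  rw [h5] at hN
  have hb := h.best
  rw [hrel] at hb
  have h6 : (centralizer (A : Set G)).relIndex N ≤ 4 := hb.trans hAle
  have h7 : q * q ≤ Nat.card ↥(N ⊓ centralizer (A : Set G)) * 4 := by
    rw [← hN]; exact Nat.mul_le_mul le_rfl h6
  nlinarith

end In3

end Cfsg.Agent.Omega.NO3S.CaseLW.LThm.Three
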