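import Cfsg.Agent.Omega.NOne.Flat.Base

/-!
# THEOREM L(q) (157 #26406), step (3)(i)  (helper202)

`c = Z_l ^ y` a line, `N_c ∋ w` outside `E`, `[w, LL] ≤ c`: then `c ≤ L F`; so if `A` moves `c` and centralises `L F`, every
`N_c` lies in `E`.

* `sup_relIndex_le` : `|⟨c, F⟩ : F| ≤ |c|` in an abelian group;
* `comm_range` : `b ↦ [w, b]` is a homomorphism on `LL`;
* **`three_i`** : `c ≤ L F`;
* **`N_le`** : `N_c ≤ E`.
-/

set_option autoImplicit false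

namespace Cfsg.Agent.Omega.NO3S.CaseLW.LThm.ThreeI

open Subgroup

universe u

variable {G : Type u} [Group G]

theorem sup_relIndex_le [Finite G] {V F c : Subgroup G} (Vc : ∀ x ∈ V, ∀ y ∈ V, x * y = y * x) (hF : F ≤ V)
    (hc : c ≤ V) : F.relIndex (c ⊔ F) ≤ Nat.card c := by
  set K := c ⊔ F with hK
  have hKV : K ≤ V := sup_le hc hF
  have hn : (F.subgroupOf K).Normal := ⟨fun n hn g => by
    have h1 : (g : G) * n * (g : G)⁻¹ = n := by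
      rw [Vc g (hKV g.2) n (hKV n.2), mul_inv_cancel_right]
    rw [mem_subgroupOf] at hn ⊢
    push_cast
    rwa [h1]⟩
  have h1 : c.subgroupOf K ⊔ F.subgroupOf K = ⊤ := by
    rw [← subgroupOf_sup le_sup_left le_sup_right]
    exact subgroupOf_self _
  have h2 := relIndex_sup_right (c.subgroupOf K) (F.subgroupOf K)
  rw [h1, relIndex_top_right] at h2
  show (F.subgroupOf K).index ≤ _
  rw [h2]
  have h3 : Nat.card (c.subgroupOf K) = Nat.card c :=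
    Nat.card_congr (subgroupOfEquivOfLe le_sup_left).toEquiv
  rw [← h3]
  exact Nat.le_of_dvd Nat.card_pos (relIndex_dvd_card _ _)

/-- `b ↦ [w, b]` on `LL`. -/
def comm {V LL : Subgroup G} (LLc : ∀ x ∈ LL, ∀ y ∈ LL, x * y = y * x)
    (nV : ∀ w ∈ V, ∀ b ∈ LL, w * b * w⁻¹ ∈ LL) {w : G} (hw : w ∈ V) : LL →* G where
  toFun b := w * b * w⁻¹ * (b : G)⁻¹
  map_one' := by simp
  map_mul' b b' := by
    have h1 : w * b' * w⁻¹ ∈ LL := nV w hw b' b'.2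
    have h2 := LLc _ (mul_mem h1 (inv_mem b'.2)) _ (inv_mem b.2)
    calc w * ((b * b' : LL) : G) * w⁻¹ * ((b * b' : LL) : G)⁻¹
        = (w * b * w⁻¹) * ((w * b' * w⁻¹ * (b' : G)⁻¹) * (b : G)⁻¹) := by push_cast; group
      _ = (w * b * w⁻¹) * ((b : G)⁻¹ * (w * b' * w⁻¹ * (b' : G)⁻¹)) := by rw [h2]
      _ = _ := by group

variable [Finite G]

/-- **(3)(i)** -/
theorem three_i {V LL F N L c : Subgroup G} (Vc : ∀ x ∈ V, ∀ y ∈ V, x * y = y * x)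
    (LLc : ∀ x ∈ LL, ∀ y ∈ LL, x * y = y * x) (nV : ∀ w ∈ V, ∀ b ∈ LL, w * b * w⁻¹ ∈ LL)
    (nL : ∀ w ∈ V, ∀ b ∈ LL, w * b * w⁻¹ * b⁻¹ ∈ V) (FV : F ≤ V) {w : G} (hw : w ∈ V)
    (flat : ∀ b ∈ LL, w * b * w⁻¹ * b⁻¹ ∈ F → b ∈ N) (rel : F.relIndex (V ⊓ LL) ≤ N.relIndex LL) (cV : c ≤ V)
    (hc : ∀ b ∈ LL, w * b * w⁻¹ * b⁻¹ ∈ c) (LV : L ≤ V) (LLL : L ≤ LL) (card : Nat.card c ≤ F.relIndex L) :
    c ≤ L ⊔ F := by
  set f := comm LLc nV hw with hf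
  have hfa : ∀ b : LL, f b = w * b * w⁻¹ * (b : G)⁻¹ := fun _ => rfl
  set D : Subgroup G := f.range with hD
  set H : Subgroup G := V ⊓ LL with hH
  have hDc : D ≤ c := by
    rintro _ ⟨b, rfl⟩
    exact hc b b.2
  have hDH : D ≤ H := by
    rintro _ ⟨b, rfl⟩
    exact mem_inf.2 ⟨nL w hw b b.2, mul_mem (nV w hw b b.2) (inv_mem b.2)⟩
  -- `|D : D ∩ F| ≥ |LL : LL ∩ N|`
  have h1 : N.relIndex LL ≤ F.relIndex D := by
    rw [hD, ← index_comap]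
    refine Nat.le_of_dvd (Nat.pos_of_ne_zero index_ne_zero_of_finite) (index_dvd_of_le ?_)
    intro b hb
    exact mem_subgroupOf.2 (flat b b.2 hb)
  -- `V ∩ LL ≤ D F`
  have h2 : H ≤ D ⊔ F := by
    have hM : D ⊔ (F ⊓ H) ≤ H := sup_le hDH inf_le_right
    have h3 : (F ⊓ H).relIndex (D ⊔ (F ⊓ H)) * (D ⊔ (F ⊓ H)).relIndex H = (F ⊓ H).relIndex H :=
      relIndex_mul_relIndex _ _ _ le_sup_right hM
    have h4 : (F ⊓ H).relIndex H = F.relIndex H := inf_relIndex_right _ _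
    have h5 : F.relIndex D ≤ (F ⊓ H).relIndex (D ⊔ (F ⊓ H)) := by
      have e : (F ⊓ H).relIndex (D ⊔ (F ⊓ H)) = F.relIndex (D ⊔ (F ⊓ H)) := by
        rw [← inf_relIndex_right F (D ⊔ (F ⊓ H)), ← inf_relIndex_right (F ⊓ H) (D ⊔ (F ⊓ H))]
        congr 1
        rw [inf_assoc, inf_eq_right.2 hM]
      rw [e]
      exact relIndex_le_of_le_right le_sup_left index_ne_zero_of_finite
    have h6 : 0 < F.relIndex D := Nat.pos_of_ne_zero index_ne_zero_of_finite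
    have h7 : (D ⊔ (F ⊓ H)).relIndex H = 1 := by
      have h8 : 0 < (D ⊔ (F ⊓ H)).relIndex H := Nat.pos_of_ne_zero index_ne_zero_of_finite
      have h9 : F.relIndex H ≤ F.relIndex D := rel.trans h1
      by_contra hne
      have h10 : 2 ≤ (D ⊔ (F ⊓ H)).relIndex H := by omega
      have h11 := Nat.mul_le_mul h5 h10
      rw [h3, h4] at h11
      omega
    exact (relIndex_eq_one.1 h7).trans (sup_le_sup_left inf_le_left _)
  -- `L F = c F`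
  have h12 : L ⊔ F ≤ c ⊔ F := sup_le ((le_inf LV LLL).trans (h2.trans (sup_le_sup_right hDc _))) le_sup_right
  have h13 : F.relIndex (L ⊔ F) * (L ⊔ F).relIndex (c ⊔ F) = F.relIndex (c ⊔ F) :=
    relIndex_mul_relIndex _ _ _ le_sup_right h12
  have h14 : F.relIndex L ≤ F.relIndex (L ⊔ F) := relIndex_le_of_le_right le_sup_left index_ne_zero_of_finite
  have h15 := sup_relIndex_le Vc FV cV
  have h16 : 0 < Nat.card c := Nat.card_pos
  have h17 : (L ⊔ F).relIndex (c ⊔ F) = 1 := by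
    have h8 : 0 < (L ⊔ F).relIndex (c ⊔ F) := Nat.pos_of_ne_zero index_ne_zero_of_finite
    by_contra hne
    have h10 : 2 ≤ (L ⊔ F).relIndex (c ⊔ F) := by omega
    have h11 := Nat.mul_le_mul (card.trans h14) h10
    rw [h13] at h11
    omega
  exact le_sup_left.trans (relIndex_eq_one.1 h17)

/-- **(3)(i)** : if `A` moves `c` and centralises `L F`, every `N_c` is in `E`. -/
theorem N_le {V LL E F N L c Nc A : Subgroup G} (Vc : ∀ x ∈ V, ∀ y ∈ V, x * y = y * x)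
    (LLc : ∀ x ∈ LL, ∀ y ∈ LL, x * y = y * x) (nV : ∀ w ∈ V, ∀ b ∈ LL, w * b * w⁻¹ ∈ LL)
    (nL : ∀ w ∈ V, ∀ b ∈ LL, w * b * w⁻¹ * b⁻¹ ∈ V) (FV : F ≤ V)
    (flat : ∀ w ∈ V, w ∉ E → ∀ b ∈ LL, w * b * w⁻¹ * b⁻¹ ∈ F → b ∈ N)
    (rel : F.relIndex (V ⊓ LL) ≤ N.relIndex LL) (NcV : Nc ≤ V) (cN : c ≤ Nc)
    (hc : ∀ w ∈ Nc, ∀ b ∈ LL, w * b * w⁻¹ * b⁻¹ ∈ c) (LV : L ≤ V) (LLL : L ≤ LL)
    (card : Nat.card c ≤ F.relIndex L) (hA : L ⊔ F ≤ centralizer (A : Set G))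
    (mv : ¬ c ≤ centralizer (A : Set G)) : Nc ≤ E := by
  intro w hw
  by_contra hwE
  exact mv ((three_i Vc LLc nV nL FV (NcV hw) (flat w (NcV hw) hwE) rel (cN.trans NcV) (hc w hw) LV LLL card).trans hA)

end Cfsg.Agent.Omega.NO3S.CaseLW.LThm.ThreeI
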