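import Cfsg.Agent.Omega.NOne.Flat.Base

/-!
# THEOREM L (395 #25202, 77 #25643), step (2) for `q ≥ 4`: the lines `c = Z_l ^ y` lie in `E`  (helper919)

`CC` : the pairs `(N_c, c)`, `c = Z_l ^ y`, `N_c = V_l ^ y`; `LL = ⟨L ^ X⟩ ≤ C_W(L)` elementary abelian.

* `relIndex_le_two` : `|K : K ∩ H| ≤ 2` if the product of two elements of `K` outside `H` is in `H`;
* `orb_two` : `(IND)` ⟹ `|LL : N_LL(c)| ≤ 2`;
* `inf_le` : `(IND)`, `[E, LL] ≤ L`, `LL` centralises `[L, K]`, `LL` moves `c` ⟹ `N_c ∩ E ≤ c`;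
* **`le_E`** : `c ≤ E`.
-/

set_option autoImplicit false

namespace Cfsg.Agent.Omega.NO3S.CaseLW.LThm.TwoQ

open Subgroup
open scoped Pointwise

universe u

variable {G : Type u} [Group G]

theorem relIndex_le_two {H K : Subgroup G} (h : ∀ b ∈ K, ∀ b' ∈ K, b ∉ H → b' ∉ H → b * b' ∈ H) :
    H.relIndex K ≤ 2 := by
  by_cases hK : K ≤ H
  · rw [relIndex_eq_one.2 hK]; omega
  obtain ⟨a, haK, haH⟩ := SetLike.not_le_iff_exists.1 hK
  have h1 : (H.subgroupOf K).index = 2 := by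
    rw [index_eq_two_iff]
    refine ⟨⟨a, haK⟩, fun b => ?_⟩
    by_cases hb : (b : G) ∈ H
    · refine Or.inr ⟨mem_subgroupOf.2 hb, fun hc => haH ?_⟩
      have h2 : (b : G) * a ∈ H := mem_subgroupOf.1 hc
      exact (mul_mem_cancel_left hb).1 h2
    · exact Or.inl ⟨mem_subgroupOf.2 (h b b.2 a haK hb haH), fun hc => hb (mem_subgroupOf.1 hc)⟩
  exact h1.le

/-- The set of pairs `(N_c, c)`. -/
structure Dat (V LL K : Subgroup G) (CC : Set (Subgroup G × Subgroup G)) : Prop where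
  Vc : ∀ x ∈ V, ∀ y ∈ V, x * y = y * x
  Vs : ∀ x ∈ V, x * x = 1
  LLc : ∀ x ∈ LL, ∀ y ∈ LL, x * y = y * x
  LLs : ∀ x ∈ LL, x * x = 1
  /-- `V` normalises `LL` -/
  nV : ∀ w ∈ V, ∀ b ∈ LL, w * b * w⁻¹ ∈ LL
  pV : ∀ p ∈ CC, p.1 ≤ V
  pc : ∀ p ∈ CC, p.2 ≤ p.1
  ne : ∀ p ∈ CC, ∃ w ∈ p.1, w ∉ p.2
  x1 : ∀ p ∈ CC, ∃ x ∈ p.2, x ≠ 1
  cj : ∀ p ∈ CC, ∀ b ∈ LL, (MulAut.conj b • p.1, MulAut.conj b • p.2) ∈ CC
  /-- **(IND)** -/
  ind : ∀ p ∈ CC, ∀ w ∈ p.1, w ∉ p.2 → ∀ x ∈ p.2, ∃ a ∈ K, a * w * a⁻¹ = w * x ∧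
    ∀ q ∈ CC, q.2 ≠ p.2 → ∀ u ∈ q.1, a * u = u * a

variable {V LL K : Subgroup G} {CC : Set (Subgroup G × Subgroup G)}

theorem mem_cj {b w : G} {N : Subgroup G} (hw : w ∈ N) : b * w * b⁻¹ ∈ MulAut.conj b • N :=
  smul_mem_pointwise_smul _ _ _ hw

/-- `(IND)` ⟹ two elements of `LL` which move `c` differ by an element which normalises `c` -/
theorem orb_two (D : Dat V LL K CC) {p : Subgroup G × Subgroup G} (hp : p ∈ CC) {b b' : G} (hb : b ∈ LL)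
    (hb' : b' ∈ LL) (h1 : MulAut.conj b • p.2 ≠ p.2) (h2 : MulAut.conj b' • p.2 ≠ p.2) :
    MulAut.conj (b * b') • p.2 = p.2 := by
  by_contra h3
  obtain ⟨w, hw, hwc⟩ := D.ne p hp
  obtain ⟨x, hx, hx1⟩ := D.x1 p hp
  obtain ⟨a, -, ha, hc⟩ := D.ind p hp w hw hwc x hx
  apply hx1
  have hwV := D.pV p hp hw
  have key : ∀ e ∈ LL, MulAut.conj e • p.2 ≠ p.2 → a * (e * w * e⁻¹) = (e * w * e⁻¹) * a := fun e he hne =>
    hc _ (D.cj p hp e he) hne _ (mem_cj hw)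
  have e1 := key b hb h1
  have e2 := key b' hb' h2
  have e3 := key (b * b') (mul_mem hb hb') h3
  -- `[w, b, b'] = 1`
  have hbb := D.LLc b hb b' hb'
  have hbi : b⁻¹ = b := inv_eq_of_mul_eq_one_left (D.LLs b hb)
  have hbi' : b'⁻¹ = b' := inv_eq_of_mul_eq_one_left (D.LLs b' hb')
  have hwi : w⁻¹ = w := inv_eq_of_mul_eq_one_left (D.Vs w hwV)
  have hq : b' * (w * b * w⁻¹ * b⁻¹) * b'⁻¹ = w * b * w⁻¹ * b⁻¹ := by
    have h5 : w * b * w⁻¹ * b⁻¹ ∈ LL := mul_mem (D.nV w hwV b hb) (inv_mem hb)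
    rw [D.LLc b' hb' _ h5, mul_inv_cancel_right]
  -- `w = w^b w^b' w^(b b')`
  have hA : w * (b * w⁻¹ * b⁻¹) = (b' * w * b'⁻¹) * ((b * b') * w⁻¹ * (b * b')⁻¹) := by
    calc w * (b * w⁻¹ * b⁻¹) = w * b * w⁻¹ * b⁻¹ := by group
      _ = b' * (w * b * w⁻¹ * b⁻¹) * b'⁻¹ := hq.symm
      _ = (b' * w * b'⁻¹) * ((b' * b) * w⁻¹ * (b' * b)⁻¹) := by group
      _ = _ := by rw [← hbb]
  have inv_comm : ∀ e : G, a * (e * w * e⁻¹) = (e * w * e⁻¹) * a → a * (e * w⁻¹ * e⁻¹) = (e * w⁻¹ * e⁻¹) * a := by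
    intro e he
    rwa [hwi]
  have f1 := inv_comm _ e1
  have f3 := inv_comm _ e3
  have hB : a * w * a⁻¹ = w := by
    have h6 : w = (b' * w * b'⁻¹) * ((b * b') * w⁻¹ * (b * b')⁻¹) * (b * w⁻¹ * b⁻¹)⁻¹ := by
      rw [← hA]; group
    have h7 : a * w = w * a := by
      have c1 : Commute a (b' * w * b'⁻¹) := e2
      have c2 : Commute a ((b * b') * w⁻¹ * (b * b')⁻¹) := f3
      have c3 : Commute a (b * w⁻¹ * b⁻¹) := f1
      have c4 := (c1.mul_right c2).mul_right c3.inv_right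
      rw [← h6] at c4
      exact c4
    rw [h7, mul_inv_cancel_right]
  rw [hB] at ha
  exact (left_eq_mul.1 ha)

/-- `LL` moves `c` ⟹ `N_c ∩ E ≤ c` -/
theorem inf_le {E L : Subgroup G} (D : Dat V LL K CC) (one : ∀ w ∈ V, w ∈ E → ∀ b ∈ LL, w * b * w⁻¹ * b⁻¹ ∈ L)
    (KL : ∀ a ∈ K, ∀ l ∈ L, ∀ b ∈ LL, b * (a * l * a⁻¹ * l⁻¹) = (a * l * a⁻¹ * l⁻¹) * b)
    {p : Subgroup G × Subgroup G} (hp : p ∈ CC) {b : G} (hb : b ∈ LL) (hbc : MulAut.conj b • p.2 ≠ p.2) :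
    p.1 ⊓ E ≤ p.2 := by
  rintro w ⟨hw, hwE⟩
  by_contra hwc
  apply hbc
  have hwV := D.pV p hp hw
  have hcen : ∀ x ∈ p.2, b * x = x * b := by
    intro x hx
    obtain ⟨a, haK, ha, hc⟩ := D.ind p hp w hw hwc x hx
    have hl := one w hwV hwE b hb
    have h2 : a * (b * w * b⁻¹) = (b * w * b⁻¹) * a := hc _ (D.cj p hp b hb) hbc _ (mem_cj hw)
    have hwi : w⁻¹ = w := inv_eq_of_mul_eq_one_left (D.Vs w hwV)
    have h2' : a * (b * w⁻¹ * b⁻¹) * a⁻¹ = b * w⁻¹ * b⁻¹ := by rw [hwi, h2, mul_inv_cancel_right]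
    have hxV : x ∈ V := D.pV p hp (D.pc p hp hx)
    have h3 : a * (w * b * w⁻¹ * b⁻¹) * a⁻¹ * (w * b * w⁻¹ * b⁻¹)⁻¹ = x := by
      calc a * (w * b * w⁻¹ * b⁻¹) * a⁻¹ * (w * b * w⁻¹ * b⁻¹)⁻¹
          = (a * w * a⁻¹) * (a * (b * w⁻¹ * b⁻¹) * a⁻¹) * (b * w⁻¹ * b⁻¹)⁻¹ * w⁻¹ := by group
        _ = w * x * w⁻¹ := by rw [ha, h2', mul_inv_cancel_right]
        _ = x := by rw [D.Vc w hwV x hxV, mul_inv_cancel_right]
    have h4 := KL a haK _ hl b hb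
    rwa [h3] at h4
  ext x
  constructor
  · intro hx
    obtain ⟨y, hy, rfl⟩ := (mem_smul_pointwise_iff_exists _ _ _).1 hx
    rw [MulAut.smul_def, MulAut.conj_apply, hcen y hy, mul_inv_cancel_right]
    exact hy
  · intro hx
    refine (mem_smul_pointwise_iff_exists _ _ _).2 ⟨x, hx, ?_⟩
    rw [MulAut.smul_def, MulAut.conj_apply, hcen x hx, mul_inv_cancel_right]

/-- `b` with `c ^ b = c` -/
theorem mem_norm_iff {c : Subgroup G} {b : G} : b ∈ normalizer (c : Set G) ↔ MulAut.conj b • c = c := by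
  rw [mem_normalizer_iff]
  constructor
  · intro h
    ext x
    rw [mem_smul_pointwise_iff_exists]
    constructor
    · rintro ⟨y, hy, rfl⟩
      exact (h y).1 hy
    · intro hx
      refine ⟨b⁻¹ * x * b, (h _).2 (by rw [show b * (b⁻¹ * x * b) * b⁻¹ = x by group]; exact hx), ?_⟩
      rw [MulAut.smul_def, MulAut.conj_apply]; group
  · intro h x
    constructor
    · intro hx
      have := mem_cj (b := b) hx
      rwa [h] at this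
    · intro hx
      rw [← h] at hx
      obtain ⟨y, hy, e⟩ := (mem_smul_pointwise_iff_exists _ _ _).1 hx
      rw [MulAut.smul_def, MulAut.conj_apply] at e
      have : x = y := by
        have h2 := congrArg (fun t => b⁻¹ * t * b) e
        simp only [mul_assoc, inv_mul_cancel, inv_mul_cancel_left, mul_one] at h2
        exact h2.symm
      rwa [this]

/-- **(2) for `q ≥ 4`** : `c ≤ E`. -/
theorem le_E [Finite G] {E N L : Subgroup G} (D : Dat V LL K CC)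
    (one : ∀ w ∈ V, w ∈ E → ∀ b ∈ LL, w * b * w⁻¹ * b⁻¹ ∈ L)
    (KL : ∀ a ∈ K, ∀ l ∈ L, ∀ b ∈ LL, b * (a * l * a⁻¹ * l⁻¹) = (a * l * a⁻¹ * l⁻¹) * b)
    (flat : ∀ w ∈ V, w ∉ E → ∀ b ∈ LL, b * w = w * b → b ∈ N)
    (rel : E.relIndex V ≤ N.relIndex LL) (big : 4 ≤ N.relIndex LL)
    {p : Subgroup G × Subgroup G} (hp : p ∈ CC) (card : 4 ≤ p.2.relIndex p.1)
    (cyc : ∀ b ∈ LL, ∀ b' ∈ LL, MulAut.conj b • p.2 = p.2 → MulAut.conj b' • p.2 = p.2 →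
      b ∉ centralizer (p.2 : Set G) → b' ∉ centralizer (p.2 : Set G) → b * b' ∈ centralizer (p.2 : Set G)) :
    p.2 ≤ E := by
  by_contra hcE
  obtain ⟨w₀, hw₀, hw₀E⟩ := SetLike.not_le_iff_exists.1 hcE
  have hw₀V : w₀ ∈ V := D.pV p hp (D.pc p hp hw₀)
  -- `C_LL(c) ≤ N`
  have h1 : LL ⊓ centralizer (p.2 : Set G) ≤ N := by
    rintro b ⟨hb, hbc⟩
    exact flat w₀ hw₀V hw₀E b hb (mem_centralizer_iff.1 hbc _ hw₀).symm
  set NL : Subgroup G := LL ⊓ normalizer (p.2 : Set G) with hNL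
  have h2 : NL.relIndex LL ≤ 2 := by
    refine relIndex_le_two fun b hb b' hb' hn hn' => ?_
    have k1 : MulAut.conj b • p.2 ≠ p.2 := fun e => hn ⟨hb, mem_norm_iff.2 e⟩
    have k2 : MulAut.conj b' • p.2 ≠ p.2 := fun e => hn' ⟨hb', mem_norm_iff.2 e⟩
    exact ⟨mul_mem hb hb', mem_norm_iff.2 (orb_two D hp hb hb' k1 k2)⟩
  have h3 : (LL ⊓ centralizer (p.2 : Set G)).relIndex NL ≤ 2 := by
    refine relIndex_le_two fun b hb b' hb' hn hn' => ?_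
    exact ⟨mul_mem hb.1 hb'.1, cyc b hb.1 b' hb'.1 (mem_norm_iff.1 hb.2) (mem_norm_iff.1 hb'.2)
      (fun hc => hn ⟨hb.1, hc⟩) fun hc => hn' ⟨hb'.1, hc⟩⟩
  have hCN : LL ⊓ centralizer (p.2 : Set G) ≤ NL := inf_le_inf le_rfl (centralizer_le_normalizer _)
  have h4 : (LL ⊓ centralizer (p.2 : Set G)).relIndex NL * NL.relIndex LL =
      (LL ⊓ centralizer (p.2 : Set G)).relIndex LL := relIndex_mul_relIndex _ _ _ hCN inf_le_left
  have h5 : N.relIndex LL ≤ (LL ⊓ centralizer (p.2 : Set G)).relIndex LL := by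
    refine relIndex_le_of_le_left h1 ?_
    exact FiniteIndex.index_ne_zero
  -- `LL` normalises `c`?
  by_cases hLn : LL ≤ normalizer (p.2 : Set G)
  · have h6 : NL = LL := inf_eq_left.2 hLn
    rw [h6] at h3
    omega
  obtain ⟨b, hb, hbn⟩ := SetLike.not_le_iff_exists.1 hLn
  have hbc : MulAut.conj b • p.2 ≠ p.2 := fun e => hbn (mem_norm_iff.2 e)
  have h7 := inf_le D one KL hp hb hbc
  have h8 : (p.1 ⊓ E).relIndex p.1 ≤ 4 := by
    have k1 : (p.1 ⊓ E).relIndex p.1 = E.relIndex p.1 := inf_relIndex_left _ _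
    rw [k1]
    have k2 : E.relIndex p.1 ≤ E.relIndex V := relIndex_le_of_le_right (D.pV p hp) FiniteIndex.index_ne_zero
    have k3 : (LL ⊓ centralizer (p.2 : Set G)).relIndex NL * NL.relIndex LL ≤ 2 * 2 := Nat.mul_le_mul h3 h2
    omega
  have h9 : (p.1 ⊓ E).relIndex p.2 * p.2.relIndex p.1 = (p.1 ⊓ E).relIndex p.1 :=
    relIndex_mul_relIndex _ _ _ h7 (D.pc p hp)
  have h10 : 2 ≤ (p.1 ⊓ E).relIndex p.2 := by
    have k1 : (p.1 ⊓ E).relIndex p.2 ≠ 1 := by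
      rw [Ne, relIndex_eq_one]
      exact fun hle => hw₀E (hle hw₀).2
    have k2 : (p.1 ⊓ E).relIndex p.2 ≠ 0 := FiniteIndex.index_ne_zero
    omega
  have h11 : 2 * 4 ≤ (p.1 ⊓ E).relIndex p.2 * p.2.relIndex p.1 := Nat.mul_le_mul h10 card
  omega

end Cfsg.Agent.Omega.NO3S.CaseLW.LThm.TwoQ
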