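import Cfsg.Agent.Omega.NO3S.CaseLW.LThm.Struct
import Cfsg.Agent.Omega.NO3S.CaseLW.LThm.TwoQ
import Cfsg.Agent.Omega.NO3S.CaseLW.LThm.Three
import Cfsg.Agent.Omega.NO3S.CaseLW.LThm.ThreeI
import Cfsg.Agent.Omega.NO3S.OneLine.Abs

/-!
# THEOREM L(q) (#26406) : the glue  (helper202)

* `Sit.le_E` (2) : `R ≤ E₃`; `Sit.comm_R_LL` : `[R, LL] = 1`;
* `Sit.cent_A` (3) : `[R, A₃] = 1`; `Sit.R_le` : `R ≤ L F₃`;
* **`Sit.norm`** : `Y` normalises `Z_J`.
-/

set_option autoImplicit false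
set_option linter.unusedSectionVars false
set_option linter.unusedVariables false

namespace Cfsg.Agent.Omega.NO3S.CaseLW.LThm

open Subgroup Cfsg
open Cfsg.Agent.Omega.NOne.Flat (Hyp EE WW NN)
open Cfsg.Agent.Omega.NOne.NearFF (c c_def)
open Cfsg.Agent.Omega.NoFF.Basic (mem_conj conj_conj conj_le_iff conj_self)
open scoped Pointwise

universe u

variable {G : Type u} [Group G] {ι : Type*} {V L Q T Y K ZJ R : Subgroup G} {Nn Zz : ι → Subgroup G} {q : ℕ}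

/-- `A₃` -/
abbrev AA (L V F : Subgroup G) : Subgroup G := WW V F ⊓ centralizer (L : Set G)

theorem conj_norm {H : Subgroup G} {g : G} (hg : g ∈ normalizer (H : Set G)) : MulAut.conj g • H = H :=
  TwoQ.mem_norm_iff.1 hg

theorem card_conj (g : G) (H : Subgroup G) : Nat.card ↥(MulAut.conj g • H) = Nat.card H :=
  (Nat.card_congr (Subgroup.equivSMul (MulAut.conj g) H).toEquiv).symm

theorem conj_mem {g x : G} {H : Subgroup G} (hx : x ∈ H) : g * x * g⁻¹ ∈ MulAut.conj g • H := by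
  rw [mem_conj]
  have e : g⁻¹ * (g * x * g⁻¹) * g = x := by group
  rwa [e]

theorem mem_norm_of [Finite G] {H : Subgroup G} {b : G} (hb : ∀ v ∈ H, b * v * b⁻¹ ∈ H) :
    b ∈ normalizer (H : Set G) := by
  rw [TwoQ.mem_norm_iff]
  refine Subgroup.eq_of_le_of_card_ge ?_ (card_conj b H).ge
  intro x hx
  rw [mem_conj] at hx
  have h1 := hb _ hx
  have e : b * (b⁻¹ * x * b) * b⁻¹ = x := by group
  rwa [e] at h1

theorem card_mul_relIndex {H M : Subgroup G} (hHM : H ≤ M) : Nat.card H * H.relIndex M = Nat.card M := by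
  have h1 := relIndex_mul_relIndex ⊥ H M bot_le hHM
  rwa [relIndex_bot_left, relIndex_bot_left] at h1

namespace At

variable {F : Subgroup G} (a : At V L Q ZJ q F)
include a

theorem LL_cent : LL L F ≤ centralizer (L : Set G) := fun x hx =>
  mem_centralizer_iff.2 fun l hl => a.LLc l (L_le_LL hl) x hx

theorem LL_le_AA : LL L F ≤ AA L V F := le_inf (LL_le_W a.LE) a.LL_cent

theorem LL_le_Q : LL L F ≤ Q := a.LL_le_AA.trans a.AQ

theorem LW_le_L : LW L V F ≤ L := by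
  rw [commutator_le]
  intro l hl s hs
  have h1 : s * l⁻¹ * s⁻¹ ∈ L := (mem_normalizer_iff.1 (a.WL hs) l⁻¹).1 (inv_mem hl)
  have h2 : l * s * l⁻¹ * s⁻¹ = l * (s * l⁻¹ * s⁻¹) := by group
  rw [commutatorElement_def, h2]
  exact mul_mem hl h1

theorem not_L_le_F (hq : 4 ≤ q) : ¬ L ≤ F := fun h1 => by
  have h2 := a.qF
  rw [relIndex_eq_one.2 h1] at h2
  omega

theorem F_cent_A [Finite G] : F ≤ centralizer (AA L V F : Set G) := fun f hf =>
  mem_centralizer_iff.2 fun s hs => (Hyp.F_comm hf (Hyp.W_le_X hs.1)).symm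

theorem LF_cent_A [Finite G] : L ⊔ F ≤ centralizer (AA L V F : Set G) :=
  sup_le (fun l hl => mem_centralizer_iff.2 fun s hs => (mem_centralizer_iff.1 hs.2 l hl).symm) a.F_cent_A

/-- `[E, A₃] ≤ F` -/
theorem comm_F [Finite G] {w s : G} (hw : w ∈ EE V F) (hs : s ∈ WW V F) : s * w * s⁻¹ * w⁻¹ ∈ F := by
  have h1 : (c w s)⁻¹ ∈ F := inv_mem (a.hyp.comm_EW hw hs)
  have e : (c w s)⁻¹ = s * w * s⁻¹ * w⁻¹ := by rw [c_def]; group
  rwa [e] at h1

end At

namespace Sit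

variable (h : Sit V L Q T Y K ZJ R Nn Zz q)
include h

theorem QY : Q ≤ Y := h.QT.trans h.TY

theorem line_le {y : G} (hy : y ∈ Y) (l : ι) : MulAut.conj y • Nn l ≤ V := by
  rw [← conj_norm (h.YV hy)]
  exact conj_le_iff.2 ((h.NL l).trans h.LV)

theorem RV : R ≤ V := h.Rle V fun y hy l => (conj_le_iff.2 (h.ZN l)).trans (h.line_le hy l)

theorem q_pos : 0 < q := lt_of_lt_of_le (by norm_num) h.four

theorem relIndex_ZN (l : ι) : (Zz l).relIndex (Nn l) = q := by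
  have h1 := card_mul_relIndex (h.ZN l)
  rw [h.cardZ, h.cardN] at h1
  exact Nat.eq_of_mul_eq_mul_left h.q_pos h1

theorem line_R {y : G} (hy : y ∈ Y) (l : ι) : MulAut.conj y • Zz l ≤ R :=
  (conj_le_iff.2 (h.Zle l)).trans (h.ZR y hy)

theorem exists_ne (l : ι) : ∃ x ∈ Zz l, x ≠ 1 := by
  have h1 : Zz l ≠ ⊥ := fun e => by
    have h2 := h.cardZ l
    rw [e, card_bot] at h2
    have := h.four
    omega
  obtain ⟨⟨x, hx⟩, hx1⟩ := Subgroup.ne_bot_iff_exists_ne_one.1 h1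
  exact ⟨x, hx, fun e => hx1 (Subtype.ext e)⟩

/-- the pairs `(N_c, c)` -/
def CC (Y : Subgroup G) (Nn Zz : ι → Subgroup G) : Set (Subgroup G × Subgroup G) :=
  {p | ∃ y ∈ Y, ∃ l, p = (MulAut.conj y • Nn l, MulAut.conj y • Zz l)}

variable [Finite G]

theorem dat {F : Subgroup G} (a : At V L Q ZJ q F) : TwoQ.Dat V (LL L F) K (CC Y Nn Zz) where
  Vc := h.Vc
  Vs := h.Vs
  LLc := a.LLc
  LLs := a.LLs
  nV := fun w hw b hb => (mem_normalizer_iff.1 (X_norm_LL (a.hyp.V_le_X hw)) b).1 hb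
  pV := by
    rintro _ ⟨y, hy, l, rfl⟩
    exact h.line_le hy l
  pc := by
    rintro _ ⟨y, hy, l, rfl⟩
    exact conj_le_iff.2 (h.ZN l)
  ne := by
    rintro _ ⟨y, hy, l, rfl⟩
    have h1 : ¬ Nn l ≤ Zz l := fun h2 => by
      have h3 := h.relIndex_ZN l
      rw [relIndex_eq_one.2 h2] at h3
      have := h.four
      omega
    obtain ⟨w, hw, hwn⟩ := SetLike.not_le_iff_exists.1 h1
    refine ⟨y * w * y⁻¹, conj_mem hw, fun hc => hwn ?_⟩
    have h2 := mem_conj.1 hc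
    have e : y⁻¹ * (y * w * y⁻¹) * y = w := by group
    rwa [e] at h2
  x1 := by
    rintro _ ⟨y, hy, l, rfl⟩
    obtain ⟨x, hx, hx1⟩ := h.exists_ne l
    exact ⟨y * x * y⁻¹, conj_mem hx, fun e => hx1 (conj_eq_one_iff.1 e)⟩
  cj := by
    rintro _ ⟨y, hy, l, rfl⟩ b hb
    exact ⟨b * y, mul_mem (h.QY (a.LL_le_Q hb)) hy, l, by rw [conj_conj, conj_conj]⟩
  ind := by
    rintro _ ⟨y, hy, l, rfl⟩ w hw hwc x hx
    obtain ⟨k, hk, h1, h2⟩ := h.ind y hy l w hw hwc x hx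
    refine ⟨k, hk, h1, ?_⟩
    rintro _ ⟨y', hy', l', rfl⟩ hne u hu
    exact h2 y' hy' l' hne u hu

/-- choice of `y'` for the elements of `A` normalising the line -/
theorem exists_y {A : Subgroup G} (hA : A ≤ T) {y : G} (hy : y ∈ Y) (l : ι) :
    ∃ y' ∈ Y, MulAut.conj y' • Zz l = MulAut.conj y • Zz l ∧
      (∀ b ∈ A, (∀ v ∈ MulAut.conj y' • Zz l, b * v * b⁻¹ ∈ MulAut.conj y' • Zz l) → b ∈ MulAut.conj y' • T) ∧
      ∃ g : G, (∀ v ∈ MulAut.conj y' • Zz l, g * v * g⁻¹ ∈ MulAut.conj y' • Zz l) ∧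
        ∀ b ∈ A, (∀ v ∈ MulAut.conj y' • Zz l, b * v * b⁻¹ ∈ MulAut.conj y' • Zz l) →
          ∃ n : ℤ, ∀ v ∈ MulAut.conj y' • Zz l, b * v * b⁻¹ = g ^ n * v * (g ^ n)⁻¹ := by
  obtain ⟨y', hy', e, hX⟩ := h.syl y hy l (A ⊓ normalizer ((MulAut.conj y • Zz l : Subgroup G) : Set G))
    (inf_le_left.trans (hA.trans h.TY)) (h.T2.to_le (inf_le_left.trans hA)) inf_le_right
  have hT : ∀ b ∈ A, (∀ v ∈ MulAut.conj y' • Zz l, b * v * b⁻¹ ∈ MulAut.conj y' • Zz l) →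
      b ∈ MulAut.conj y' • T := fun b hb hbn => by
    have h1 := mem_norm_of hbn
    rw [e] at h1
    exact hX ⟨hb, h1⟩
  refine ⟨y', hy', e, hT, ?_⟩
  obtain ⟨g, hg, hgen⟩ := h.cyc l
  refine ⟨y' * g * y'⁻¹, fun v hv => ?_, fun b hb hbn => ?_⟩
  · rw [mem_conj] at hv ⊢
    have h1 := hg _ hv
    have e1 : g * (y'⁻¹ * v * y') * g⁻¹ = y'⁻¹ * (y' * g * y'⁻¹ * v * (y' * g * y'⁻¹)⁻¹) * y' := by group
    rwa [e1] at h1
  · have hbT := mem_conj.1 (hT b hb hbn)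
    obtain ⟨n, hn⟩ := hgen _ hbT fun v hv => by
      have h1 := mem_conj.1 (hbn _ (conj_mem (g := y') hv))
      have e1 : y'⁻¹ * (b * (y' * v * y'⁻¹) * b⁻¹) * y' = y'⁻¹ * b * y' * v * (y'⁻¹ * b * y')⁻¹ := by group
      rwa [e1] at h1
    refine ⟨n, fun v hv => ?_⟩
    have h2 := hn _ (mem_conj.1 hv)
    have h3 := congrArg (fun t => y' * t * y'⁻¹) h2
    have e2 : y' * (y'⁻¹ * b * y' * (y'⁻¹ * v * y') * (y'⁻¹ * b * y')⁻¹) * y'⁻¹ = b * v * b⁻¹ := by group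
    rw [e2] at h3
    rw [h3, conj_zpow]
    group

/-- **(2)** `R ≤ E₃` -/
theorem le_E {F : Subgroup G} (a : At V L Q ZJ q F) : R ≤ EE V F := by
  refine h.Rle _ fun y hy l => ?_
  have h0 := TwoQ.le_E (E := EE V F) (N := NN V F) (L := L) (p := (MulAut.conj y • Nn l, MulAut.conj y • Zz l))
    (h.dat a)
  refine h0 (fun w hw hwE b hb => a.LW_le_L (comm_E_LL a.hyp a.LE hwE hb)) (fun k hk l' hl b hb => ?_)
    (fun w hw hwE b hb hcomm => (cent_iff a.hyp a.LE hw hwE hb).1 ?_) (rel_V a.hyp a.LE (a.not_L_le_F h.four))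
    (h.four.trans (a.qF.trans (rel_L a.hyp a.LE))) ⟨y, hy, l, rfl⟩ ?_ ?_
  · exact (mem_centralizer_iff.1 (a.LL_cent hb) _ (h.ZJL (h.KL k hk l' hl))).symm
  · have e : c w b = 1 := by rw [c_def, ← hcomm]; group
    rw [e]
    exact one_mem _
  · show 4 ≤ (MulAut.conj y • Zz l).relIndex (MulAut.conj y • Nn l)
    rw [relIndex_pointwise_smul, h.relIndex_ZN]
    exact h.four
  · show ∀ b ∈ LL L F, ∀ b' ∈ LL L F, MulAut.conj b • (MulAut.conj y • Zz l) = MulAut.conj y • Zz l →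
      MulAut.conj b' • (MulAut.conj y • Zz l) = MulAut.conj y • Zz l →
      b ∉ centralizer ((MulAut.conj y • Zz l : Subgroup G) : Set G) →
      b' ∉ centralizer ((MulAut.conj y • Zz l : Subgroup G) : Set G) →
      b * b' ∈ centralizer ((MulAut.conj y • Zz l : Subgroup G) : Set G)
    intro b hb b' hb' hbc hbc' hn hn'
    obtain ⟨y', hy', e, hT, hcyc⟩ := h.exists_y (a.LL_le_Q.trans h.QT) hy l
    rw [← e] at hbc hbc' hn hn' ⊢
    have hcV : MulAut.conj y' • Zz l ≤ V := (conj_le_iff.2 (h.ZN l)).trans (h.line_le hy' l)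
    have key := Three.two_of_gen (A := LL L F) (c := MulAut.conj y' • Zz l) (fun w hw s hs t ht => ?_)
      (fun v hv => by rw [pow_two]; exact h.Vs v (hcV hv)) hcyc
    · have hnorm : ∀ s : G, MulAut.conj s • (MulAut.conj y' • Zz l) = MulAut.conj y' • Zz l →
          ∀ v ∈ MulAut.conj y' • Zz l, s * v * s⁻¹ ∈ MulAut.conj y' • Zz l := fun s hs v hv => by
        have h1 := conj_mem (g := s) hv
        rwa [hs] at h1
      have hmv : ∀ s : G, s ∉ centralizer ((MulAut.conj y' • Zz l : Subgroup G) : Set G) →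
          ∃ v ∈ MulAut.conj y' • Zz l, s * v ≠ v * s := fun s hs => by
        by_contra hcon
        push Not at hcon
        exact hs (mem_centralizer_iff.2 fun v hv => (hcon v hv).symm)
      have h2 := key b hb b' hb' (hnorm b hbc) (hnorm b' hbc') (hmv b hn) (hmv b' hn')
      have hbi : b'⁻¹ = b' := inv_eq_of_mul_eq_one_left (a.LLs b' hb')
      rw [hbi] at h2
      exact mem_centralizer_iff.2 fun v hv => (h2 v hv).symm
    · have h1 : c w s ∈ LL L F := (comm_V_LL a.hyp a.LE (hcV hw) hs).2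
      have h2 : s * w * s⁻¹ * w⁻¹ ∈ LL L F := by
        have e1 : (c w s)⁻¹ = s * w * s⁻¹ * w⁻¹ := by rw [c_def]; group
        rw [← e1]
        exact inv_mem h1
      exact a.LLc t ht _ h2

/-- `[R, LL] = 1` -/
theorem comm_R_LL {F : Subgroup G} (a : At V L Q ZJ q F) : LL L F ≤ centralizer (R : Set G) := by
  intro b hb
  rw [mem_centralizer_iff]
  intro r hr
  have h1 : c r b ∈ LW L V F := comm_E_LL a.hyp a.LE (h.le_E a hr) hb
  have h2 : c r b ∈ R := by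
    have h3 := (mem_normalizer_iff.1 (h.YR (h.QY (a.LL_le_Q hb))) r⁻¹).1 (inv_mem hr)
    have e : c r b = r * (b * r⁻¹ * b⁻¹) := by rw [c_def]; group
    rw [e]
    exact mul_mem hr h3
  have h4 : c r b ∈ LW L V F ⊓ ZJ := ⟨h1, h.RL ⟨h2, a.LW_le_L h1⟩⟩
  rw [a.LWZ, mem_bot, c_def] at h4
  have h5 : r * b * r⁻¹ = b := mul_inv_eq_one.1 h4
  exact mul_inv_eq_iff_eq_mul.1 h5

theorem AT {F : Subgroup G} (a : At V L Q ZJ q F) : AA L V F ≤ T := a.AQ.trans h.QT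

/-- **(3)** `[R, A₃] = 1` -/
theorem cent_A {F : Subgroup G} (a : At V L Q ZJ q F) : R ≤ centralizer (AA L V F : Set G) := by
  refine h.Rle _ fun y₀ hy₀ l => ?_
  by_contra mv
  obtain ⟨y, hy, e, hT, hcyc⟩ := h.exists_y (h.AT a) hy₀ l
  rw [← e] at mv
  clear e hy₀ y₀
  set c' : Subgroup G := MulAut.conj y • Zz l with hc'
  set N : Subgroup G := MulAut.conj y • Nn l with hN
  have hcN : c' ≤ N := conj_le_iff.2 (h.ZN l)
  have hNV : N ≤ V := h.line_le hy l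
  have hcR : c' ≤ R := h.line_R hy l
  -- root elements
  have root : ∀ b ∈ MulAut.conj y • T, (∀ v ∈ c', b * v = v * b) →
      (∀ w ∈ N, b * w * b⁻¹ * w⁻¹ ∈ c') ∧
        ((∀ w ∈ N, b * w = w * b) ∨ ∀ z ∈ c', ∃ w ∈ N, z = b * w * b⁻¹ * w⁻¹) := by
    intro b hb hbc
    obtain ⟨h1, h2⟩ := h.ft l _ (mem_conj.1 hb) fun v hv => by
      have h3 := hbc _ (conj_mem (g := y) hv)
      calc y⁻¹ * b * y * v = y⁻¹ * (b * (y * v * y⁻¹)) * y := by group
        _ = y⁻¹ * ((y * v * y⁻¹) * b) * y := by rw [h3]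
        _ = v * (y⁻¹ * b * y) := by group
    refine ⟨fun w hw => ?_, ?_⟩
    · have h3 := h1 _ (mem_conj.1 hw)
      rw [hc', mem_conj]
      have e1 : y⁻¹ * b * y * (y⁻¹ * w * y) * (y⁻¹ * b * y)⁻¹ * (y⁻¹ * w * y)⁻¹ =
          y⁻¹ * (b * w * b⁻¹ * w⁻¹) * y := by group
      rwa [e1] at h3
    · rcases h2 with h2 | h2
      · refine Or.inl fun w hw => ?_
        have h3 := h2 _ (mem_conj.1 hw)
        calc b * w = y * (y⁻¹ * b * y * (y⁻¹ * w * y)) * y⁻¹ := by group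
          _ = y * (y⁻¹ * w * y * (y⁻¹ * b * y)) * y⁻¹ := by rw [h3]
          _ = w * b := by group
      · refine Or.inr fun z hz => ?_
        obtain ⟨w, hw, hzw⟩ := h2 _ (mem_conj.1 hz)
        refine ⟨y * w * y⁻¹, conj_mem hw, ?_⟩
        calc z = y * (y⁻¹ * z * y) * y⁻¹ := by group
          _ = y * (y⁻¹ * b * y * w * (y⁻¹ * b * y)⁻¹ * w⁻¹) * y⁻¹ := by rw [hzw]
          _ = b * (y * w * y⁻¹) * b⁻¹ * (y * w * y⁻¹)⁻¹ := by group
  -- `N ≤ E`
  have hNE : N ≤ EE V F := by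
    refine ThreeI.N_le (V := V) (LL := LL L F) (F := F) (N := NN V F) (L := L) (c := c') (A := AA L V F) h.Vc a.LLc
      (fun w hw b hb => (mem_normalizer_iff.1 (X_norm_LL (a.hyp.V_le_X hw)) b).1 hb)
      (fun w hw b hb => (comm_V_LL a.hyp a.LE hw hb).1) a.hyp.F_le_V
      (fun w hw hwE b hb hF => (cent_iff a.hyp a.LE hw hwE hb).1 hF) (rel_le_LL a.hyp a.LE) hNV hcN
      (fun w hw b hb => ?_) h.LV L_le_LL ?_ a.LF_cent_A mv
    · have hbR := h.comm_R_LL a hb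
      have hbT : b ∈ MulAut.conj y • T := h.oY y hy ⟨h.QT (a.LL_le_Q hb), hbR⟩
      have h1 := (root b hbT fun v hv => (mem_centralizer_iff.1 hbR v (hcR hv)).symm).1 w hw
      have e1 : (b * w * b⁻¹ * w⁻¹)⁻¹ = w * b * w⁻¹ * b⁻¹ := by group
      rw [← e1]
      exact inv_mem h1
    · rw [hc', card_conj, h.cardZ]
      exact a.qF
  have quad : ∀ w ∈ N, ∀ s ∈ AA L V F, ∀ t ∈ AA L V F, t * (s * w * s⁻¹ * w⁻¹) = s * w * s⁻¹ * w⁻¹ * t :=
    fun w hw s hs t ht => (Hyp.F_comm (a.comm_F (hNE hw) hs.1) (Hyp.W_le_X ht.1)).symm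
  have key : Three.In3 (AA L V F) c' N q :=
    { four := h.four
      cN := hcN
      card_c := by rw [hc', card_conj, h.cardZ]
      card_N := by rw [hN, card_conj, h.cardN]
      quad := quad
      ind := fun w hw hwc => by
        obtain ⟨x, hx, hx1⟩ := h.exists_ne l
        obtain ⟨k, -, h1, h2⟩ := h.ind y hy l w hw hwc (y * x * y⁻¹) (conj_mem hx)
        refine ⟨k, fun h3 => hx1 ?_, fun b hb hbv x' hx' => ?_⟩
        · rw [h3, mul_inv_cancel_right] at h1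
          exact conj_eq_one_iff.1 (left_eq_mul.1 h1)
        · obtain ⟨v, hv, hbv⟩ := hbv
          refine h2 (b * y) (mul_mem (h.TY (h.AT a hb)) hy) l (fun h3 => hbv ?_) _ ?_
          · have h4 := conj_mem (g := b) hv
            rwa [hc', conj_conj, h3] at h4
          · have h4 := conj_mem (g := b) hx'
            rwa [hN, conj_conj] at h4
      two := Three.two_of_gen (fun w hw s hs t ht => quad w (hcN hw) s hs t ht)
        (fun v hv => by rw [pow_two]; exact h.Vs v (hNV (hcN hv))) hcyc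
      ft := fun r hr hrc => (root r (hT r hr fun v hv => by
        rw [hrc v hv, mul_inv_cancel_right]; exact hv) hrc).2
      off := fun hn hrel s hs v hv => by
        have hle : ∀ b ∈ AA L V F, b ∈ MulAut.conj y • T := fun b hb => hT b hb (hn b hb)
        have h1 : MulAut.conj y⁻¹ • AA L V F ≤ T := fun b hb => by
          have h2 := mem_conj.1 (hle _ (mem_conj.1 hb))
          have e1 : y⁻¹ * (y⁻¹⁻¹ * b * y⁻¹) * y = b := by group
          rwa [e1] at h2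
        have h2 := h.off l (MulAut.conj y⁻¹ • AA L V F) h1 (fun w hw s hs t ht => ?_) ?_ (y⁻¹ * s * y) ?_ _
          (mem_conj.1 hv)
        · calc s * v = y * (y⁻¹ * s * y * (y⁻¹ * v * y)) * y⁻¹ := by group
            _ = y * (y⁻¹ * v * y * (y⁻¹ * s * y)) * y⁻¹ := by rw [h2]
            _ = v * s := by group
        · have h3 := quad _ (conj_mem (g := y) hw) _ (mem_conj.1 hs) _ (mem_conj.1 ht)
          calc t * (s * w * s⁻¹ * w⁻¹)
              = y⁻¹ * ((y⁻¹⁻¹ * t * y⁻¹) * ((y⁻¹⁻¹ * s * y⁻¹) * (y * w * y⁻¹) * (y⁻¹⁻¹ * s * y⁻¹)⁻¹ *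
                (y * w * y⁻¹)⁻¹)) * y := by group
            _ = y⁻¹ * ((y⁻¹⁻¹ * s * y⁻¹) * (y * w * y⁻¹) * (y⁻¹⁻¹ * s * y⁻¹)⁻¹ *
                (y * w * y⁻¹)⁻¹ * (y⁻¹⁻¹ * t * y⁻¹)) * y := by rw [h3]
            _ = s * w * s⁻¹ * w⁻¹ * t := by group
        · have h3 : Nn l = MulAut.conj y⁻¹ • N := by
            rw [hN, conj_conj, inv_mul_cancel, map_one, one_smul]
          rw [h3, ← NOne.Flat.conj_centralizer, ← NOne.Flat.conj_centralizer, relIndex_pointwise_smul,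
            relIndex_pointwise_smul]
          exact hrel
        · rw [mem_conj]
          have e1 : y⁻¹⁻¹ * (y⁻¹ * s * y) * y⁻¹ = s := by group
          rw [e1]
          exact hs
      best := a.best _ hNE }
  exact mv fun v hv => mem_centralizer_iff.2 fun s hs => key.cent s hs v hv

theorem R_le {F : Subgroup G} (a : At V L Q ZJ q F) : R ≤ L ⊔ F := (le_inf (h.le_E a) (h.cent_A a)).trans a.cE

/-- **THEOREM L(q)**. -/
theorem norm (hF : ∀ z ∈ ZJ, z ≠ 1 → ∃ F, At V L Q ZJ q F ∧ z ∉ F) : Y ≤ normalizer (ZJ : Set G) := by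
  by_contra hY
  have hRZ : ¬ R ≤ ZJ := fun h1 => hY fun y hy => mem_norm_of fun v hv =>
    h1 (h.ZR y hy (conj_mem hv))
  obtain ⟨u, huR, huZ, hu⟩ := OneLine.exists_fixed h.T2 (h.RV.trans h.VT) (h.TY.trans h.YR) hRZ
  have huV := h.RV huR
  have huL : u ∉ L := fun h1 => huZ (h.RL ⟨huR, h1⟩)
  have huc : ∀ t ∈ T, c u t ∈ ZJ := fun t ht => by
    have e : (t * u * t⁻¹ * u⁻¹)⁻¹ = c u t := by rw [c_def]; group
    rw [← e]
    exact inv_mem (hu t ht)
  obtain ⟨s, hs, hsu⟩ : ∃ s ∈ Q, c u s ≠ 1 := by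
    by_contra hcon
    push Not at hcon
    refine huL (h.cVQ ⟨huV, mem_centralizer_iff.2 fun s hs => ?_⟩)
    have h1 := hcon s hs
    rw [c_def] at h1
    exact (mul_inv_eq_iff_eq_mul.1 (mul_inv_eq_one.1 h1)).symm
  obtain ⟨F, a, hz⟩ := hF _ (huc s (h.QT hs)) hsu
  exact hz (phi_le a.hyp a.LE h.QL a.WQ a.WL (h.R_le a) h.ZJL a.LWZ huR (fun t ht => huc t (h.QT ht)) s hs)

end Sit

end Cfsg.Agent.Omega.NO3S.CaseLW.LThm
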