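import Cfsg.Agent.Omega.NO3S.CaseLW.LThm.AtG
import Cfsg.Agent.Omega.NO3S.CaseLW.LThm.IndOf
import Cfsg.Agent.Omega.NO3S.CaseLW.LThm.FT
import Cfsg.Agent.Omega.NO3S.CaseLW.LThm.Main

/-!
# THEOREM L(q) (#26406): the structure `Sit` over `WQ`, `Bg`, modulo `ft`, `cyc`, `off`

`K♯ = KK S V = ⟨W_F ≤ S⟩ ≤ O₂(Y)`, `R = ⟨Z_J^Y⟩`.
-/

set_option autoImplicit false
set_option linter.unusedSectionVars false
set_option linter.dupNamespace false

namespace Cfsg.Agent.Omega.NO3S.CaseLW.LThm.SitG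

open Subgroup Cfsg Cfsg.Agent.ZN Cfsg.Agent.ZN.ChoiceBase Cfsg.Agent.Omega.MinPar Cfsg.Agent.Omega.Frame
open Cfsg.Agent.Omega.NO3S.EThree.Frame (Bg Fg)
open Cfsg.Agent.Omega.NO3S.Level
open Cfsg.Agent.Omega.NO3S.RedC
open Cfsg.Agent.Omega.NO3S.WY
open Cfsg.Agent.Omega.NO3S.CaseLW.QWc
open Cfsg.Agent.Omega.NO3S.CaseLW.LThm
open Cfsg.Agent.MinSimple.VModule (oddGen)
open Cfsg.Agent.Omega.NO3b.EZero (cl cl_le le_cl cj_le_cl le_normalizer_cl oddGen_sup_syl)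
open scoped Pointwise commutatorElement

universe u

variable {G : Type u} [Group G] [Finite G]

/-- `K♯ = ⟨W_F ≤ S⟩` -/
def KK (S V : Subgroup G) : Subgroup G :=
  sSup {A | ∃ F, NOne.Flat.Hyp V F ∧ NOne.Flat.WW V F ≤ S ∧ A = NOne.Flat.WW V F}

theorem le_KK {S V F : Subgroup G} (hF : NOne.Flat.Hyp V F) (hW : NOne.Flat.WW V F ≤ S) :
    NOne.Flat.WW V F ≤ KK S V := le_sSup ⟨F, hF, hW, rfl⟩

section wq

variable {S : Sylow 2 G} {P T Y V B : Subgroup G} {ι : Type} {L W Z C : ι → Subgroup G} {q : ℕ}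
  (h : WQ S P T Y) (hB : Bg S P B (WY.ZJ (S : Subgroup G) P) L W Z C q) (hV : Md S P Y V)
include h hB hV

theorem KK_B : KK (S : Subgroup G) V ≤ B := by
  have hBB : WY.BB (S : Subgroup G) P = B := hB.eqB.symm
  refine sSup_le ?_
  rintro _ ⟨F, hF, hW, rfl⟩
  exact hBB ▸ h.W_B hV hF hW

/-- `[V_P, B] ≤ Z_J` -/
theorem comm_B {a l : G} (ha : a ∈ B) (hl : l ∈ zl (S : Subgroup G) P) :
    a * l * a⁻¹ * l⁻¹ ∈ WY.ZJ (S : Subgroup G) P := by
  have hal : a * l * a⁻¹ ∈ zl (S : Subgroup G) P := (mem_normalizer_iff.1 (hB.bau_norm ha) l).1 hl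
  refine mem_ZJ_of hB (mul_mem hal (inv_mem hl)) fun i => ?_
  have h1 := inv_mem (comm_mem_sup hB i hl ha)
  have e : ⁅l, a⁆⁻¹ = a * l * a⁻¹ * l⁻¹ := by rw [commutatorElement_def]; group
  rwa [e] at h1

variable (hall : ∀ F, NOne.Flat.Hyp V F → NOne.Flat.WW V F ≤ (S : Subgroup G) → NOne.Flat.WW V F ≤ o2 Y)
include hall

/-- `Y` permutes the `F` with `W_F ≤ S` -/
theorem W_cj {F : Subgroup G} (hF : NOne.Flat.Hyp V F) (hW : NOne.Flat.WW V F ≤ (S : Subgroup G)) {y : G} (hy : y ∈ Y) :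
    NOne.Flat.Hyp V (MulAut.conj y • F) ∧ NOne.Flat.WW V (MulAut.conj y • F) ≤ (S : Subgroup G) := by
  have hyV : y ∈ normalizer (V : Set G) := hV.norm (h.Y_le hy)
  refine ⟨hyp_cj hF hyV, ?_⟩
  rw [WY.WW_cj hyV]
  have h2 := cj_mono y (hall F hF hW)
  rw [cj_eq_of_mem_normalizer (ZN.le_normalizer_o2 _ hy)] at h2
  exact h2.trans h.o2Y_le

theorem KK_norm : Y ≤ normalizer (KK (S : Subgroup G) V : Set G) := by
  intro y hy
  have hyV : y ∈ normalizer (V : Set G) := hV.norm (h.Y_le hy)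
  refine mem_normalizer_of_cj_le (cj_le_iff.2 (sSup_le ?_))
  rintro _ ⟨F, hF, hW, rfl⟩
  have hyi := Y.inv_mem hy
  have hyVi : y⁻¹ ∈ normalizer (V : Set G) := hV.norm (h.Y_le hyi)
  obtain ⟨h1, h2⟩ := W_cj h hB hV hall hF hW hy
  have h3 := cj_mono y⁻¹ (le_KK h1 h2)
  rwa [WY.WW_cj hyV, cj_inv_cj] at h3

/-- `R = ⟨Z_J^Y⟩` centralises the `W_F ≤ S` -/
theorem R_cent {F : Subgroup G} (hF : NOne.Flat.Hyp V F) (hW : NOne.Flat.WW V F ≤ (S : Subgroup G)) :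
    cl (WY.ZJ (S : Subgroup G) P) Y ≤ centralizer (NOne.Flat.WW V F : Set G) := by
  refine cl_le fun y hy => le_centralizer_iff.1 ?_
  have hyi := Y.inv_mem hy
  have hyV : y⁻¹ ∈ normalizer (V : Set G) := hV.norm (h.Y_le hyi)
  obtain ⟨h1, h2⟩ := W_cj h hB hV hall hF hW hyi
  have h3 := (h.W_B hV h1 h2).trans inf_le_right
  rw [WY.WW_cj hyV] at h3
  have h4 := cj_mono y h3
  rwa [cj_cj_inv, cj_centralizer] at h4

/-- `⟨V_P^Y⟩ ≤ E_F` -/
theorem U_le_E {F : Subgroup G} (hF : NOne.Flat.Hyp V F) (hW : NOne.Flat.WW V F ≤ (S : Subgroup G)) :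
    cl (zl (S : Subgroup G) P) Y ≤ NOne.Flat.EE V F := by
  refine cl_le fun y hy => ?_
  have hyi := Y.inv_mem hy
  have hyV : y ∈ normalizer (V : Set G) := hV.norm (h.Y_le hy)
  have hyVi : y⁻¹ ∈ normalizer (V : Set G) := hV.norm (h.Y_le hyi)
  obtain ⟨h1, h2⟩ := W_cj h hB hV hall hF hW hyi
  have h3 := cj_mono y (h.L_le_E hV h1 h2)
  refine h3.trans ?_
  rw [← NOne.Flat.EE_conj hyVi]
  exact (cj_cj_inv y (NOne.Flat.EE V F)).le

theorem RL [Finite ι] (hact : ∃ F, ActW S P V F) :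
    cl (WY.ZJ (S : Subgroup G) P) Y ⊓ zl (S : Subgroup G) P ≤ WY.ZJ (S : Subgroup G) P := by
  obtain ⟨F₀, hF₀⟩ := hact
  rintro u ⟨huR, huL⟩
  have hBB : WY.BB (S : Subgroup G) P = B := hB.eqB.symm
  refine mem_ZJ_of hB huL fun i => ?_
  obtain ⟨F, hF, hWS, -, hi⟩ := act_of (K := (S : Subgroup G)) (Λ := ⊥) h hV hF₀ hB (fun _ _ h1 => h1)
    (fun _ _ _ => bot_le) i
  exact mem_sup_of_cent hB (hBB ▸ h.W_B hV hF hWS) hi huL fun b hb =>
    mem_centralizer_iff.1 (R_cent h hB hV hall hF hWS huR) b hb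

theorem CT (hY : ¬ Y ≤ normalizer (WY.ZJ (S : Subgroup G) P : Set G)) :
    T ⊓ centralizer (cl (WY.ZJ (S : Subgroup G) P) Y : Set G) ≤ o2 Y := by
  have hRn : Y ≤ normalizer (cl (WY.ZJ (S : Subgroup G) P) Y : Set G) := le_normalizer_cl _ _
  have hYY : Y ≤ normalizer ((Y ⊓ centralizer (cl (WY.ZJ (S : Subgroup G) P) Y : Set G) : Subgroup G) : Set G) :=
    NO3b.EZero.le_normalizer_inf_cent hRn
  rcases NO3b.K0.min_or h.syl h.min (K := Y ⊓ centralizer (cl (WY.ZJ (S : Subgroup G) P) Y : Set G))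
    inf_le_left hYY with h4 | h4
  · exfalso
    apply hY
    rw [← oddGen_sup_syl h.syl]
    exact sup_le (((h4.trans inf_le_right).trans (centralizer_le (le_cl _ _))).trans
      (centralizer_le_normalizer _)) (h.TS.trans hB.SZJ)
  · exact (le_inf inf_le_left (le_inf (inf_le_left.trans h.T_Y) inf_le_right)).trans h4

end wq

/-- `Z_J ≤ ⨆ Z_i` -/
theorem ZJ_le_iSup {S : Sylow 2 G} {P B ZJ : Subgroup G} {ι : Type} [Finite ι] {L W Z C : ι → Subgroup G} {q : ℕ}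
    (h : Bg S P B ZJ L W Z C q) : ZJ ≤ ⨆ i, Z i := by
  classical
  have := Fintype.ofFinite ι
  intro v hv
  have key : ∀ s : Finset ι, ∃ u ∈ ⨆ i, Z i, ∀ j ∈ s, u⁻¹ * v ∈ C j := by
    intro s
    induction s using Finset.induction_on with
    | empty => exact ⟨1, one_mem _, by simp⟩
    | insert j s hj ih =>
      obtain ⟨u, hu, h1⟩ := ih
      have hle : (⨆ i, Z i) ≤ ZJ := iSup_le h.fr.Z_le
      obtain ⟨w, hw, c, hc, -, e⟩ := h.fr.split_ZJ j (mul_mem (inv_mem (hle hu)) hv)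
      refine ⟨u * w, mul_mem hu (mem_iSup_of_mem j hw), fun l hl => ?_⟩
      have e1 : (u * w)⁻¹ * v = w⁻¹ * (u⁻¹ * v) := by group
      rw [e1]
      rcases Finset.mem_insert.1 hl with rfl | hl
      · rw [e]
        have : w⁻¹ * (w * c) = c := by group
        rwa [this]
      · have hlj : l ≠ j := fun e => hj (e ▸ hl)
        exact mul_mem (inv_mem (h.fr.WjC l j hlj ((h.fr.blk j).ZV hw))) (h1 l hl)
  obtain ⟨u, hu, h1⟩ := key Finset.univ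
  have hle : (⨆ i, Z i) ≤ ZJ := iSup_le h.fr.Z_le
  have h2 : u⁻¹ * v = 1 := h.fr.C0 _ (h.fr.ZJV (mul_mem (inv_mem (hle hu)) hv)) fun j => h1 j (Finset.mem_univ _)
  rw [← inv_mul_eq_one.1 h2]
  exact hu

/-- the three facts of 404 -/
structure Ft {ι : Type*} (T : Subgroup G) (Nn Zz : ι → Subgroup G) : Prop where
  ft : ∀ l, ∀ t ∈ T, (∀ v ∈ Zz l, t * v = v * t) →
    (∀ w ∈ Nn l, t * w * t⁻¹ * w⁻¹ ∈ Zz l) ∧
      ((∀ w ∈ Nn l, t * w = w * t) ∨ ∀ z ∈ Zz l, ∃ w ∈ Nn l, z = t * w * t⁻¹ * w⁻¹)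
  cyc : ∀ l, ∃ g : G, (∀ v ∈ Zz l, g * v * g⁻¹ ∈ Zz l) ∧ ∀ t ∈ T, (∀ v ∈ Zz l, t * v * t⁻¹ ∈ Zz l) →
    ∃ n : ℤ, ∀ v ∈ Zz l, t * v * t⁻¹ = g ^ n * v * (g ^ n)⁻¹
  off : ∀ l, ∀ A ≤ T, (∀ w ∈ Nn l, ∀ a ∈ A, ∀ b ∈ A, b * (a * w * a⁻¹ * w⁻¹) = a * w * a⁻¹ * w⁻¹ * b) →
    (centralizer (A : Set G)).relIndex (Nn l) ≤ (centralizer (Nn l : Set G)).relIndex A →
      ∀ a ∈ A, ∀ v ∈ Zz l, a * v = v * a

section sit

variable {S : Sylow 2 G} {P T Y V B : Subgroup G} {ι : Type} [Finite ι] {L W Z C : ι → Subgroup G} {q : ℕ}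

/-- **`Sit`** -/
theorem sit_of (h : WQ S P T Y) (hB : Bg S P B (WY.ZJ (S : Subgroup G) P) L W Z C q) (hV : Md S P Y V)
    (hq : 4 ≤ q) (hTZ : ∀ i, T ≤ normalizer (Z i : Set G))
    (hall : ∀ F, NOne.Flat.Hyp V F → NOne.Flat.WW V F ≤ (S : Subgroup G) → NOne.Flat.WW V F ≤ o2 Y)
    (hact : ∃ F, ActW S P V F) (hY : ¬ Y ≤ normalizer (WY.ZJ (S : Subgroup G) P : Set G)) (hft : Ft T W Z) :
    Sit V (zl (S : Subgroup G) P) (o2 P) T Y (KK (S : Subgroup G) V) (WY.ZJ (S : Subgroup G) P)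
      (cl (WY.ZJ (S : Subgroup G) P) Y) W Z q := by
  have hVc : ∀ x ∈ V, ∀ y ∈ V, x * y = y * x := fun x hx y hy => (mem_centralizer_iff.1 ((h.Vc hV) hx) y hy).symm
  have hUV : cl (zl (S : Subgroup G) P) Y ≤ V := cl_le fun y hy => by
    have h1 := cj_mono y (h.L_le_V hV)
    rwa [cj_eq_of_mem_normalizer (hV.norm (h.Y_le hy))] at h1
  exact
  { four := hq
    Vc := hVc
    Vs := fun x hx => by
      have := h.V_sq x (hV.le hx)
      rwa [sq] at this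
    LV := h.L_le_V hV
    QL := by
      rw [← h.cl.zc_eq]; exact Level.le_centralizer_zc _
    cVQ := by
      rw [← h.cvQ]
      exact inf_le_inf_right _ hV.le
    QT := h.QT
    TY := h.T_Y
    T2 := h.T2
    VT := (hV.le.trans h.V_le_D).trans h.DX_T
    YV := h.Y_le.trans hV.norm
    TZ := h.TS.trans hB.SZJ
    NL := hB.fr.WV
    ZN := fun l => (hB.fr.blk l).ZV
    ZJL := hB.fr.ZJV
    Zle := hB.fr.Z_le
    cardZ := hB.fr.cardZ
    cardN := fun l => by rw [(hB.fr.blk l).card, hB.fr.cardZ l]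
    Rle := fun M hM => cl_le fun y hy => by
      refine (cj_mono y (ZJ_le_iSup hB)).trans ?_
      rw [show cj y (⨆ i, Z i) = ⨆ i, cj y (Z i) from Subgroup.map_iSup _ _]
      exact iSup_le fun l => hM y hy l
    ZR := fun y hy => cj_le_cl hy
    YR := le_normalizer_cl _ _
    RL := RL h hB hV hall hact
    oY := fun y hy => by
      refine (CT h hB hV hall hY).trans ?_
      have h1 := cj_mono y h.o2Y_T
      rwa [cj_eq_of_mem_normalizer (ZN.le_normalizer_o2 _ hy)] at h1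
    KL := fun a ha l hl => comm_B h hB hV (KK_B h hB hV ha) hl
    ind := ind_of (Λ := cl (zl (S : Subgroup G) P) Y) (V := V) (fun l => (hB.fr.blk l).toMd) hB.fr.cardZ (KK_B h hB hV)
      (KK_norm h hB hV hall) (fun x hx y hy => hVc x (hUV hx) y (hUV hy))
      (fun y hy l => (cj_mono y (hB.fr.WV l)).trans (cj_le_cl hy))
      (by
        obtain ⟨F₀, hF₀⟩ := hact
        exact act_of h hV hF₀ hB (fun F hF hW => le_KK hF hW) (fun F hF hW => U_le_E h hB hV hall hF hW))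
    ft := hft.ft
    cyc := hft.cyc
    syl := fun y hy l X hX hX2 hXn => exists_cj_le h.syl (hTZ l) hy hX hX2 hXn
    off := hft.off }

/-- **THEOREM L(q)** over `WQ`, `Bg` -/
theorem norm_of (h : WQ S P T Y) (hB : Bg S P B (WY.ZJ (S : Subgroup G) P) L W Z C q) (hV : Md S P Y V)
    (hq : 4 ≤ q) (hTZ : ∀ i, T ≤ normalizer (Z i : Set G))
    (hall : ∀ F, NOne.Flat.Hyp V F → NOne.Flat.WW V F ≤ (S : Subgroup G) → NOne.Flat.WW V F ≤ o2 Y)
    (hact : ∃ F, ActW S P V F) (hft : Ft T W Z) : Y ≤ normalizer (WY.ZJ (S : Subgroup G) P : Set G) := by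
  by_contra hY
  refine hY ((sit_of h hB hV hq hTZ hall hact hY hft).norm fun z hz hz1 => ?_)
  obtain ⟨F, hF⟩ := hact
  exact AtG.exists_at h hB hV ⟨F, hF.hyp, hF.WS, hF.mv⟩ hz hz1

end sit

end Cfsg.Agent.Omega.NO3S.CaseLW.LThm.SitG
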