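import Cfsg.Agent.Omega.NO3S.CaseLW.LThm.Main
import Cfsg.Agent.Omega.NO3S.CaseLW.LThm.GEnd
import Cfsg.Agent.Omega.NO3S.CaseLW.LThm.IndOf
import Cfsg.Agent.Omega.NO3S.CaseLW.LThm.FT
import Cfsg.Agent.Omega.NO3S.CaseLW.QWc
import Cfsg.Agent.Omega.Node.MulX
import Cfsg.Agent.Omega.EK3.QX.HpX

/-!
# THEOREM L(q) (#26406) : the instance of `Sit` over `MulL`, `WQ` (helper216)

`KF S V` : the group generated by all `W_F ≤ S`.  If all `W_F ≤ S` lie in `O₂(Y)`: `KF_norm`, `KF_le` (`≤ B`), `U_le_E`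
(`⟨V_P^Y⟩ ≤ E_F`), `KF_cent`, `RL`, `oY`, `KL`; `ft_all`, `cyc_all`, `off_all`; **`sit_of`**.
-/

set_option autoImplicit false
set_option linter.unusedSectionVars false

namespace Cfsg.Agent.Omega.NO3S.CaseLW.LThm

open Subgroup Cfsg Cfsg.Agent.ZN Cfsg.Agent.ZN.ChoiceBase Cfsg.Agent.Omega.MinPar Cfsg.Agent.Omega.Frame
open Cfsg.Agent.MinSimple.VModule (oddGen)
open Cfsg.Agent.Omega.NO3b.EZero (cl cl_le le_cl cj_le_cl le_normalizer_cl oddGen_sup_syl)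
open Cfsg.Agent.Omega.NO3S.WY (WQ Md ActW BB)
open Cfsg.Agent.Omega.NO3S.RedC (GX DX)
open Cfsg.Agent.Omega.Node.MulX (MulL)
open scoped Pointwise

universe u

variable {G : Type u} [Group G] [Finite G]

/-- the group generated by all `W_F ≤ S` -/
def KF (S : Sylow 2 G) (V : Subgroup G) : Subgroup G :=
  sSup {A | ∃ F, NOne.Flat.Hyp V F ∧ NOne.Flat.WW V F ≤ (S : Subgroup G) ∧ A = NOne.Flat.WW V F}

theorem le_KF {S : Sylow 2 G} {V F : Subgroup G} (hF : NOne.Flat.Hyp V F)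
    (hW : NOne.Flat.WW V F ≤ (S : Subgroup G)) : NOne.Flat.WW V F ≤ KF S V := le_sSup ⟨F, hF, hW, rfl⟩

section sit

variable {S : Sylow 2 G} {P B ZJ : Subgroup G} {k : ℕ} {L W Z C A : Fin k → Subgroup G} {q : ℕ}
  (h : MulL S P B ZJ L W Z C A q) {T Y V : Subgroup G} (w : WQ S P T Y) (hV : Md S P Y V)
  (hall : ∀ F, NOne.Flat.Hyp V F → NOne.Flat.WW V F ≤ (S : Subgroup G) → NOne.Flat.WW V F ≤ o2 Y)

include w hV hall in
/-- `W_F ≤ S` ⟹ `W_F^y = W_(F^y) ≤ S` -/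
theorem cj_WS {F : Subgroup G} (hF : NOne.Flat.Hyp V F) (hW : NOne.Flat.WW V F ≤ (S : Subgroup G)) {y : G}
    (hy : y ∈ Y) : NOne.Flat.Hyp V (MulAut.conj y • F) ∧
      NOne.Flat.WW V (MulAut.conj y • F) = cj y (NOne.Flat.WW V F) ∧
      NOne.Flat.WW V (MulAut.conj y • F) ≤ (S : Subgroup G) := by
  have hyV : y ∈ normalizer (V : Set G) := hV.norm (w.Y_le hy)
  have e := WY.WW_cj (F := F) hyV
  refine ⟨WY.hyp_cj hF hyV, e, ?_⟩
  rw [e]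
  exact (QWc.cj_le_o2 w (hall F hF hW) hy).trans w.o2Y_le

include w hV hall in
theorem KF_norm : Y ≤ normalizer (KF S V : Set G) := by
  intro y hy
  refine mem_normalizer_of_cj_le (cj_le_iff.2 (sSup_le ?_))
  rintro _ ⟨F, hF, hW, rfl⟩
  obtain ⟨h1, h2, h3⟩ := cj_WS w hV hall hF hW hy
  have h4 := cj_mono y⁻¹ (le_KF h1 h3)
  rwa [h2, cj_inv_cj] at h4

include h w hV in
theorem KF_le : KF S V ≤ B := by
  refine sSup_le ?_
  rintro _ ⟨F, hF, hW, rfl⟩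
  have e : BB (S : Subgroup G) P = B := h.eqB.symm
  exact e ▸ w.W_B hV hF hW

include w hV hall in
/-- `⟨V_P^Y⟩ ≤ E_F` for all `W_F ≤ S` -/
theorem U_le_E {F : Subgroup G} (hF : NOne.Flat.Hyp V F) (hW : NOne.Flat.WW V F ≤ (S : Subgroup G)) :
    cl (zl (S : Subgroup G) P) Y ≤ NOne.Flat.EE V F := by
  refine cl_le fun y hy => ?_
  obtain ⟨h1, -, h3⟩ := cj_WS w hV hall hF hW (Y.inv_mem hy)
  have h4 := cj_mono y (w.L_le_E hV h1 h3)
  refine h4.trans ?_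
  have hyV : y ∈ normalizer (V : Set G) := hV.norm (w.Y_le hy)
  have e : MulAut.conj y • NOne.Flat.EE V (MulAut.conj y⁻¹ • F) = NOne.Flat.EE V F := by
    rw [NOne.Flat.EE_conj hyV, smul_smul, ← map_mul, mul_inv_cancel, map_one, one_smul]
  exact e.le

include h w hV hall in
/-- `KF` centralises `⟨Z_J^Y⟩` -/
theorem KF_cent : KF S V ≤ centralizer (cl ZJ Y : Set G) := by
  refine le_centralizer_iff.1 (cl_le fun y hy => le_centralizer_iff.1 ?_)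
  have h1 : KF S V ≤ centralizer (ZJ : Set G) := (KF_le h w hV).trans (h.eB.le.trans inf_le_right)
  have h2 := cj_mono y h1
  rwa [cj_eq_of_mem_normalizer (KF_norm w hV hall hy), cj_centralizer] at h2

include h w hV hall in
/-- `R ∩ V_P = Z_J` -/
theorem RL (ha : ∃ F, ActW S P V F) : cl ZJ Y ⊓ zl (S : Subgroup G) P ≤ ZJ := by
  obtain ⟨F₀, hF₀⟩ := ha
  have hact := act_of (Λ := ⊥) (K := KF S V) w hV hF₀ h.bg (fun F hF hW => le_KF hF hW) (fun _ _ _ => bot_le)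
  rintro x ⟨hxR, hxL⟩
  refine mem_ZJ_of h.bg hxL fun i => ?_
  obtain ⟨F, hF, hWK, -, hmv⟩ := hact i
  refine mem_sup_of_cent h.bg (hWK.trans (KF_le h w hV)) hmv hxL fun b hb => ?_
  exact (mem_centralizer_iff.1 (KF_cent h w hV hall (hWK hb)) x hxR).symm

include h w in
/-- `C_T(R) ≤ O₂(Y) ≤ T^y` -/
theorem oY (hYZ : ¬ Y ≤ normalizer (ZJ : Set G)) {y : G} (hy : y ∈ Y) :
    T ⊓ centralizer (cl ZJ Y : Set G) ≤ MulAut.conj y • T := by
  have hYY : Y ≤ normalizer ((Y ⊓ centralizer (cl ZJ Y : Set G) : Subgroup G) : Set G) :=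
    NO3b.EZero.le_normalizer_inf_cent (le_normalizer_cl _ _)
  have h1 : T ⊓ centralizer (cl ZJ Y : Set G) ≤ o2 Y := by
    rcases NO3b.K0.min_or w.syl w.min (K := Y ⊓ centralizer (cl ZJ Y : Set G)) inf_le_left hYY with h2 | h2
    · refine absurd ?_ hYZ
      rw [← oddGen_sup_syl w.syl]
      refine sup_le ?_ (w.TS.trans h.bg.SZJ)
      exact ((h2.trans inf_le_right).trans (centralizer_le (le_cl _ _))).trans (centralizer_le_normalizer _)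
    · exact (le_inf inf_le_left (le_inf (inf_le_left.trans w.T_Y) inf_le_right)).trans h2
  have h2 := cj_mono y w.o2Y_T
  rw [cj_eq_of_mem_normalizer (ZN.le_normalizer_o2 _ hy)] at h2
  exact h1.trans h2

include h in
/-- `[V_P, B] ≤ Z_J` -/
theorem KL {a l : G} (ha : a ∈ B) (hl : l ∈ zl (S : Subgroup G) P) : a * l * a⁻¹ * l⁻¹ ∈ ZJ := by
  have hLc : ∀ x ∈ zl (S : Subgroup G) P, ∀ y ∈ zl (S : Subgroup G) P, x * y = y * x := fun x hx y hy => h.fr.Vc hx hy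
  have hW : zl (S : Subgroup G) P ≤ ⨆ i, W i := Node.MultiOf.Fg_V_le h.bg.fr
  have hWL : (⨆ i, W i) ≤ zl (S : Subgroup G) P := iSup_le h.fr.WV
  have key : ∀ l ∈ (⨆ i, W i), a * l * a⁻¹ * l⁻¹ ∈ ZJ := by
    intro l hl
    suffices h0 : l ∈ (⨆ i, W i) ∧ a * l * a⁻¹ * l⁻¹ ∈ ZJ from h0.2
    refine Subgroup.iSup_induction W (C := fun l => l ∈ (⨆ i, W i) ∧ a * l * a⁻¹ * l⁻¹ ∈ ZJ) hl
      (fun i x hx => ⟨le_iSup W i hx, h.fr.Z_le i ((h.fr.blk i).com a ha x hx)⟩)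
      ⟨one_mem _, by simp⟩ ?_
    rintro x y ⟨hx, hx'⟩ ⟨hy, hy'⟩
    refine ⟨mul_mem hx hy, ?_⟩
    have h1 : a * (x * y) * a⁻¹ * (x * y)⁻¹ = (a * x * a⁻¹ * x⁻¹) * (x * (a * y * a⁻¹ * y⁻¹) * x⁻¹) := by group
    have h2 : x * (a * y * a⁻¹ * y⁻¹) * x⁻¹ = a * y * a⁻¹ * y⁻¹ := by
      rw [hLc x (hWL hx) _ (h.fr.ZJV hy'), mul_inv_cancel_right]
    rw [h1, h2]
    exact mul_mem hx' hy'
  exact key l (hW hl)

include h in
theorem ZJ_le_iS : ZJ ≤ ⨆ l, Z l := by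
  classical
  have key : ∀ s : Finset (Fin k), ∀ v ∈ ZJ, ∃ w ∈ (⨆ l, Z l), w ∈ ZJ ∧ ∀ i ∈ s, w⁻¹ * v ∈ C i := by
    intro s
    induction s using Finset.induction_on with
    | empty => exact fun v _ => ⟨1, one_mem _, one_mem _, fun i hi => by simp at hi⟩
    | insert j s hj ih =>
      intro v hv
      obtain ⟨w, hw, hwJ, hwC⟩ := ih v hv
      obtain ⟨a, ha, c, hc, -, e⟩ := h.fr.split_ZJ j (mul_mem (inv_mem hwJ) hv)
      refine ⟨w * a, mul_mem hw ((le_iSup Z j) ha), mul_mem hwJ (h.fr.Z_le j ha), fun i hi => ?_⟩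
      have e1 : (w * a)⁻¹ * v = a⁻¹ * (w⁻¹ * v) := by group
      rw [e1]
      rcases Finset.mem_insert.1 hi with rfl | hi
      · rw [e]
        have : a⁻¹ * (a * c) = c := by group
        rw [this]
        exact hc
      · have hij : i ≠ j := fun e => hj (e ▸ hi)
        exact mul_mem (inv_mem (h.fr.WjC i j hij ((h.fr.blk j).ZV ha))) (hwC i hi)
  intro v hv
  obtain ⟨w, hw, hwJ, hwC⟩ := key Finset.univ v hv
  have h1 := h.fr.C0 (w⁻¹ * v) (mul_mem (inv_mem (h.fr.ZJV hwJ)) (h.fr.ZJV hv)) fun i => hwC i (Finset.mem_univ i)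
  rw [← inv_mul_eq_one.1 h1]
  exact hw

include h w in
theorem V2 : ∀ x ∈ zc (DX (S : Subgroup G) P Y), x * x = 1 := fun x hx => by
  rw [← pow_two]; exact w.V_sq x hx

include h w hV hall in
/-- **the instance of `Sit`** over `MulL`, `WQ` -/
theorem sit_of (hq : 4 ≤ q) (hTZ : ∀ i, T ≤ normalizer (Z i : Set G)) (ha : ∃ F, ActW S P V F)
    (hYZ : ¬ Y ≤ normalizer (ZJ : Set G))
    (ft : ∀ l, ∀ t ∈ T, (∀ v ∈ Z l, t * v = v * t) →
      (∀ w ∈ W l, t * w * t⁻¹ * w⁻¹ ∈ Z l) ∧ ((∀ w ∈ W l, t * w = w * t) ∨ ∀ z ∈ Z l, ∃ w ∈ W l, z = t * w * t⁻¹ * w⁻¹))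
    (cyc : ∀ l, ∃ g : G, (∀ v ∈ Z l, g * v * g⁻¹ ∈ Z l) ∧ ∀ t ∈ T, (∀ v ∈ Z l, t * v * t⁻¹ ∈ Z l) →
      ∃ n : ℤ, ∀ v ∈ Z l, t * v * t⁻¹ = g ^ n * v * (g ^ n)⁻¹)
    (off : ∀ l, ∀ A ≤ T, (∀ w ∈ W l, ∀ a ∈ A, ∀ b ∈ A, b * (a * w * a⁻¹ * w⁻¹) = a * w * a⁻¹ * w⁻¹ * b) →
      (centralizer (A : Set G)).relIndex (W l) ≤ (centralizer (W l : Set G)).relIndex A →
        ∀ a ∈ A, ∀ v ∈ Z l, a * v = v * a) :
    Sit V (zl (S : Subgroup G) P) (o2 P) T Y (KF S V) ZJ (cl ZJ Y) W Z q := by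
  have hVc : ∀ x ∈ V, ∀ y ∈ V, x * y = y * x := fun x hx y hy =>
    (mem_centralizer_iff.1 (w.Vc hV hx) y hy).symm
  have hLV := w.L_le_V hV
  have hYV : Y ≤ normalizer (V : Set G) := w.Y_le.trans hV.norm
  have hΛV : cl (zl (S : Subgroup G) P) Y ≤ V := QWc.U_le w hV
  obtain ⟨F₀, hF₀⟩ := ha
  have hZL : ∀ i, Z i ≤ zl (S : Subgroup G) P := fun i => (h.fr.blk i).ZV.trans (h.fr.WV i)
  exact
  { four := hq
    Vc := hVc
    Vs := fun x hx => V2 h w x (hV.le hx)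
    LV := hLV
    QL := by rw [← w.cl.zc_eq]; exact Level.le_centralizer_zc _
    cVQ := by rw [← w.cvQ]; exact inf_le_inf_right _ hV.le
    QT := w.QT
    TY := w.T_Y
    T2 := w.T2
    VT := (hV.le.trans w.V_le_D).trans w.DX_T
    YV := hYV
    TZ := w.TS.trans h.bg.SZJ
    NL := h.fr.WV
    ZN := fun i => (h.fr.blk i).ZV
    ZJL := h.fr.ZJV
    Zle := h.fr.Z_le
    cardZ := h.fr.cardZ
    cardN := fun i => by rw [(h.fr.blk i).card, h.fr.cardZ i]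
    Rle := fun M hM => by
      have hZJ : ZJ ≤ ⨆ i, Z i := ZJ_le_iS h
      exact cl_le fun y hy => cj_le_iff.2 (hZJ.trans (iSup_le fun i => cj_le_iff.1 (hM y hy i)))
    ZR := fun y hy => cj_le_cl hy
    YR := le_normalizer_cl _ _
    RL := RL h w hV hall ⟨F₀, hF₀⟩
    oY := fun y hy => oY h w hYZ hy
    KL := fun a ha l hl => KL h (KF_le h w hV ha) hl
    ind := ind_of (fun l => (h.fr.blk l).toMd) h.fr.cardZ (KF_le h w hV) (KF_norm w hV hall)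
      (fun x hx y hy => hVc x (hΛV hx) y (hΛV hy))
      (fun y hy l => (cj_mono y (h.fr.WV l)).trans (cj_le_cl hy))
      (act_of w hV hF₀ h.bg (fun F hF hW => le_KF hF hW) (fun F hF hW => U_le_E w hV hall hF hW))
    ft := ft
    cyc := cyc
    syl := fun y hy l X hX hX2 hXn => exists_cj_le w.syl (hTZ l) hy hX hX2 hXn
    off := off }

end sit

end Cfsg.Agent.Omega.NO3S.CaseLW.LThm
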